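import Mathlib

/-!
Arithmetic: an element of order the odd part of `q - ε` in a group of elements over a subfield with `q0` elements,
`q = q0 ^ m`, forces `m = 1`.
-/

set_option autoImplicit false

namespace Cfsg.Agent.LFourR.Arith

/-- `1 + Q + ... + Q ^ (m-1)` is odd for `Q`, `m` odd -/
theorem odd_geom (Q : ℤ) (hQ : Odd Q) (m : ℕ) : Odd (∑ i ∈ Finset.range m, Q ^ i) ↔ Odd m := by
  induction m with
  | zero => simp
  | succ n ih =>
    rw [Finset.sum_range_succ]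
    have h1 : Odd (Q ^ n) := hQ.pow
    rw [Int.odd_add, ih]
    constructor
    · intro h
      rw [Nat.odd_add_one, Nat.not_odd_iff_even]
      by_contra hc
      rw [Nat.not_even_iff_odd] at hc
      exact Int.not_even_iff_odd.2 h1 (h.1 hc)
    · intro h
      rw [Nat.odd_add_one, Nat.not_odd_iff_even] at h
      constructor
      · intro h2; exact absurd h (Nat.not_even_iff_odd.2 h2)
      · intro h2; exact absurd h2 (Int.not_even_iff_odd.2 h1)

theorem dvd_of_mul_pow_two {S N : ℤ} {r : ℤ} {k : ℕ} (hS : Odd S) (h : r * S = N * 2 ^ k) : ∃ r', r = r' * 2 ^ k ∧ r' * S = N := by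
  have h1 : (2 : ℤ) ^ k ∣ r * S := ⟨N, by rw [h]; ring⟩
  have h2 : IsCoprime ((2 : ℤ) ^ k) S := by
    apply IsCoprime.pow_left
    exact (Int.isCoprime_iff_gcd_eq_one.2 (by
      rw [Int.gcd_comm]
      obtain ⟨s, rfl⟩ := hS
      have : IsCoprime (2 * s + 1) (2 : ℤ) := ⟨1, -s, by ring⟩
      exact Int.isCoprime_iff_gcd_eq_one.1 this))
  obtain ⟨r', hr'⟩ := h2.dvd_of_dvd_mul_right h1
  refine ⟨r', by rw [hr']; ring, ?_⟩
  have h3 : (2 : ℤ) ^ k ≠ 0 := by positivity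
  apply mul_left_cancel₀ h3
  rw [← mul_assoc, ← hr', h]; ring

theorem arith (q0 m N k : ℕ) (ε : ℤ) (hε : ε = 1 ∨ ε = -1) (hq0 : Odd q0) (h3 : 3 ≤ q0) (hm : 1 ≤ m)
    (hN : Odd N) (hN1 : 1 < N) (h : ((q0 : ℤ) ^ m) - ε = N * 2 ^ k) (hns : ε = 1 → Odd m)
    (hdiv : (N : ℤ) ∣ q0 - 1 ∨ (N : ℤ) ∣ q0 + 1) : m = 1 := by
  have hN2 : ¬ (N : ℤ) ∣ 2 := by
    intro hd
    have : N ∣ 2 := by exact_mod_cast hd
    have hle := Nat.le_of_dvd (by norm_num) this
    have : N = 2 := by omega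
    subst this
    exact absurd hN (by decide)
  have hNq : (N : ℤ) ∣ (q0 : ℤ) ^ m - ε := ⟨2 ^ k, h⟩
  have hsq : ε * ε = 1 := by rcases hε with rfl | rfl <;> norm_num
  -- the sign of `q0` modulo `N`
  obtain ⟨δ, hδ, hδN⟩ : ∃ δ : ℤ, (δ = 1 ∨ δ = -1) ∧ (N : ℤ) ∣ q0 - δ := by
    rcases hdiv with h | h
    · exact ⟨1, Or.inl rfl, h⟩
    · exact ⟨-1, Or.inr rfl, by rwa [sub_neg_eq_add]⟩
  have hpow : (N : ℤ) ∣ (q0 : ℤ) ^ m - δ ^ m := hδN.trans (sub_dvd_pow_sub_pow _ _ _)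
  have hεδ : (N : ℤ) ∣ ε - δ ^ m := by
    have := dvd_sub hpow hNq
    have e : (q0 : ℤ) ^ m - δ ^ m - ((q0 : ℤ) ^ m - ε) = ε - δ ^ m := by ring
    rwa [e] at this
  have hcase : ε = δ ^ m := by
    rcases hε with rfl | rfl <;> rcases hδ with rfl | rfl
    · simp
    · rcases Nat.even_or_odd m with h2 | h2
      · rw [h2.neg_one_pow]
      · rw [h2.neg_one_pow] at hεδ; exact absurd hεδ (by norm_num; exact hN2)
    · rw [one_pow] at hεδ
      exact absurd ((dvd_neg.2 hεδ)) (by norm_num; exact hN2)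
    · rcases Nat.even_or_odd m with h2 | h2
      · rw [h2.neg_one_pow] at hεδ
        exact absurd ((dvd_neg.2 hεδ)) (by norm_num; exact hN2)
      · rw [h2.neg_one_pow]
  have hmo : Odd m := by
    rcases hε with rfl | rfl
    · exact hns rfl
    · by_contra hc
      rw [Nat.not_odd_iff_even] at hc
      rcases hδ with rfl | rfl
      · rw [one_pow] at hcase; norm_num at hcase
      · rw [hc.neg_one_pow] at hcase; norm_num at hcase
  have hδε : δ = ε := by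
    rcases hδ with rfl | rfl
    · rw [one_pow] at hcase; exact hcase.symm
    · rw [hmo.neg_one_pow] at hcase; exact hcase.symm
  subst hδε
  set Q : ℤ := δ * q0 with hQ
  have hQodd : Odd Q := by
    rcases hε with rfl | rfl
    · rw [hQ, one_mul]; exact_mod_cast hq0
    · rw [hQ, neg_one_mul]; exact (by exact_mod_cast hq0 : Odd (q0 : ℤ)).neg
  set S : ℤ := ∑ i ∈ Finset.range m, Q ^ i with hS
  have hSo : Odd S := (odd_geom Q hQodd m).2 hmo
  have hgeom : S * (Q - 1) = Q ^ m - 1 := geom_sum_mul Q m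
  have hQm : Q ^ m = δ * (q0 : ℤ) ^ m := by
    rw [hQ, mul_pow]
    congr 1
    exact hcase.symm
  have e1 : (q0 - δ) * S = N * 2 ^ k := by
    rw [← h]
    have : (q0 - δ) = δ * (Q - 1) := by rw [hQ]; linear_combination (- (q0 : ℤ)) * hsq
    rw [this]
    have : δ * (Q - 1) * S = δ * (S * (Q - 1)) := by ring
    rw [this, hgeom, hQm]
    linear_combination ((q0 : ℤ) ^ m) * hsq
  obtain ⟨r, hr1, hr2⟩ := dvd_of_mul_pow_two hSo e1
  -- `N = r S` divides `q0 - δ = r 2 ^ k`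
  have hr0 : r ≠ 0 := by
    rintro rfl
    rw [zero_mul] at hr2
    have : N = 0 := by exact_mod_cast hr2.symm
    omega
  have hSd : S ∣ 2 ^ k := by
    have h1 : r * S ∣ r * 2 ^ k := by rw [hr2, ← hr1]; exact hδN
    exact (mul_dvd_mul_iff_left hr0).1 h1
  have hSu : IsUnit S := by
    obtain ⟨s, hs⟩ := hSo
    have hcop : IsCoprime S ((2 : ℤ) ^ k) := by
      apply IsCoprime.pow_right
      exact ⟨1, -s, by rw [hs]; ring⟩
    exact hcop.isUnit_of_dvd' dvd_rfl hSd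
  have habs : |S| = 1 := Int.isUnit_iff_abs_eq.1 hSu
  -- size
  by_contra hm1
  have hm3 : 3 ≤ m := by
    obtain ⟨t, ht⟩ := hmo
    omega
  have hQabs : |Q| = q0 := by
    rw [hQ, abs_mul, Nat.abs_cast]
    rcases hε with rfl | rfl <;> simp
  have h4 : |Q ^ m - 1| = |Q - 1| := by rw [← hgeom, abs_mul, habs, one_mul]
  have h5 : |Q - 1| ≤ q0 + 1 := by
    calc |Q - 1| ≤ |Q| + |(1 : ℤ)| := abs_sub _ _
      _ = q0 + 1 := by rw [hQabs, abs_one]
  have h6 : (q0 : ℤ) ^ m - 1 ≤ |Q ^ m - 1| := by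
    calc (q0 : ℤ) ^ m - 1 = |Q ^ m| - |(1 : ℤ)| := by rw [abs_pow, hQabs, abs_one]
      _ ≤ |Q ^ m - 1| := abs_sub_abs_le_abs_sub _ _
  have h7 : (q0 : ℤ) ^ 3 ≤ (q0 : ℤ) ^ m := pow_le_pow_right₀ (by exact_mod_cast (by omega : 1 ≤ q0)) hm3
  have h8 : (3 : ℤ) ≤ q0 := by exact_mod_cast h3
  nlinarith [h4, h5, h6, h7, h8, mul_self_nonneg ((q0 : ℤ) - 3)]

end Cfsg.Agent.LFourR.Arith
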