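import Mathlib
import Cfsg.Agent.LFourR.Arith
import Cfsg.Agent.Lib.AutSL2Out
import Cfsg.Agent.ClassicalGeometry.SL2Order
import Cfsg.Agent.ClassicalGeometry.NonsplitTorus

/-!
Automorphisms of `SL(2, F)` centralising an element whose order is the odd part of `q - ε`: no field automorphisms.
-/

set_option autoImplicit false

namespace Cfsg.Agent.LFourR.FieldPart

open Matrix Cfsg.Agent.Lib.SL2Mat Cfsg.Agent.Lib.AutSL2 Cfsg.Agent.Lib.AutSL2Out

variable {F : Type*} [Field F]

/-- the companion matrix -/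
def comp (τ : F) : Matrix.SpecialLinearGroup (Fin 2) F := mk 0 (-1) 1 τ (by ring)

theorem coe_mk (a b c d : F) (h : a * d - b * c = 1) : (mk a b c d h).1 = !![a, b; c, d] := rfl

theorem val_pow (a : Matrix.SpecialLinearGroup (Fin 2) F) (n : ℕ) : (a ^ n).1 = a.1 ^ n :=
  Matrix.SpecialLinearGroup.coe_pow a n

theorem val_one : (1 : Matrix.SpecialLinearGroup (Fin 2) F).1 = 1 := Matrix.SpecialLinearGroup.coe_one

theorem val_mul (a b : Matrix.SpecialLinearGroup (Fin 2) F) : (a * b).1 = a.1 * b.1 :=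
  Matrix.SpecialLinearGroup.coe_mul a b

/-- a non-scalar matrix is conjugate to the companion matrix -/
theorem exists_conj_comp (a : Matrix.SpecialLinearGroup (Fin 2) F)
    (ha : ∀ c : F, a.1 ≠ c • (1 : Matrix (Fin 2) (Fin 2) F)) :
    ∃ P : GL (Fin 2) F, a.1 * P.1 = P.1 * (comp a.1.trace).1 := by
  have hd := a.2
  rw [det_fin_two] at hd
  have key : ∀ v0 v1 : F, v0 * (a.1 1 0 * v0 + a.1 1 1 * v1) - v1 * (a.1 0 0 * v0 + a.1 0 1 * v1) ≠ 0 →
      ∃ P : GL (Fin 2) F, a.1 * P.1 = P.1 * (comp a.1.trace).1 := by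
    intro v0 v1 hv
    refine ⟨GeneralLinearGroup.mkOfDetNeZero
      !![v0, a.1 0 0 * v0 + a.1 0 1 * v1; v1, a.1 1 0 * v0 + a.1 1 1 * v1] ?_, ?_⟩
    · rw [det_fin_two_of]
      intro h
      apply hv
      linear_combination h
    · change a.1 * !![v0, a.1 0 0 * v0 + a.1 0 1 * v1; v1, a.1 1 0 * v0 + a.1 1 1 * v1] =
        !![v0, a.1 0 0 * v0 + a.1 0 1 * v1; v1, a.1 1 0 * v0 + a.1 1 1 * v1] * !![0, -1; 1, a.1.trace]
      rw [trace_fin_two]
      ext i j
      fin_cases i <;> fin_cases j <;> simp [Matrix.mul_apply, Fin.sum_univ_two]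
      · linear_combination (-v0) * hd
      · linear_combination (-v1) * hd
  by_cases h10 : a.1 1 0 = 0
  · by_cases h01 : a.1 0 1 = 0
    · apply key 1 1
      rw [h10, h01]
      intro h
      apply ha (a.1 0 0)
      have h2 : a.1 1 1 = a.1 0 0 := by linear_combination h
      ext i j
      fin_cases i <;> fin_cases j <;> simp [h10, h01, h2]
    · apply key 0 1
      intro h
      apply h01
      linear_combination -h
  · apply key 1 0
    intro h
    apply h10
    linear_combination h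

theorem pow_eq_one_iff_comp (a : Matrix.SpecialLinearGroup (Fin 2) F)
    (ha : ∀ c : F, a.1 ≠ c • (1 : Matrix (Fin 2) (Fin 2) F)) (n : ℕ) :
    a ^ n = 1 ↔ comp a.1.trace ^ n = 1 := by
  obtain ⟨P, hP⟩ := exists_conj_comp a ha
  have h1 : a.1 ^ n * P.1 = P.1 * (comp a.1.trace).1 ^ n := by
    induction n with
    | zero => simp
    | succ n ih =>
      rw [pow_succ, Matrix.mul_assoc, hP, ← Matrix.mul_assoc, ih, Matrix.mul_assoc, ← pow_succ]
  have hPP : P.1 * (P⁻¹).1 = 1 := P.mul_inv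
  have hPP' : (P⁻¹).1 * P.1 = 1 := P.inv_mul
  constructor
  · intro h
    have h2 : a.1 ^ n = 1 := by
      rw [← val_pow, h, val_one]
    rw [h2, one_mul] at h1
    apply Subtype.ext
    rw [val_pow, val_one]
    calc (comp a.1.trace).1 ^ n = (P⁻¹).1 * P.1 * (comp a.1.trace).1 ^ n := by rw [hPP', one_mul]
      _ = 1 := by rw [Matrix.mul_assoc, ← h1, hPP']
  · intro h
    have h2 : (comp a.1.trace).1 ^ n = 1 := by
      rw [← val_pow, h, val_one]
    rw [h2, mul_one] at h1
    apply Subtype.ext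
    rw [val_pow, val_one]
    calc a.1 ^ n = a.1 ^ n * (P.1 * (P⁻¹).1) := by rw [hPP, mul_one]
      _ = 1 := by rw [← Matrix.mul_assoc, h1, hPP]

/-- a scalar matrix in `SL(2, F)` squares to one -/
theorem sq_eq_one_of_scalar (a : Matrix.SpecialLinearGroup (Fin 2) F) (c : F)
    (h : a.1 = c • (1 : Matrix (Fin 2) (Fin 2) F)) : a ^ 2 = 1 := by
  rcases Cfsg.Agent.ClassicalGeometry.NonsplitTorus.eq_one_or_of_smul a c h with rfl | rfl
  · simp
  · simp

theorem ne_scalar_of_orderOf {a : Matrix.SpecialLinearGroup (Fin 2) F} {N : ℕ} (ha : orderOf a = N) (hN : Odd N)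
    (hN1 : 1 < N) (c : F) : a.1 ≠ c • (1 : Matrix (Fin 2) (Fin 2) F) := by
  intro h
  have h1 := orderOf_dvd_of_pow_eq_one (sq_eq_one_of_scalar a c h)
  rw [ha] at h1
  have hle := Nat.le_of_dvd (by norm_num) h1
  have : N = 2 := by omega
  subst this
  exact absurd hN (by decide)

variable [Fintype F]

theorem ringEquiv_eq_one (a : Matrix.SpecialLinearGroup (Fin 2) F) {N k : ℕ} {ε : ℤ} (hε : ε = 1 ∨ ε = -1)
    (ha : orderOf a = N) (hN : Odd N) (hN1 : 1 < N) (hq : Odd (Fintype.card F))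
    (h : (Fintype.card F : ℤ) - ε = N * 2 ^ k) (hns : ε = 1 → ¬ IsSquare (Fintype.card F))
    (σ : F ≃+* F) (hσ : σ a.1.trace = a.1.trace) : σ = 1 := by
  classical
  obtain ⟨p, hpc⟩ := CharP.exists F
  have : CharP F p := hpc
  have hp : Fact p.Prime := ⟨CharP.char_is_prime F p⟩
  let K : Subfield F := (σ : F →+* F).eqLocusField (RingHom.id F)
  have hK : ∀ x : F, x ∈ K ↔ σ x = x := fun x => Iff.rfl
  have hcard : Fintype.card F = (Fintype.card K) ^ (Module.finrank K F) := Module.card_eq_pow_finrank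
  set q0 := Fintype.card K with hq0
  set m := Module.finrank K F with hm
  have hm1 : 1 ≤ m := Module.finrank_pos
  have hq0o : Odd q0 := by
    rw [hcard] at hq
    exact Nat.Odd.of_mul_left (m := q0) (n := q0 ^ (m - 1)) (by rwa [← pow_succ', Nat.sub_add_cancel hm1])
  have hq03 : 3 ≤ q0 := by
    have : 1 < q0 := Fintype.one_lt_card
    obtain ⟨t, ht⟩ := hq0o
    omega
  have hsc := ne_scalar_of_orderOf ha hN hN1
  -- the companion matrix over `K`
  let τ : K := ⟨a.1.trace, (hK _).2 hσ⟩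
  let b : Matrix.SpecialLinearGroup (Fin 2) K := mk 0 (-1) 1 τ (by ring)
  have hmap : SpecialLinearGroup.map K.subtype b = comp a.1.trace := by
    apply ext_ent
    · change K.subtype 0 = 0; simp
    · change K.subtype (-1) = -1; simp
    · change K.subtype 1 = 1; simp
    · rfl
  have hpow : ∀ n : ℕ, b ^ n = 1 → N ∣ n := by
    intro n hn
    rw [← ha]
    apply orderOf_dvd_of_pow_eq_one
    rw [pow_eq_one_iff_comp a hsc, ← hmap, ← map_pow, hn, map_one]
  have : CharP K p := (algebraMap K F).charP (algebraMap K F).injective p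
  have hNp : ¬ p ∣ N := by
    intro hd
    have h1 : (p : ℤ) ∣ (Fintype.card F : ℤ) - ε := by
      rw [h]; exact dvd_mul_of_dvd_left (by exact_mod_cast hd) _
    have h2 : (p : ℤ) ∣ (Fintype.card F : ℤ) := by
      obtain ⟨n, hn, hn'⟩ := FiniteField.card F p
      rw [hn']
      exact_mod_cast dvd_pow_self p n.pos.ne'
    have h3 : (p : ℤ) ∣ ε := by
      have := dvd_sub h2 h1
      simpa using this
    have h4 : (p : ℤ) ∣ 1 := by
      rcases hε with rfl | rfl
      · exact h3
      · exact (Int.dvd_neg).1 h3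
    have h5 : p ∣ 1 := by exact_mod_cast h4
    exact hp.out.one_lt.ne' (Nat.dvd_one.1 h5)
  have hdiv : (N : ℤ) ∣ q0 - 1 ∨ (N : ℤ) ∣ q0 + 1 := by
    rcases Cfsg.Agent.ClassicalGeometry.SL2Order.pow_cases (q := q0) rfl p b with h1 | h1 | h1
    · left
      have := hpow _ h1
      have h2 : ((q0 - 1 : ℕ) : ℤ) = (q0 : ℤ) - 1 := by omega
      rw [← h2]; exact_mod_cast this
    · right
      exact_mod_cast hpow _ h1
    · exfalso
      have h2 := hpow _ h1
      have h3 : Nat.Coprime N 2 := Nat.coprime_two_right.2 hN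
      have h4 : N ∣ p := h3.dvd_of_dvd_mul_left h2
      rcases (Nat.dvd_prime hp.out).1 h4 with h5 | h5
      · omega
      · exact hNp (h5 ▸ dvd_rfl)
  have hm1' : m = 1 := by
    refine Arith.arith q0 m N k ε hε hq0o hq03 hm1 hN hN1 ?_ ?_ hdiv
    · rw [← h, hcard]; push_cast; ring
    · intro he
      by_contra hc
      rw [Nat.not_odd_iff_even] at hc
      obtain ⟨t, ht⟩ := hc
      exact hns he ⟨q0 ^ t, by rw [hcard, ht, pow_add]⟩
  -- `K` is everything
  have hKcard : Fintype.card K = Fintype.card F := by rw [hcard, hm1', pow_one]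
  have hKtop : ∀ x : F, x ∈ K := by
    intro x
    have hsurj : Function.Surjective (K.subtype : K → F) :=
      ((Fintype.bijective_iff_injective_and_card _).2 ⟨K.subtype.injective, hKcard⟩).2
    obtain ⟨y, hy⟩ := hsurj x
    rw [← hy]; exact y.2
  ext x
  exact (hK x).1 (hKtop x)

end Cfsg.Agent.LFourR.FieldPart
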