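import Mathlib
import Cfsg.Agent.LFourR.FieldPart

/-!
`2 × 2` matrices: conjugacy, norm forms, and elements of `SL(2, F)` inducing given conjugations.
-/

set_option autoImplicit false

namespace Cfsg.Agent.LFourR.Mat2

open Matrix Cfsg.Agent.Lib.SL2Mat Cfsg.Agent.Lib.AutSL2 Cfsg.Agent.Lib.AutSL2Out
open Cfsg.Agent.LFourR.FieldPart (val_mul val_one val_pow)

variable {F : Type*} [Field F]

/-- scalar matrices -/
def IsSc (M : Matrix (Fin 2) (Fin 2) F) : Prop := ∃ c : F, M = c • (1 : Matrix (Fin 2) (Fin 2) F)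

theorem isSc_of_entries {M : Matrix (Fin 2) (Fin 2) F} (h01 : M 0 1 = 0) (h10 : M 1 0 = 0) (h : M 1 1 = M 0 0) :
    IsSc M := by
  refine ⟨M 0 0, ?_⟩
  ext i j
  fin_cases i <;> fin_cases j <;> simp [h01, h10, h]

theorem exists_conj_comp (M : Matrix (Fin 2) (Fin 2) F) (hM : ¬ IsSc M) :
    ∃ P : GL (Fin 2) F, M * P.1 = P.1 * !![0, -M.det; 1, M.trace] := by
  have key : ∀ v0 v1 : F, v0 * (M 1 0 * v0 + M 1 1 * v1) - v1 * (M 0 0 * v0 + M 0 1 * v1) ≠ 0 →
      ∃ P : GL (Fin 2) F, M * P.1 = P.1 * !![0, -M.det; 1, M.trace] := by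
    intro v0 v1 hv
    refine ⟨GeneralLinearGroup.mkOfDetNeZero
      !![v0, M 0 0 * v0 + M 0 1 * v1; v1, M 1 0 * v0 + M 1 1 * v1] ?_, ?_⟩
    · rw [det_fin_two_of]
      intro h
      apply hv
      linear_combination h
    · change M * !![v0, M 0 0 * v0 + M 0 1 * v1; v1, M 1 0 * v0 + M 1 1 * v1] =
        !![v0, M 0 0 * v0 + M 0 1 * v1; v1, M 1 0 * v0 + M 1 1 * v1] * !![0, -M.det; 1, M.trace]
      rw [trace_fin_two, det_fin_two]
      ext i j
      fin_cases i <;> fin_cases j <;> simp [Matrix.mul_apply, Fin.sum_univ_two]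
      · ring
      · ring
  by_cases h10 : M 1 0 = 0
  · by_cases h01 : M 0 1 = 0
    · apply key 1 1
      rw [h10, h01]
      intro h
      apply hM
      exact isSc_of_entries h01 h10 (by linear_combination h)
    · apply key 0 1
      intro h
      apply h01
      linear_combination -h
  · apply key 1 0
    intro h
    apply h10
    linear_combination h

theorem exists_conj_of_same {M M' : Matrix (Fin 2) (Fin 2) F} (hM : ¬ IsSc M) (hM' : ¬ IsSc M')
    (hd : M.det = M'.det) (ht : M.trace = M'.trace) : ∃ g : GL (Fin 2) F, M * g.1 = g.1 * M' := by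
  obtain ⟨P, hP⟩ := exists_conj_comp M hM
  obtain ⟨P', hP'⟩ := exists_conj_comp M' hM'
  refine ⟨P * P'⁻¹, ?_⟩
  have e1 : M' * P'.1 * P'⁻¹.1 = M' := by
    rw [Matrix.mul_assoc]
    have : P'.1 * P'⁻¹.1 = 1 := P'.mul_inv
    rw [this, Matrix.mul_one]
  change M * (P.1 * P'⁻¹.1) = P.1 * P'⁻¹.1 * M'
  calc M * (P.1 * P'⁻¹.1) = (M * P.1) * P'⁻¹.1 := by rw [Matrix.mul_assoc]
    _ = P.1 * !![0, -M.det; 1, M.trace] * P'⁻¹.1 := by rw [hP]
    _ = P.1 * (P'⁻¹.1 * P'.1 * !![0, -M'.det; 1, M'.trace]) * P'⁻¹.1 := by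
        rw [inv_val_mul_val, Matrix.one_mul, hd, ht]
    _ = P.1 * (P'⁻¹.1 * (P'.1 * !![0, -M'.det; 1, M'.trace])) * P'⁻¹.1 := by
        rw [Matrix.mul_assoc P'⁻¹.1]
    _ = P.1 * (P'⁻¹.1 * (M' * P'.1)) * P'⁻¹.1 := by rw [← hP']
    _ = P.1 * P'⁻¹.1 * (M' * P'.1 * P'⁻¹.1) := by simp only [Matrix.mul_assoc]
    _ = P.1 * P'⁻¹.1 * M' := by rw [e1]

theorem exists_norm [Fintype F] (hq : Odd (Fintype.card F)) (δ c : F) (hδ : δ ≠ 0) :
    ∃ x y : F, x ^ 2 + δ * y ^ 2 = c := by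
  classical
  open Polynomial in
  obtain ⟨x, y, h⟩ := FiniteField.exists_root_sum_quadratic (R := F) (f := X ^ 2) (g := C δ * X ^ 2 + C 0 * X + C (-c))
    (degree_X_pow 2) (degree_quadratic hδ) (Nat.odd_iff.1 hq)
  refine ⟨x, y, ?_⟩
  simp only [Polynomial.eval_pow, Polynomial.eval_X, Polynomial.eval_add, Polynomial.eval_mul, Polynomial.eval_C] at h
  linear_combination h

theorem det_lin (P : Matrix (Fin 2) (Fin 2) F) (x y : F) :
    (x • (1 : Matrix (Fin 2) (Fin 2) F) + y • P).det = x ^ 2 + x * y * P.trace + y ^ 2 * P.det := by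
  rw [det_fin_two, det_fin_two, trace_fin_two]
  simp
  ring

/-- same determinant and trace zero: conjugate by an element of `SL(2, F)` -/
theorem exists_sl_conj [Fintype F] (hq : Odd (Fintype.card F)) {M M' : Matrix (Fin 2) (Fin 2) F}
    (hM : ¬ IsSc M) (hM' : ¬ IsSc M') (hd : M.det = M'.det) (ht : M.trace = 0) (ht' : M'.trace = 0)
    (hd0 : M.det ≠ 0) :
    ∃ s : Matrix.SpecialLinearGroup (Fin 2) F, M * s.1 = s.1 * M' := by
  obtain ⟨g, hg⟩ := exists_conj_of_same hM hM' hd (ht.trans ht'.symm)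
  have hgd : g.1.det ≠ 0 := (Matrix.GeneralLinearGroup.det g).ne_zero
  obtain ⟨x, y, hxy⟩ := exists_norm hq M.det (g.1.det)⁻¹ hd0
  refine ⟨⟨(x • (1 : Matrix (Fin 2) (Fin 2) F) + y • M) * g.1, ?_⟩, ?_⟩
  · rw [det_mul, det_lin, ht]
    have : x ^ 2 + x * y * 0 + y ^ 2 * M.det = (g.1.det)⁻¹ := by rw [← hxy]; ring
    rw [this, inv_mul_cancel₀ hgd]
  · change M * ((x • (1 : Matrix (Fin 2) (Fin 2) F) + y • M) * g.1) =
      (x • (1 : Matrix (Fin 2) (Fin 2) F) + y • M) * g.1 * M'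
    rw [← Matrix.mul_assoc, Matrix.mul_assoc _ g.1 M', ← hg, ← Matrix.mul_assoc]
    congr 1
    rw [Matrix.mul_add, Matrix.add_mul, Matrix.mul_smul, Matrix.mul_smul, Matrix.smul_mul, Matrix.smul_mul,
      Matrix.mul_one, Matrix.one_mul]

theorem conjGL_eq_iff (g : GL (Fin 2) F) (x y : Matrix.SpecialLinearGroup (Fin 2) F) :
    conjGL g x = y ↔ g.1 * x.1 = y.1 * g.1 := by
  constructor
  · rintro rfl
    rw [conjGL_val, Matrix.mul_assoc, inv_val_mul_val, Matrix.mul_one]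
  · intro h
    apply Subtype.ext
    rw [conjGL_val, h, Matrix.mul_assoc]
    have : g.1 * g⁻¹.1 = 1 := g.mul_inv
    rw [this, Matrix.mul_one]

theorem isSc_of_conjGL_eq_one {g : GL (Fin 2) F} (h : conjGL g = 1) : IsSc g.1 := by
  have h1 : g.1 * (up (1 : F)).1 = (up (1 : F)).1 * g.1 := (conjGL_eq_iff _ _ _).1 (by rw [h]; rfl)
  have h2 : g.1 * (lo (1 : F)).1 = (lo (1 : F)).1 * g.1 := (conjGL_eq_iff _ _ _).1 (by rw [h]; rfl)
  have hu : (up (1 : F)).1 = !![1, 1; 0, 1] := rfl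
  have hl : (lo (1 : F)).1 = !![1, 0; 1, 1] := rfl
  rw [hu] at h1
  rw [hl] at h2
  have a1 := congrFun (congrFun h1 0) 0
  have a2 := congrFun (congrFun h1 0) 1
  have a3 := congrFun (congrFun h2 0) 0
  simp [Matrix.mul_apply, Fin.sum_univ_two] at a1 a2 a3
  exact isSc_of_entries a3 a1 (by linear_combination -a2)

theorem conjGL_eq_one_of_isSc {g : GL (Fin 2) F} (h : IsSc g.1) : conjGL g = 1 := by
  obtain ⟨c, hc⟩ := h
  apply MulEquiv.ext
  intro x
  rw [conjGL_eq_iff, hc]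
  simp

theorem not_isSc_smul {M : Matrix (Fin 2) (Fin 2) F} (h : ¬ IsSc M) {c : F} (hc : c ≠ 0) : ¬ IsSc (c • M) := by
  rintro ⟨d, hd⟩
  apply h
  refine ⟨c⁻¹ * d, ?_⟩
  rw [← smul_smul, ← hd, smul_smul, inv_mul_cancel₀ hc, one_smul]

/-- the square of a non-scalar matrix is scalar only if its trace is zero -/
theorem trace_eq_zero_of_sq {M : Matrix (Fin 2) (Fin 2) F} (h : ¬ IsSc M) (h2 : IsSc (M * M)) : M.trace = 0 := by
  by_contra ht
  apply h
  obtain ⟨c, hc⟩ := h2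
  rw [Cfsg.Agent.ClassicalGeometry.NonsplitTorus.mul_self_eq] at hc
  refine ⟨(M.trace)⁻¹ * (c + M.det), ?_⟩
  have : M.trace • M = (c + M.det) • (1 : Matrix (Fin 2) (Fin 2) F) := by
    rw [add_smul, ← hc, sub_add_cancel]
  rw [← smul_smul, ← this, smul_smul, inv_mul_cancel₀ ht, one_smul]

/-- elements of `F[M]` commute -/
theorem comm_lin (M : Matrix (Fin 2) (Fin 2) F) (x y u v : F) :
    (x • (1 : Matrix (Fin 2) (Fin 2) F) + y • M) * (u • (1 : Matrix (Fin 2) (Fin 2) F) + v • M) =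
      (u • (1 : Matrix (Fin 2) (Fin 2) F) + v • M) * (x • (1 : Matrix (Fin 2) (Fin 2) F) + y • M) := by
  simp only [Matrix.mul_add, Matrix.add_mul, Matrix.mul_smul, Matrix.smul_mul, Matrix.mul_one, Matrix.one_mul,
    smul_smul, smul_add]
  rw [mul_comm u x, mul_comm v x, mul_comm u y, mul_comm v y]
  abel

end Cfsg.Agent.LFourR.Mat2
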