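import Mathlib
import Cfsg.Agent.LFourR.Mat2

/-!
Automorphisms of `SL(2, F)` fixing an element `a` whose order is the odd part of `q - ε`, and the involutory
automorphism `α` with fixed points the torus containing `a`.
-/

set_option autoImplicit false

namespace Cfsg.Agent.LFourR.AutTorus

open Matrix Cfsg.Agent.Lib.SL2Mat Cfsg.Agent.Lib.AutSL2 Cfsg.Agent.Lib.AutSL2Out
open Cfsg.Agent.LFourR.FieldPart (val_mul val_one val_pow)
open Cfsg.Agent.LFourR.Mat2

variable {F : Type*} [Field F] [Fintype F]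

omit [Fintype F] in
theorem val_neg (x : Matrix.SpecialLinearGroup (Fin 2) F) : (-x).1 = -x.1 := Matrix.SpecialLinearGroup.coe_neg x

/-- the arithmetic data: `a` has order `N`, the odd part of `q - ε` -/
structure Ar (F : Type*) [Field F] [Fintype F] (a : Matrix.SpecialLinearGroup (Fin 2) F) (N k : ℕ) (ε : ℤ) :
    Prop where
  eps : ε = 1 ∨ ε = -1
  ord : orderOf a = N
  odd : Odd N
  one_lt : 1 < N
  qodd : Odd (Fintype.card F)
  q_eq : (Fintype.card F : ℤ) - ε = N * 2 ^ k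
  ns : ε = 1 → ¬ IsSquare (Fintype.card F)

variable {a : Matrix.SpecialLinearGroup (Fin 2) F} {N k : ℕ} {ε : ℤ}

theorem Ar.not_isSc (H : Ar F a N k ε) : ¬ IsSc a.1 := by
  rintro ⟨c, hc⟩
  exact FieldPart.ne_scalar_of_orderOf H.ord H.odd H.one_lt c hc

theorem two_ne_zero' (hq : Odd (Fintype.card F)) : (2 : F) ≠ 0 := by
  intro h
  have h2 : CharP F 2 := by
    have : ringChar F = 2 := by
      have h3 : ringChar F ∣ 2 := (ringChar.spec F 2).1 (by exact_mod_cast h)
      rcases (Nat.dvd_prime Nat.prime_two).1 h3 with h4 | h4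
      · exact absurd h4 (CharP.ringChar_ne_one)
      · exact h4
    exact this ▸ ringChar.charP F
  have : Fact (Nat.Prime 2) := ⟨Nat.prime_two⟩
  obtain ⟨n, hn, hn'⟩ := FiniteField.card F 2
  rw [hn'] at hq
  exact absurd hq (Nat.not_odd_iff_even.2 (Nat.even_pow.2 ⟨even_two, n.pos.ne'⟩))

/-- automorphisms fixing `a` are linear, given by elements of `F[a]` -/
theorem Ar.fix_form (H : Ar F a N k ε) (β : MulAut (Matrix.SpecialLinearGroup (Fin 2) F)) (hβ : β a = a) :
    ∃ g : GL (Fin 2) F, β = conjGL g ∧ ∃ x y : F, g.1 = x • (1 : Matrix (Fin 2) (Fin 2) F) + y • a.1 := by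
  obtain ⟨g, σ, rfl⟩ := exists_eq β
  have h1 : g.1 * (fieldAut σ a).1 = a.1 * g.1 := (conjGL_eq_iff _ _ _).1 hβ
  have htr : σ a.1.trace = a.1.trace := by
    have e1 : (fieldAut σ a).1.trace = σ a.1.trace := by
      rw [trace_fin_two, trace_fin_two, map_add]
      rfl
    have e2 : (conjGL g (fieldAut σ a)).1.trace = (fieldAut σ a).1.trace := by
      rw [conjGL_val, Matrix.trace_mul_comm, ← Matrix.mul_assoc, inv_val_mul_val, Matrix.one_mul]
    have e3 : conjGL g (fieldAut σ a) = a := hβ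
    rw [← e1, ← e2, e3]
  have hσ : σ = 1 := FieldPart.ringEquiv_eq_one a H.eps H.ord H.odd H.one_lt H.qodd H.q_eq H.ns σ htr
  subst hσ
  refine ⟨g, by rw [map_one, mul_one], ?_⟩
  have h2 : a.1 * g.1 = g.1 * a.1 := by
    rw [map_one] at h1
    exact h1.symm
  exact Cfsg.Agent.ClassicalGeometry.NonsplitTorus.commutant a.1 g.1 (fun c hc => H.not_isSc ⟨c, hc⟩) h2

/-- automorphisms fixing `a` commute -/
theorem Ar.fix_comm (H : Ar F a N k ε) (β γ : MulAut (Matrix.SpecialLinearGroup (Fin 2) F)) (hβ : β a = a)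
    (hγ : γ a = a) : β * γ = γ * β := by
  obtain ⟨g, rfl, x, y, hg⟩ := H.fix_form β hβ
  obtain ⟨h, rfl, u, v, hh⟩ := H.fix_form γ hγ
  rw [← map_mul, ← map_mul]
  congr 1
  apply Units.ext
  change g.1 * h.1 = h.1 * g.1
  rw [hg, hh, comm_lin]

/-- an automorphism fixing `a` fixes everything commuting with `a` -/
theorem Ar.fix_cent (H : Ar F a N k ε) (β : MulAut (Matrix.SpecialLinearGroup (Fin 2) F)) (hβ : β a = a)
    (t : Matrix.SpecialLinearGroup (Fin 2) F) (ht : t * a = a * t) : β t = t := by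
  have h1 : (MulAut.conj t) a = a := by rw [MulAut.conj_apply, ht, mul_inv_cancel_right]
  have h2 := H.fix_comm β (MulAut.conj t) hβ h1
  obtain ⟨g, rfl, x, y, hg⟩ := H.fix_form β hβ
  rw [conjGL_eq_iff, hg]
  obtain ⟨u, v, hu⟩ := Cfsg.Agent.ClassicalGeometry.NonsplitTorus.commutant a.1 t.1
    (fun c hc => H.not_isSc ⟨c, hc⟩) (by rw [← val_mul, ← val_mul, ht])
  rw [hu, comm_lin]

/-- odd order automorphisms fixing `a` are inner, induced by odd order elements commuting with `a` -/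
theorem Ar.fix_odd (H : Ar F a N k ε) (β : MulAut (Matrix.SpecialLinearGroup (Fin 2) F)) (hβ : β a = a)
    {m : ℕ} (hm : Odd m) (hβm : β ^ m = 1) :
    ∃ t : Matrix.SpecialLinearGroup (Fin 2) F, t * a = a * t ∧ t ^ m = 1 ∧ β = MulAut.conj t := by
  obtain ⟨g, rfl, x, y, hg⟩ := H.fix_form β hβ
  have hgd : g.1.det ≠ 0 := (Matrix.GeneralLinearGroup.det g).ne_zero
  have hsc : IsSc (g ^ m).1 := by
    apply isSc_of_conjGL_eq_one
    rw [map_pow, hβm]
  obtain ⟨c, hc⟩ := hsc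
  have hval : (g ^ m).1 = g.1 ^ m := by exact Units.val_pow_eq_pow_val g m
  have hdet : g.1.det ^ m = c ^ 2 := by
    rw [← det_pow, ← hval, hc, det_smul, det_one, mul_one, Fintype.card_fin]
  obtain ⟨j, rfl⟩ := hm
  set d : F := c / g.1.det ^ j with hd
  have hdj : g.1.det ^ j ≠ 0 := pow_ne_zero _ hgd
  have hd2 : g.1.det = d ^ 2 := by
    rw [hd, div_pow, ← hdet, eq_div_iff (pow_ne_zero _ hdj)]
    ring
  have hd0 : d ≠ 0 := by
    intro h; rw [h] at hd2; apply hgd; rw [hd2]; ring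
  let s : Matrix.SpecialLinearGroup (Fin 2) F := ⟨d⁻¹ • g.1, by rw [det_smul, hd2, Fintype.card_fin]; field_simp⟩
  have hs : s.1 = d⁻¹ • g.1 := rfl
  have hconj : conjGL g = MulAut.conj s := by
    apply MulEquiv.ext
    intro z
    rw [conjGL_eq_iff, MulAut.conj_apply]
    have e : (s * z * s⁻¹).1 * s.1 = s.1 * z.1 := by rw [← val_mul, inv_mul_cancel_right, val_mul]
    rw [hs, Matrix.mul_smul, Matrix.smul_mul] at e
    have := congrArg (fun M => d • M) e
    simp only [smul_smul, mul_inv_cancel₀ hd0, one_smul] at this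
    exact this.symm
  have hsa : s * a = a * s := by
    apply Subtype.ext
    rw [val_mul, val_mul, hs, hg]
    simp only [Matrix.smul_mul, Matrix.mul_smul, Matrix.add_mul, Matrix.mul_add, Matrix.one_mul, Matrix.mul_one]
  have hspow : ∃ c' : F, (s ^ (2 * j + 1)).1 = c' • (1 : Matrix (Fin 2) (Fin 2) F) := by
    refine ⟨d⁻¹ ^ (2 * j + 1) * c, ?_⟩
    rw [val_pow, hs, smul_pow, ← hval, hc, smul_smul]
  obtain ⟨c', hc'⟩ := hspow
  rcases Cfsg.Agent.ClassicalGeometry.NonsplitTorus.eq_one_or_of_smul _ c' hc' with h | h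
  · exact ⟨s, hsa, h, hconj⟩
  · refine ⟨-s, by rw [neg_mul, mul_neg, hsa], ?_, ?_⟩
    · rw [Odd.neg_pow ⟨j, rfl⟩, h, neg_neg]
    · rw [hconj]
      apply MulEquiv.ext
      intro z
      rw [MulAut.conj_apply, MulAut.conj_apply]
      have : (-s)⁻¹ = -s⁻¹ := by
        rw [inv_eq_iff_mul_eq_one, neg_mul_neg, mul_inv_cancel]
      rw [this, neg_mul, neg_mul_neg]

/-- the involution -/
structure Inv (a : Matrix.SpecialLinearGroup (Fin 2) F) (α : MulAut (Matrix.SpecialLinearGroup (Fin 2) F)) :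
    Prop where
  sq : α * α = 1
  ne : α ≠ 1
  fix : α a = a

theorem Ar.inv_form (H : Ar F a N k ε) {α : MulAut (Matrix.SpecialLinearGroup (Fin 2) F)} (I : Inv a α) :
    ∃ g : GL (Fin 2) F, α = conjGL g ∧ ¬ IsSc g.1 ∧ g.1.trace = 0 ∧
      ∃ x y : F, a.1 = x • (1 : Matrix (Fin 2) (Fin 2) F) + y • g.1 := by
  obtain ⟨g, rfl, x, y, hg⟩ := H.fix_form α I.fix
  have hns : ¬ IsSc g.1 := fun h => I.ne (conjGL_eq_one_of_isSc h)
  have hsc : IsSc (g * g).1 := by
    apply isSc_of_conjGL_eq_one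
    rw [map_mul, I.sq]
  refine ⟨g, rfl, hns, trace_eq_zero_of_sq hns hsc, ?_⟩
  exact Cfsg.Agent.ClassicalGeometry.NonsplitTorus.commutant g.1 a.1 (fun c hc => hns ⟨c, hc⟩) (by
    rw [hg]
    simp only [Matrix.smul_mul, Matrix.mul_smul, Matrix.add_mul, Matrix.mul_add, Matrix.one_mul, Matrix.mul_one])

/-- the fixed points of `α` are the elements commuting with `a` -/
theorem Ar.fixed_iff (H : Ar F a N k ε) {α : MulAut (Matrix.SpecialLinearGroup (Fin 2) F)} (I : Inv a α)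
    (t : Matrix.SpecialLinearGroup (Fin 2) F) : α t = t ↔ t * a = a * t := by
  constructor
  · intro h
    obtain ⟨g, rfl, -, -, x, y, ha⟩ := H.inv_form I
    rw [conjGL_eq_iff] at h
    apply Subtype.ext
    rw [val_mul, val_mul, ha]
    simp only [Matrix.smul_mul, Matrix.mul_smul, Matrix.add_mul, Matrix.mul_add, Matrix.one_mul, Matrix.mul_one, h]
  · exact H.fix_cent α I.fix t

omit [Fintype F] in
/-- the elements of `F[g]` with determinant one: inverse by changing the sign -/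
theorem inv_of_trace_zero {M : Matrix (Fin 2) (Fin 2) F} (hM : M.trace = 0)
    (t : Matrix.SpecialLinearGroup (Fin 2) F) (x y : F) (ht : t.1 = x • (1 : Matrix (Fin 2) (Fin 2) F) + y • M) :
    (t⁻¹).1 = x • (1 : Matrix (Fin 2) (Fin 2) F) - y • M := by
  have h1 : t.1 * (x • (1 : Matrix (Fin 2) (Fin 2) F) - y • M) = 1 := by
    rw [ht]
    have hd := t.2
    rw [ht, det_lin, hM] at hd
    have hMM := Cfsg.Agent.ClassicalGeometry.NonsplitTorus.mul_self_eq M
    rw [hM, zero_smul, zero_sub] at hMM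
    have e : x * x + y * y * M.det = 1 := by rw [← hd]; ring
    calc (x • (1 : Matrix (Fin 2) (Fin 2) F) + y • M) * (x • (1 : Matrix (Fin 2) (Fin 2) F) - y • M)
        = (x * x) • (1 : Matrix (Fin 2) (Fin 2) F) - (y * y) • (M * M) := by
          simp only [Matrix.mul_sub, Matrix.add_mul, Matrix.mul_smul, Matrix.smul_mul, Matrix.mul_one,
            Matrix.one_mul, smul_smul, smul_add]
          rw [mul_comm y x]
          abel
      _ = (x * x) • (1 : Matrix (Fin 2) (Fin 2) F) + (y * y * M.det) • (1 : Matrix (Fin 2) (Fin 2) F) := by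
          rw [hMM, smul_neg, smul_smul, sub_neg_eq_add]
      _ = 1 := by rw [← add_smul, e, one_smul]
  have h2 : (t⁻¹).1 * t.1 = 1 := by rw [← val_mul, inv_mul_cancel, val_one]
  calc (t⁻¹).1 = (t⁻¹).1 * (t.1 * (x • (1 : Matrix (Fin 2) (Fin 2) F) - y • M)) := by rw [h1, Matrix.mul_one]
    _ = _ := by rw [← Matrix.mul_assoc, h2, Matrix.one_mul]

/-- the Weyl element -/
theorem Ar.exists_n (H : Ar F a N k ε) {α : MulAut (Matrix.SpecialLinearGroup (Fin 2) F)} (I : Inv a α) :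
    ∃ n : Matrix.SpecialLinearGroup (Fin 2) F, n * n = -1 ∧
      (∀ t : Matrix.SpecialLinearGroup (Fin 2) F, t * a = a * t → n * t * n⁻¹ = t⁻¹) ∧ α n = -n := by
  obtain ⟨g, hα, hns, htr, x, y, ha⟩ := H.inv_form I
  have h2 := two_ne_zero' (F := F) H.qodd
  have hgd : g.1.det ≠ 0 := (Matrix.GeneralLinearGroup.det g).ne_zero
  have hns' : ¬ IsSc (-g.1) := by
    rintro ⟨c, hc⟩
    exact hns ⟨-c, by rw [neg_smul, ← hc, neg_neg]⟩
  obtain ⟨n, hn⟩ := exists_sl_conj H.qodd hns hns' (by rw [det_neg]; simp) htr (by rw [trace_neg, htr, neg_zero]) hgd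
  have hn' : n.1 * g.1 = -(g.1 * n.1) := by
    rw [hn, Matrix.mul_neg, neg_neg]
  have htn : n.1.trace = 0 := by
    have e1 : (g.1 * n.1 * g⁻¹.1).trace = n.1.trace := by
      rw [Matrix.trace_mul_comm, ← Matrix.mul_assoc, inv_val_mul_val, Matrix.one_mul]
    have e2 : g.1 * n.1 * g⁻¹.1 = -n.1 := by
      rw [hn, Matrix.mul_neg, Matrix.neg_mul, Matrix.mul_assoc]
      have : g.1 * g⁻¹.1 = 1 := g.mul_inv
      rw [this, Matrix.mul_one]
    rw [e2, trace_neg] at e1
    have : (2 : F) * n.1.trace = 0 := by linear_combination -e1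
    exact (mul_eq_zero.1 this).resolve_left h2
  refine ⟨n, ?_, ?_, ?_⟩
  · apply Subtype.ext
    rw [val_mul, Cfsg.Agent.ClassicalGeometry.NonsplitTorus.mul_self_eq, htn, n.2, zero_smul, one_smul, zero_sub,
      val_neg, val_one]
  · intro t ht
    have htg : α t = t := H.fix_cent α I.fix t ht
    rw [hα, conjGL_eq_iff] at htg
    obtain ⟨u, v, hu⟩ := Cfsg.Agent.ClassicalGeometry.NonsplitTorus.commutant g.1 t.1
      (fun c hc => hns ⟨c, hc⟩) htg
    have hinv := inv_of_trace_zero htr t u v hu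
    rw [mul_inv_eq_iff_eq_mul]
    apply Subtype.ext
    rw [val_mul, val_mul, hinv, hu]
    simp only [Matrix.mul_add, Matrix.sub_mul, Matrix.mul_smul, Matrix.smul_mul, Matrix.mul_one, Matrix.one_mul, hn',
      smul_neg, ← sub_eq_add_neg]
  · rw [hα, conjGL_eq_iff]
    rw [val_neg, hn, Matrix.mul_neg, Matrix.neg_mul]

/-- conjugates of `α` are conjugate under inner automorphisms -/
theorem Ar.conj_inner (H : Ar F a N k ε) {α : MulAut (Matrix.SpecialLinearGroup (Fin 2) F)} (I : Inv a α)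
    (β : MulAut (Matrix.SpecialLinearGroup (Fin 2) F)) :
    ∃ s : Matrix.SpecialLinearGroup (Fin 2) F, MulAut.conj s * (β * α * β⁻¹) * (MulAut.conj s)⁻¹ = α := by
  obtain ⟨g, rfl, hns, htr, -⟩ := H.inv_form I
  obtain ⟨h, σ, rfl⟩ := exists_eq β
  have hgd : g.1.det ≠ 0 := (Matrix.GeneralLinearGroup.det g).ne_zero
  set g' : GL (Fin 2) F := h * Matrix.GeneralLinearGroup.map σ.toRingHom g * h⁻¹ with hg'
  have e1 : conjGL h * fieldAut σ * conjGL g * (conjGL h * fieldAut σ)⁻¹ = conjGL g' := by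
    rw [hg', map_mul, map_mul, map_inv, mul_assoc (conjGL h), fieldAut_mul_conjGL, _root_.mul_inv_rev]
    group
  rw [e1]
  have hmap : (Matrix.GeneralLinearGroup.map σ.toRingHom g).1 = σ.toRingHom.mapMatrix g.1 := rfl
  have hh : h.1 * h⁻¹.1 = 1 := h.mul_inv
  have hg'val : g'.1 = h.1 * σ.toRingHom.mapMatrix g.1 * h⁻¹.1 := rfl
  have htr' : g'.1.trace = 0 := by
    rw [hg'val, Matrix.trace_mul_comm, ← Matrix.mul_assoc, inv_val_mul_val, Matrix.one_mul]
    have : (σ.toRingHom.mapMatrix g.1).trace = σ g.1.trace := by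
      rw [trace_fin_two, trace_fin_two, map_add]; rfl
    rw [this, htr, map_zero]
  have hdet' : g'.1.det = σ g.1.det := by
    rw [hg'val, det_mul, det_mul, mul_comm h.1.det, mul_assoc, ← det_mul, hh, det_one, mul_one]
    exact (RingHom.map_det σ.toRingHom g.1).symm
  have hns' : ¬ IsSc g'.1 := by
    intro hc
    have h1 : conjGL g' = 1 := conjGL_eq_one_of_isSc hc
    rw [← e1] at h1
    apply I.ne
    have : conjGL g = (conjGL h * fieldAut σ)⁻¹ * 1 * (conjGL h * fieldAut σ) := by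
      rw [← h1]; group
    rw [this]; group
  obtain ⟨d, hd⟩ := isSquare_mul_map σ g.1.det
  have hσ0 : σ g.1.det ≠ 0 := by rwa [ne_eq, map_eq_zero]
  have hd0 : d ≠ 0 := by rintro rfl; rw [mul_zero] at hd; exact (mul_ne_zero hgd hσ0) hd
  -- `det g' = c ^ 2 * det g` with `c = d / det g`
  set c : F := d / g.1.det with hc
  have hc0 : c ≠ 0 := div_ne_zero hd0 hgd
  have hcd : (c • g.1).det = g'.1.det := by
    rw [det_smul, Fintype.card_fin, hdet', hc, div_pow]
    field_simp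
    linear_combination -hd
  obtain ⟨s, hs⟩ := exists_sl_conj H.qodd (not_isSc_smul hns hc0) hns' hcd (by rw [trace_smul, htr, smul_zero]) htr'
    (by rw [hcd, hdet']; exact hσ0)
  refine ⟨s, ?_⟩
  apply MulEquiv.ext
  intro x
  rw [← map_inv]
  change s * (conjGL g' (s⁻¹ * x * s⁻¹⁻¹)) * s⁻¹ = conjGL g x
  rw [eq_comm, conjGL_eq_iff, inv_inv]
  set w := conjGL g' (s⁻¹ * x * s) with hw
  have hw' : g'.1 * (s⁻¹ * x * s).1 = w.1 * g'.1 := (conjGL_eq_iff _ _ _).1 hw.symm
  have hss : s.1 * (s⁻¹).1 = 1 := by rw [← val_mul, mul_inv_cancel, val_one]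
  have hss' : (s⁻¹).1 * s.1 = 1 := by rw [← val_mul, inv_mul_cancel, val_one]
  -- `c • g = s g' s⁻¹`
  have hcg : c • g.1 = s.1 * g'.1 * (s⁻¹).1 := by
    rw [← hs, Matrix.mul_assoc, hss, Matrix.mul_one]
  have key : (c • g.1) * x.1 = (s * w * s⁻¹).1 * (c • g.1) := by
    rw [hcg, val_mul, val_mul]
    rw [val_mul, val_mul] at hw'
    calc s.1 * g'.1 * (s⁻¹).1 * x.1 = s.1 * (g'.1 * ((s⁻¹).1 * x.1 * s.1)) * (s⁻¹).1 := by
          simp only [Matrix.mul_assoc, hss, Matrix.mul_one]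
      _ = s.1 * (w.1 * g'.1) * (s⁻¹).1 := by rw [hw']
      _ = s.1 * w.1 * ((s⁻¹).1 * s.1) * g'.1 * (s⁻¹).1 := by rw [hss', Matrix.mul_one]; simp only [Matrix.mul_assoc]
      _ = s.1 * w.1 * (s⁻¹).1 * (s.1 * g'.1 * (s⁻¹).1) := by simp only [Matrix.mul_assoc]
  rw [Matrix.smul_mul, Matrix.mul_smul] at key
  have := congrArg (fun M => c⁻¹ • M) key
  simp only [smul_smul, inv_mul_cancel₀ hc0, one_smul] at this
  exact this

end Cfsg.Agent.LFourR.AutTorus
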