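import Mathlib
import Cfsg.Agent.LFourR.AutTorus
import Cfsg.Agent.ClassicalGeometry.DicksonSubfield

/-!
More facts on the automorphisms of `SL(2, F)` fixing an element `a` whose order is the odd part of `q - ε`.
-/

set_option autoImplicit false

namespace Cfsg.Agent.LFourR.AutTorus

open Matrix Cfsg.Agent.Lib.SL2Mat Cfsg.Agent.Lib.AutSL2 Cfsg.Agent.Lib.AutSL2Out
open Cfsg.Agent.LFourR.FieldPart (val_mul val_one val_pow)
open Cfsg.Agent.LFourR.Mat2

variable {F : Type*} [Field F] [Fintype F]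
variable {a : Matrix.SpecialLinearGroup (Fin 2) F} {N k : ℕ} {ε : ℤ}

/-- the involution in the torus of automorphisms is unique -/
theorem Ar.invol_unique (H : Ar F a N k ε) {α : MulAut (Matrix.SpecialLinearGroup (Fin 2) F)} (I : Inv a α)
    (β : MulAut (Matrix.SpecialLinearGroup (Fin 2) F)) (hβ : β a = a) (h2 : β * β = 1) : β = 1 ∨ β = α := by
  obtain ⟨g, rfl, hns, htr, x, y, ha⟩ := H.inv_form I
  obtain ⟨h, rfl, u, v, hh⟩ := H.fix_form β hβ
  by_cases hsc : IsSc h.1
  · exact Or.inl (conjGL_eq_one_of_isSc hsc)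
  right
  have hsc2 : IsSc (h * h).1 := by
    apply isSc_of_conjGL_eq_one
    rw [map_mul, h2]
  have htr' : h.1.trace = 0 := trace_eq_zero_of_sq hsc hsc2
  have h2' := two_ne_zero' (F := F) H.qodd
  -- `h = u' + v' g`
  have hform : h.1 = (u + v * x) • (1 : Matrix (Fin 2) (Fin 2) F) + (v * y) • g.1 := by
    rw [hh, ha, smul_add, smul_smul, smul_smul, add_smul]
    abel
  have htr2 : h.1.trace = (u + v * x) * 2 := by
    rw [hform, trace_add, trace_smul, trace_smul, htr, trace_one]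
    simp
  have hu : u + v * x = 0 := by
    rw [htr'] at htr2
    exact (mul_eq_zero.1 htr2.symm).resolve_right h2'
  rw [hu, zero_smul, zero_add] at hform
  apply MulEquiv.ext
  intro z
  rw [conjGL_eq_iff, hform, Matrix.smul_mul, Matrix.mul_smul]
  congr 1
  exact (conjGL_eq_iff g z (conjGL g z)).1 rfl

theorem exists_q (F : Type*) [Field F] [Fintype F] : ∃ (p n : ℕ) (_ : Fact p.Prime) (_ : CharP F p),
    Fintype.card F = p ^ n := by
  obtain ⟨p, hpc⟩ := CharP.exists F
  have : CharP F p := hpc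
  have hp : Fact p.Prime := ⟨CharP.char_is_prime F p⟩
  obtain ⟨n, hn, hn'⟩ := FiniteField.card F p
  exact ⟨p, n, hp, hpc, hn'⟩

/-- Frobenius on `F[M]` -/
theorem pow_card_lin (M : Matrix (Fin 2) (Fin 2) F) (u v : F) :
    (u • (1 : Matrix (Fin 2) (Fin 2) F) + v • M) ^ Fintype.card F =
      u • (1 : Matrix (Fin 2) (Fin 2) F) + v • M ^ Fintype.card F := by
  obtain ⟨p, n, hp, hpc, hq⟩ := exists_q F
  have hcomm : Commute (u • (1 : Matrix (Fin 2) (Fin 2) F)) (v • M) := by
    rw [Commute, SemiconjBy]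
    simp only [Matrix.smul_mul, Matrix.mul_smul, Matrix.mul_one, Matrix.one_mul, smul_smul, mul_comm]
  have hchar : CharP (Matrix (Fin 2) (Fin 2) F) p := inferInstance
  rw [hq, add_pow_char_pow_of_commute (p := p) (n := n) hcomm, smul_pow, smul_pow, one_pow, ← hq, FiniteField.pow_card,
    FiniteField.pow_card]

/-- the exponent of the torus of automorphisms -/
theorem Ar.exp (H : Ar F a N k ε) (β : MulAut (Matrix.SpecialLinearGroup (Fin 2) F)) (hβ : β a = a) :
    β ^ (N * 2 ^ k) = 1 := by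
  obtain ⟨h, rfl, u, v, hh⟩ := H.fix_form β hβ
  rw [← map_pow]
  apply conjGL_eq_one_of_isSc
  have hval : (h ^ (N * 2 ^ k)).1 = h.1 ^ (N * 2 ^ k) := by exact Units.val_pow_eq_pow_val h _
  rw [hval]
  have hq1 : 1 < Fintype.card F := Fintype.one_lt_card
  rcases H.eps with he | he
  · -- `ε = 1`
    have hq := H.q_eq
    rw [he] at hq
    have hq' : Fintype.card F = N * 2 ^ k + 1 := by
      have : (Fintype.card F : ℤ) = ((N * 2 ^ k + 1 : ℕ) : ℤ) := by push_cast; linarith
      exact_mod_cast this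
    have haq : a ^ Fintype.card F = a := by
      rw [hq', pow_succ, pow_mul, ← H.ord, pow_orderOf_eq_one, one_pow, one_mul]
    have haq' : a.1 ^ Fintype.card F = a.1 := by rw [← val_pow, haq]
    have h1 : h.1 ^ Fintype.card F = h.1 := by rw [hh, pow_card_lin, haq']
    rw [hq', pow_succ] at h1
    have h2 : h.1 ^ (N * 2 ^ k) = 1 := by
      have hmul : h.1 * h⁻¹.1 = 1 := h.mul_inv
      calc h.1 ^ (N * 2 ^ k) = h.1 ^ (N * 2 ^ k) * (h.1 * h⁻¹.1) := by rw [hmul, Matrix.mul_one]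
        _ = 1 := by rw [← Matrix.mul_assoc, h1, hmul]
    exact ⟨1, by rw [h2, one_smul]⟩
  · have hq := H.q_eq
    rw [he] at hq
    have hq' : N * 2 ^ k = Fintype.card F + 1 := by
      have : (Fintype.card F : ℤ) + 1 = ((N * 2 ^ k : ℕ) : ℤ) := by push_cast; linarith
      exact_mod_cast this.symm
    have haq : a ^ Fintype.card F = a⁻¹ := by
      rw [eq_inv_iff_mul_eq_one, ← pow_succ, ← hq', pow_mul, ← H.ord, pow_orderOf_eq_one, one_pow]
    have haq' : a.1 ^ Fintype.card F = (a⁻¹).1 := by rw [← val_pow, haq]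
    have hinv : (a⁻¹).1 = a.1.trace • (1 : Matrix (Fin 2) (Fin 2) F) - a.1 := by
      have h1 : a.1 * (a.1.trace • (1 : Matrix (Fin 2) (Fin 2) F) - a.1) = 1 := by
        rw [Matrix.mul_sub, Matrix.mul_smul, Matrix.mul_one,
          Cfsg.Agent.ClassicalGeometry.NonsplitTorus.mul_self_eq, a.2, one_smul]
        abel
      have h2 : (a⁻¹).1 * a.1 = 1 := by rw [← val_mul, inv_mul_cancel, val_one]
      calc (a⁻¹).1 = (a⁻¹).1 * (a.1 * (a.1.trace • (1 : Matrix (Fin 2) (Fin 2) F) - a.1)) := by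
            rw [h1, Matrix.mul_one]
        _ = _ := by rw [← Matrix.mul_assoc, h2, Matrix.one_mul]
    have haa : a.1 * (a⁻¹).1 = 1 := by rw [← val_mul, mul_inv_cancel, val_one]
    refine ⟨u ^ 2 + u * v * a.1.trace + v ^ 2, ?_⟩
    rw [hq', pow_succ]
    have h1 : h.1 ^ Fintype.card F = u • (1 : Matrix (Fin 2) (Fin 2) F) + v • (a⁻¹).1 := by
      rw [hh, pow_card_lin, haq']
    have haa' : (a⁻¹).1 * a.1 = 1 := by rw [← val_mul, inv_mul_cancel, val_one]
    have hsum : (a⁻¹).1 + a.1 = a.1.trace • (1 : Matrix (Fin 2) (Fin 2) F) := by rw [hinv]; abel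
    rw [h1, hh]
    calc (u • (1 : Matrix (Fin 2) (Fin 2) F) + v • (a⁻¹).1) * (u • (1 : Matrix (Fin 2) (Fin 2) F) + v • a.1)
        = (u * u) • (1 : Matrix (Fin 2) (Fin 2) F) + (u * v) • ((a⁻¹).1 + a.1) + (v * v) • ((a⁻¹).1 * a.1) := by
          simp only [Matrix.mul_add, Matrix.add_mul, Matrix.mul_smul, Matrix.smul_mul, Matrix.mul_one,
            Matrix.one_mul, smul_smul, smul_add]
          rw [mul_comm v u]
          abel
      _ = _ := by
          rw [hsum, haa', smul_smul, ← add_smul, ← add_smul]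
          congr 1
          ring

/-- a linear automorphism in the torus with square determinant is inner -/
theorem Ar.inner_of_sq (H : Ar F a N k ε) (h : GL (Fin 2) F) (u v d : F)
    (hh : h.1 = u • (1 : Matrix (Fin 2) (Fin 2) F) + v • a.1) (hd : h.1.det = d ^ 2) :
    ∃ s : Matrix.SpecialLinearGroup (Fin 2) F, s * a = a * s ∧ conjGL h = MulAut.conj s := by
  have hgd : h.1.det ≠ 0 := (Matrix.GeneralLinearGroup.det h).ne_zero
  have hd0 : d ≠ 0 := by
    intro h'; rw [h'] at hd; apply hgd; rw [hd]; ring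
  let s : Matrix.SpecialLinearGroup (Fin 2) F := ⟨d⁻¹ • h.1, by rw [det_smul, hd, Fintype.card_fin]; field_simp⟩
  have hs : s.1 = d⁻¹ • h.1 := rfl
  refine ⟨s, ?_, ?_⟩
  · apply Subtype.ext
    rw [val_mul, val_mul, hs, hh]
    simp only [Matrix.smul_mul, Matrix.mul_smul, Matrix.add_mul, Matrix.mul_add, Matrix.one_mul, Matrix.mul_one]
  · apply MulEquiv.ext
    intro z
    rw [conjGL_eq_iff, MulAut.conj_apply]
    have e : (s * z * s⁻¹).1 * s.1 = s.1 * z.1 := by rw [← val_mul, inv_mul_cancel_right, val_mul]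
    rw [hs, Matrix.mul_smul, Matrix.smul_mul] at e
    have := congrArg (fun M => d • M) e
    simp only [smul_smul, mul_inv_cancel₀ hd0, one_smul] at this
    exact this.symm

/-- the product of two non-inner elements of the torus of automorphisms is inner -/
theorem Ar.outer_mul (H : Ar F a N k ε) (β γ : MulAut (Matrix.SpecialLinearGroup (Fin 2) F)) (hβ : β a = a)
    (hγ : γ a = a) (hβ' : ¬ ∃ s : Matrix.SpecialLinearGroup (Fin 2) F, s * a = a * s ∧ β = MulAut.conj s)
    (hγ' : ¬ ∃ s : Matrix.SpecialLinearGroup (Fin 2) F, s * a = a * s ∧ γ = MulAut.conj s) :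
    ∃ s : Matrix.SpecialLinearGroup (Fin 2) F, s * a = a * s ∧ β * γ = MulAut.conj s := by
  obtain ⟨g, rfl, x, y, hg⟩ := H.fix_form β hβ
  obtain ⟨h, rfl, u, v, hh⟩ := H.fix_form γ hγ
  have h1 : ¬ IsSquare g.1.det := by
    rintro ⟨d, hd⟩
    exact hβ' (H.inner_of_sq g x y d hg (by rw [hd]; ring))
  have h2 : ¬ IsSquare h.1.det := by
    rintro ⟨d, hd⟩
    exact hγ' (H.inner_of_sq h u v d hh (by rw [hd]; ring))
  obtain ⟨d, hd⟩ := Cfsg.Agent.ClassicalGeometry.DicksonSubfield.isSquare_mul_of_not h1 h2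
  obtain ⟨gh, -, x', y', hgh⟩ := H.fix_form (conjGL g * conjGL h) (by
    rw [MulAut.mul_apply, hγ, hβ])
  -- `g h` lies in `F[a]`
  obtain ⟨α', β', hαβ⟩ := Cfsg.Agent.ClassicalGeometry.NonsplitTorus.commutant a.1 (g * h).1
    (fun c hc => H.not_isSc ⟨c, hc⟩) (by
      change a.1 * (g.1 * h.1) = (g.1 * h.1) * a.1
      have e1 : g.1 * a.1 = a.1 * g.1 := by
        rw [hg]; simp only [Matrix.smul_mul, Matrix.mul_smul, Matrix.add_mul, Matrix.mul_add, Matrix.one_mul, Matrix.mul_one]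
      have e2 : h.1 * a.1 = a.1 * h.1 := by
        rw [hh]; simp only [Matrix.smul_mul, Matrix.mul_smul, Matrix.add_mul, Matrix.mul_add, Matrix.one_mul, Matrix.mul_one]
      rw [Matrix.mul_assoc, e2, ← Matrix.mul_assoc, ← Matrix.mul_assoc, e1])
  rw [← map_mul]
  exact H.inner_of_sq (g * h) α' β' d hαβ (by
    change (g.1 * h.1).det = _
    rw [det_mul, hd]; ring)

/-- the type of `α` is determined by `ε` -/
theorem Ar.type_iff (H : Ar F a N k ε) {α : MulAut (Matrix.SpecialLinearGroup (Fin 2) F)} (I : Inv a α) :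
    ∃ g : GL (Fin 2) F, α = conjGL g ∧ ¬ IsSc g.1 ∧ g.1.trace = 0 ∧ (IsSquare (-g.1.det) ↔ ε = 1) := by
  obtain ⟨g, hα, hns, htr, x, y, ha⟩ := H.inv_form I
  refine ⟨g, hα, hns, htr, ?_⟩
  have hgd : g.1.det ≠ 0 := (Matrix.GeneralLinearGroup.det g).ne_zero
  have hgd' : -g.1.det ≠ 0 := neg_ne_zero.2 hgd
  have hy : y ≠ 0 := by
    rintro rfl
    rw [zero_smul, add_zero] at ha
    exact H.not_isSc ⟨x, ha⟩
  have hg2 : g.1 * g.1 = (-g.1.det) • (1 : Matrix (Fin 2) (Fin 2) F) := by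
    rw [Cfsg.Agent.ClassicalGeometry.NonsplitTorus.mul_self_eq, htr, zero_smul, zero_sub, neg_smul]
  obtain ⟨m, hm⟩ := H.qodd
  have hgq : g.1 ^ Fintype.card F = ((-g.1.det) ^ m) • g.1 := by
    rw [hm, pow_succ, pow_mul, pow_two, hg2, smul_pow, one_pow, Matrix.smul_mul, Matrix.one_mul]
  have haq : a.1 ^ Fintype.card F = x • (1 : Matrix (Fin 2) (Fin 2) F) + (y * (-g.1.det) ^ m) • g.1 := by
    conv_lhs => rw [ha]
    rw [pow_card_lin, hgq, smul_smul]
  have hm2 : Fintype.card F / 2 = m := by omega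
  have hchar : ringChar F ≠ 2 := by
    intro h
    apply two_ne_zero' (F := F) H.qodd
    have := ringChar.charP F
    rw [h] at this
    exact_mod_cast CharP.cast_eq_zero F 2
  constructor
  · intro hsq
    have h1 : (-g.1.det) ^ m = 1 := by
      rw [← hm2]; exact (FiniteField.isSquare_iff hchar hgd').1 hsq
    rw [h1, mul_one, ← ha] at haq
    have haq' : a ^ Fintype.card F = a := by
      apply Subtype.ext; rw [val_pow, haq]
    have h2 : a ^ (Fintype.card F - 1) = 1 := by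
      have h3 : a ^ (Fintype.card F - 1) * a = 1 * a := by
        rw [← pow_succ, one_mul, Nat.sub_add_cancel Fintype.card_pos, haq']
      exact mul_right_cancel h3
    have h3 : N ∣ Fintype.card F - 1 := by rw [← H.ord]; exact orderOf_dvd_of_pow_eq_one h2
    rcases H.eps with he | he
    · exact he
    exfalso
    have h4 : (N : ℤ) ∣ (Fintype.card F : ℤ) + 1 := by
      have := H.q_eq
      rw [he, sub_neg_eq_add] at this
      rw [this]; exact dvd_mul_right _ _
    have h5 : (N : ℤ) ∣ (Fintype.card F : ℤ) - 1 := by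
      have h6 : ((Fintype.card F - 1 : ℕ) : ℤ) = (Fintype.card F : ℤ) - 1 := by
        have := Fintype.card_pos (α := F); omega
      rw [← h6]; exact_mod_cast h3
    have h6 : (N : ℤ) ∣ 2 := by
      have := dvd_sub h4 h5
      have e : (Fintype.card F : ℤ) + 1 - ((Fintype.card F : ℤ) - 1) = 2 := by ring
      rwa [e] at this
    have h7 : N ∣ 2 := by exact_mod_cast h6
    have h8 := Nat.le_of_dvd (by norm_num) h7
    have h9 : N = 2 := by have := H.one_lt; omega
    have := H.odd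
    rw [h9] at this
    exact absurd this (by decide)
  · intro he
    rw [FiniteField.isSquare_iff hchar hgd', hm2]
    have hq := H.q_eq
    rw [he] at hq
    have hq' : Fintype.card F = N * 2 ^ k + 1 := by
      have : (Fintype.card F : ℤ) = ((N * 2 ^ k + 1 : ℕ) : ℤ) := by push_cast; linarith
      exact_mod_cast this
    have haq2 : a ^ Fintype.card F = a := by
      rw [hq', pow_succ, pow_mul, ← H.ord, pow_orderOf_eq_one, one_pow, one_mul]
    rw [← val_pow, haq2] at haq
    by_contra hne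
    apply hns
    have h1 : (y * (1 - (-g.1.det) ^ m)) • g.1 = 0 := by
      have h2 : x • (1 : Matrix (Fin 2) (Fin 2) F) + y • g.1 =
          x • (1 : Matrix (Fin 2) (Fin 2) F) + (y * (-g.1.det) ^ m) • g.1 := ha.symm.trans haq
      have h3 := add_left_cancel h2
      rw [mul_sub, mul_one, sub_smul, ← h3, sub_self]
    rcases smul_eq_zero.1 h1 with h2 | h2
    · exfalso
      rcases mul_eq_zero.1 h2 with h3 | h3
      · exact hy h3
      · exact hne (by linear_combination -h3)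
    · exact ⟨0, by rw [h2, zero_smul]⟩

/-- `det g' = c ^ 2 * det g` and traces zero: conjugate by an inner automorphism -/
theorem conj_of_det (hq : Odd (Fintype.card F)) (g g' : GL (Fin 2) F) (hns : ¬ IsSc g.1) (hns' : ¬ IsSc g'.1)
    (htr : g.1.trace = 0) (htr' : g'.1.trace = 0) (c : F) (hc0 : c ≠ 0) (hcd : c ^ 2 * g.1.det = g'.1.det) :
    ∃ s : Matrix.SpecialLinearGroup (Fin 2) F, MulAut.conj s * conjGL g' * (MulAut.conj s)⁻¹ = conjGL g := by
  have hgd' : g'.1.det ≠ 0 := (Matrix.GeneralLinearGroup.det g').ne_zero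
  have hcd' : (c • g.1).det = g'.1.det := by
    rw [det_smul, Fintype.card_fin, hcd]
  obtain ⟨s, hs⟩ := exists_sl_conj hq (not_isSc_smul hns hc0) hns' hcd' (by rw [trace_smul, htr, smul_zero]) htr'
    (by rw [hcd']; exact hgd')
  refine ⟨s, ?_⟩
  apply MulEquiv.ext
  intro x
  rw [← map_inv]
  change s * (conjGL g' (s⁻¹ * x * s⁻¹⁻¹)) * s⁻¹ = conjGL g x
  rw [eq_comm, conjGL_eq_iff, inv_inv]
  set w := conjGL g' (s⁻¹ * x * s) with hw
  have hw' : g'.1 * (s⁻¹ * x * s).1 = w.1 * g'.1 := (conjGL_eq_iff _ _ _).1 hw.symm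
  have hss : s.1 * (s⁻¹).1 = 1 := by rw [← val_mul, mul_inv_cancel, val_one]
  have hss' : (s⁻¹).1 * s.1 = 1 := by rw [← val_mul, inv_mul_cancel, val_one]
  have hcg : c • g.1 = s.1 * g'.1 * (s⁻¹).1 := by
    rw [← hs, Matrix.mul_assoc, hss, Matrix.mul_one]
  have key : (c • g.1) * x.1 = (s * w * s⁻¹).1 * (c • g.1) := by
    rw [hcg, val_mul, val_mul]
    rw [val_mul, val_mul] at hw'
    calc s.1 * g'.1 * (s⁻¹).1 * x.1 = s.1 * (g'.1 * ((s⁻¹).1 * x.1 * s.1)) * (s⁻¹).1 := by
          simp only [Matrix.mul_assoc, hss, Matrix.mul_one]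
      _ = s.1 * (w.1 * g'.1) * (s⁻¹).1 := by rw [hw']
      _ = s.1 * w.1 * ((s⁻¹).1 * s.1) * g'.1 * (s⁻¹).1 := by rw [hss', Matrix.mul_one]; simp only [Matrix.mul_assoc]
      _ = s.1 * w.1 * (s⁻¹).1 * (s.1 * g'.1 * (s⁻¹).1) := by simp only [Matrix.mul_assoc]
  rw [Matrix.smul_mul, Matrix.mul_smul] at key
  have := congrArg (fun M => c⁻¹ • M) key
  simp only [smul_smul, inv_mul_cancel₀ hc0, one_smul] at this
  exact this

/-- two involutory automorphisms of the same type are conjugate by an inner automorphism -/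
theorem Ar.conj_of_type (H : Ar F a N k ε) {α : MulAut (Matrix.SpecialLinearGroup (Fin 2) F)} (I : Inv a α)
    {a' : Matrix.SpecialLinearGroup (Fin 2) F} {N' k' : ℕ} (H' : Ar F a' N' k' ε)
    {α' : MulAut (Matrix.SpecialLinearGroup (Fin 2) F)} (I' : Inv a' α') :
    ∃ s : Matrix.SpecialLinearGroup (Fin 2) F, MulAut.conj s * α' * (MulAut.conj s)⁻¹ = α := by
  obtain ⟨g, rfl, hns, htr, hsq⟩ := H.type_iff I
  obtain ⟨g', rfl, hns', htr', hsq'⟩ := H'.type_iff I'
  have hgd : g.1.det ≠ 0 := (Matrix.GeneralLinearGroup.det g).ne_zero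
  have hgd' : g'.1.det ≠ 0 := (Matrix.GeneralLinearGroup.det g').ne_zero
  have hsq2 : IsSquare ((-g.1.det) * (-g'.1.det)) := by
    by_cases h : ε = 1
    · exact (hsq.2 h).mul (hsq'.2 h)
    · exact Cfsg.Agent.ClassicalGeometry.DicksonSubfield.isSquare_mul_of_not (fun h' => h (hsq.1 h'))
        (fun h' => h (hsq'.1 h'))
  obtain ⟨d, hd⟩ := hsq2
  rw [neg_mul_neg] at hd
  have hd0 : d ≠ 0 := by rintro rfl; rw [mul_zero] at hd; exact (mul_ne_zero hgd hgd') hd
  refine conj_of_det H.qodd g g' hns hns' htr htr' (d / g.1.det) (div_ne_zero hd0 hgd) ?_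
  rw [div_pow]
  field_simp
  linear_combination -hd

end Cfsg.Agent.LFourR.AutTorus
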