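import Mathlib
import Cfsg.Agent.LFourR.AutTorus2
import Cfsg.Agent.TwoFusion.SLTwoFacts
import Cfsg.Agent.ClassicalGeometry.PSL2ElemOrder

/-!
The facts on a group `L ≅ SL(2, F)` with an involutory automorphism `α` whose fixed points form a cyclic group `T` of
order `q - ε = N 2 ^ k`, `N` odd.
-/

set_option autoImplicit false

namespace Cfsg.Agent.LFourR

open Subgroup
open scoped commutatorElement

/-- facts on `L ≅ SL(2, F)` and the automorphism `α` -/
structure TF {L : Type*} [Group L] (α : MulAut L) (z a : L) (N k : ℕ) (T : Subgroup L) : Prop where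
  sq : α * α = 1
  ne : α ≠ 1
  mem_T : ∀ x, x ∈ T ↔ α x = x
  cent : ∀ x, x ∈ T ↔ x * a = a * x
  ord : orderOf a = N
  odd : Odd N
  one_lt : 1 < N
  cyc : IsCyclic T
  cardT : Nat.card T = N * 2 ^ k
  odd_mem : ∀ x ∈ T, Odd (orderOf x) → x ∈ zpowers a
  fix_comm : ∀ β γ : MulAut L, β a = a → γ a = a → β * γ = γ * β
  fix_T : ∀ β : MulAut L, β a = a → ∀ t ∈ T, β t = t
  fix_odd : ∀ β : MulAut L, β a = a → ∀ m : ℕ, Odd m → β ^ m = 1 → ∃ t ∈ zpowers a, β = MulAut.conj t
  invol_unique : ∀ β : MulAut L, β a = a → β * β = 1 → β = 1 ∨ β = α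
  exp : ∀ β : MulAut L, β a = a → β ^ (N * 2 ^ k) = 1
  outer_mul : ∀ β γ : MulAut L, β a = a → γ a = a → (¬ ∃ s ∈ T, β = MulAut.conj s) →
    (¬ ∃ s ∈ T, γ = MulAut.conj s) → ∃ s ∈ T, β * γ = MulAut.conj s
  conj_inner : ∀ β : MulAut L, ∃ s : L, MulAut.conj s * (β * α * β⁻¹) * (MulAut.conj s)⁻¹ = α
  exists_n : ∃ n : L, n * n = z ∧ (∀ t ∈ T, n * t * n⁻¹ = t⁻¹) ∧ α n = n * z
  z_ne : z ≠ 1
  zz : z * z = 1
  z_comm : ∀ x, z * x = x * z
  center : ∀ x, (∀ y, x * y = y * x) → x = 1 ∨ x = z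
  invol : ∀ x, x * x = 1 → x = 1 ∨ x = z
  perfect : commutator L = ⊤
  normal : ∀ K : Subgroup L, K.Normal → (∀ x ∈ K, x = 1 ∨ x = z) ∨ K = ⊤

section SL

variable {F : Type*} [Field F] [Fintype F]

open Cfsg.Agent.LFourR.AutTorus

omit [Fintype F] in
theorem sl_center (x : Matrix.SpecialLinearGroup (Fin 2) F)
    (hx : ∀ y, x * y = y * x) : x = 1 ∨ x = -1 := by
  have h1 : x ∈ Subgroup.center (Matrix.SpecialLinearGroup (Fin 2) F) := Subgroup.mem_center_iff.2 (fun g => (hx g).symm)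
  obtain ⟨r, -, hr⟩ := Matrix.SpecialLinearGroup.mem_center_iff.1 h1
  refine Cfsg.Agent.ClassicalGeometry.NonsplitTorus.eq_one_or_of_smul x r ?_
  rw [← hr]
  ext i j
  simp [Matrix.scalar_apply, Matrix.diagonal_apply, Matrix.one_apply]

theorem sl_normal (h3 : 3 < Fintype.card F) (K : Subgroup (Matrix.SpecialLinearGroup (Fin 2) F)) (hK : K.Normal) :
    (∀ x ∈ K, x = 1 ∨ x = -1) ∨ K = ⊤ := by
  have hs := Cfsg.Agent.TwoFusion.SLTwoFacts.isSimpleGroup_psl (F := F) h3
  set π : Matrix.SpecialLinearGroup (Fin 2) F →* Matrix.ProjectiveSpecialLinearGroup (Fin 2) F :=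
    QuotientGroup.mk' _ with hπ
  have hsurj : Function.Surjective π := QuotientGroup.mk'_surjective _
  have hn : (K.map π).Normal := hK.map π hsurj
  rcases hn.eq_bot_or_eq_top with h | h
  · left
    intro x hx
    have h1 : π x = 1 := by
      rw [← Subgroup.mem_bot, ← h]; exact Subgroup.mem_map_of_mem π hx
    have h2 : x ∈ Subgroup.center (Matrix.SpecialLinearGroup (Fin 2) F) := (QuotientGroup.eq_one_iff x).1 h1
    exact sl_center x (fun y => (Subgroup.mem_center_iff.1 h2 y).symm)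
  · right
    have hcomm : commutator (Matrix.SpecialLinearGroup (Fin 2) F) ≤ K := by
      rw [commutator_def, Subgroup.commutator_le]
      intro x _ y _
      have hx : π x ∈ K.map π := by rw [h]; trivial
      have hy : π y ∈ K.map π := by rw [h]; trivial
      obtain ⟨u, hu, hux⟩ := hx
      obtain ⟨v, hv, hvy⟩ := hy
      have hc : ∀ u x : Matrix.SpecialLinearGroup (Fin 2) F, π u = π x →
          ∃ c ∈ Subgroup.center (Matrix.SpecialLinearGroup (Fin 2) F), x = u * c := by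
        intro u x h
        refine ⟨u⁻¹ * x, ?_, by rw [mul_inv_cancel_left]⟩
        have : π (u⁻¹ * x) = 1 := by rw [map_mul, map_inv, h, inv_mul_cancel]
        exact (QuotientGroup.eq_one_iff _).1 this
      obtain ⟨c, hc1, rfl⟩ := hc u x hux
      obtain ⟨d, hd1, rfl⟩ := hc v y hvy
      rw [Subgroup.mem_center_iff] at hc1 hd1
      have e : ⁅u * c, v * d⁆ = ⁅u, v⁆ := by
        rw [commutatorElement_def, commutatorElement_def]
        calc u * c * (v * d) * (u * c)⁻¹ * (v * d)⁻¹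
            = u * (c * v) * (d * (u * c)⁻¹) * (d⁻¹ * v⁻¹) := by group
          _ = u * (v * c) * ((u * c)⁻¹ * d) * (d⁻¹ * v⁻¹) := by rw [← hc1 v, hd1]
          _ = u * v * u⁻¹ * v⁻¹ := by group
      rw [e]
      exact Subgroup.mul_mem _ (Subgroup.mul_mem _ (Subgroup.mul_mem _ hu hv) (Subgroup.inv_mem _ hu))
        (Subgroup.inv_mem _ hv)
    rw [Cfsg.Agent.TwoFusion.SLTwoFacts.commutator_eq_top h3] at hcomm
    exact top_le_iff.1 hcomm

end SL

section transport

variable {F : Type*} [Field F] [Fintype F] {L : Type*} [Group L]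

open Cfsg.Agent.LFourR.AutTorus

theorem exists_tf (e0 : L ≃* Matrix.SpecialLinearGroup (Fin 2) F) (α : MulAut L) (hα : α * α = 1) (hα1 : α ≠ 1)
    (T : Subgroup L) (hT : ∀ x, x ∈ T ↔ α x = x) [hcyc : IsCyclic T] {N k : ℕ} (hc : Nat.card T = N * 2 ^ k) {ε : ℤ}
    (hε : ε = 1 ∨ ε = -1) (hN : Odd N) (hN1 : 1 < N) (hq : Odd (Fintype.card F)) (h3 : 3 < Fintype.card F)
    (hqe : (Fintype.card F : ℤ) - ε = N * 2 ^ k) (hns : ε = 1 → ¬ IsSquare (Fintype.card F)) :
    ∃ a : L, TF α (e0.symm (-1)) a N k T ∧ Ar F (e0 a) N k ε ∧ Inv (e0 a) (MulAut.congr e0 α) := by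
  obtain ⟨⟨t0, ht0⟩, hgen⟩ := hcyc.exists_generator
  have hT0 : orderOf t0 = N * 2 ^ k := by
    have h1 : Nat.card (zpowers (⟨t0, ht0⟩ : T)) = Nat.card T := by
      rw [(Subgroup.eq_top_iff' _).2 hgen, Subgroup.card_top]
    rw [Nat.card_zpowers, hc] at h1
    rw [← h1]
    exact (Subgroup.orderOf_coe (⟨t0, ht0⟩ : T))
  have hgen' : ∀ x ∈ T, ∃ m : ℤ, x = t0 ^ m := by
    intro x hx
    obtain ⟨m, hm⟩ := Subgroup.mem_zpowers_iff.1 (hgen ⟨x, hx⟩)
    exact ⟨m, by simpa using (congrArg Subtype.val hm).symm⟩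
  set a : L := t0 ^ (2 ^ k) with ha
  have haT : a ∈ T := T.pow_mem ht0 _
  have hN0 : 0 < N := by omega
  have hord : orderOf a = N := by
    rw [ha, orderOf_pow' _ (by positivity), hT0, Nat.gcd_eq_right (dvd_mul_left _ _), Nat.mul_div_cancel _ (by positivity)]
  have hα' : ∀ β : MulAut L, ∀ x : L, MulAut.congr e0 β (e0 x) = e0 (β x) := by
    intro β x
    change e0 (β (e0.symm (e0 x))) = _
    rw [e0.symm_apply_apply]
  have hAr : Ar F (e0 a) N k ε :=
    ⟨hε, by rw [MulEquiv.orderOf_eq, hord], hN, hN1, hq, hqe, hns⟩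
  have hInv : Inv (e0 a) (MulAut.congr e0 α) := by
    refine ⟨by rw [← map_mul, hα, map_one], ?_, by rw [hα', (hT a).1 haT]⟩
    intro h
    exact hα1 ((MulAut.congr e0).injective (h.trans (map_one _).symm))
  have hfix : ∀ β : MulAut L, β a = a → MulAut.congr e0 β (e0 a) = e0 a := fun β h => by rw [hα', h]
  have hcent : ∀ x, x ∈ T ↔ x * a = a * x := by
    intro x
    rw [hT, ← e0.injective.eq_iff (a := α x), ← hα', hAr.fixed_iff hInv, ← map_mul, ← map_mul, e0.injective.eq_iff]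
  have hconj : ∀ s : L, MulAut.congr e0 (MulAut.conj s) = MulAut.conj (e0 s) := by
    intro s
    apply MulEquiv.ext
    intro x
    obtain ⟨y, rfl⟩ := e0.surjective x
    rw [hα', MulAut.conj_apply, MulAut.conj_apply, map_mul, map_mul, map_inv]
  have hsymm : ∀ x, e0 (e0.symm x) = x := e0.apply_symm_apply
  have h2 : (2 : F) ≠ 0 := two_ne_zero' hq
  refine ⟨a, ?_, hAr, hInv⟩
  refine ⟨hα, hα1, hT, hcent, hord, hN, hN1, hcyc, hc, ?_, ?_, ?_, ?_, ?_, ?_, ?_, ?_, ?_, ?_, ?_, ?_, ?_, ?_, ?_, ?_⟩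
  · -- odd_mem
    intro x hx hodd
    obtain ⟨m, rfl⟩ := hgen' x hx
    have h1 : orderOf (t0 ^ m) ∣ N * 2 ^ k := by
      rw [← hT0]; exact orderOf_dvd_of_mem_zpowers ⟨m, rfl⟩
    have h2 : orderOf (t0 ^ m) ∣ N := (Nat.Coprime.pow_right k (Nat.coprime_two_right.2 hodd)).dvd_of_dvd_mul_right h1
    have h3 : (t0 ^ m) ^ N = 1 := orderOf_dvd_iff_pow_eq_one.1 h2
    rw [← zpow_natCast, ← zpow_mul] at h3
    have h4 : ((N * 2 ^ k : ℕ) : ℤ) ∣ m * N := by
      rw [← hT0]; exact orderOf_dvd_iff_zpow_eq_one.2 h3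
    have h5 : ((2 ^ k : ℕ) : ℤ) ∣ m := by
      push_cast at h4 ⊢
      rw [mul_comm m] at h4
      exact (mul_dvd_mul_iff_left (by exact_mod_cast hN0.ne')).1 h4
    obtain ⟨j, rfl⟩ := h5
    rw [ha, zpow_mul, zpow_natCast]
    exact ⟨j, rfl⟩
  · intro β γ hβ hγ
    apply (MulAut.congr e0).injective
    rw [map_mul, map_mul]
    exact hAr.fix_comm _ _ (hfix β hβ) (hfix γ hγ)
  · intro β hβ t ht
    apply e0.injective
    rw [← hα']
    refine hAr.fix_cent _ (hfix β hβ) _ ?_
    rw [← map_mul, ← map_mul, (hcent t).1 ht]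
  · intro β hβ m hm hβm
    obtain ⟨t, ht1, ht2, ht3⟩ := hAr.fix_odd _ (hfix β hβ) hm (by rw [← map_pow, hβm, map_one])
    obtain ⟨t', rfl⟩ := e0.surjective t
    have ht' : t' ∈ T := by
      rw [hcent]; apply e0.injective; rw [map_mul, map_mul, ht1]
    have hpow : t' ^ m = 1 := by apply e0.injective; rw [map_pow, ht2, map_one]
    have hodd : Odd (orderOf t') := Odd.of_dvd_nat hm (orderOf_dvd_of_pow_eq_one hpow)
    have hmem : t' ∈ zpowers a := by
      have h1 : orderOf t' ∣ N * 2 ^ k := by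
        obtain ⟨j, rfl⟩ := hgen' t' ht'
        rw [← hT0]; exact orderOf_dvd_of_mem_zpowers ⟨j, rfl⟩
      obtain ⟨j, rfl⟩ := hgen' t' ht'
      have h2 : orderOf (t0 ^ j) ∣ N := (Nat.Coprime.pow_right k (Nat.coprime_two_right.2 hodd)).dvd_of_dvd_mul_right h1
      have h3 : (t0 ^ j) ^ N = 1 := orderOf_dvd_iff_pow_eq_one.1 h2
      rw [← zpow_natCast, ← zpow_mul] at h3
      have h4 : ((N * 2 ^ k : ℕ) : ℤ) ∣ j * N := by
        rw [← hT0]; exact orderOf_dvd_iff_zpow_eq_one.2 h3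
      have h5 : ((2 ^ k : ℕ) : ℤ) ∣ j := by
        push_cast at h4 ⊢
        rw [mul_comm j] at h4
        exact (mul_dvd_mul_iff_left (by exact_mod_cast hN0.ne')).1 h4
      obtain ⟨j', rfl⟩ := h5
      rw [ha, zpow_mul, zpow_natCast]
      exact ⟨j', rfl⟩
    refine ⟨t', hmem, ?_⟩
    apply (MulAut.congr e0).injective
    rw [hconj, ht3]
  · intro β hβ hβ2
    rcases hAr.invol_unique hInv _ (hfix β hβ) (by rw [← map_mul, hβ2, map_one]) with h | h
    · left; exact (MulAut.congr e0).injective (h.trans (map_one _).symm)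
    · right; exact (MulAut.congr e0).injective h
  · intro β hβ
    apply (MulAut.congr e0).injective
    rw [map_pow, map_one]
    exact hAr.exp _ (hfix β hβ)
  · intro β γ hβ hγ hβ' hγ'
    have key : ∀ δ : MulAut L, (¬ ∃ s ∈ T, δ = MulAut.conj s) →
        ¬ ∃ s : Matrix.SpecialLinearGroup (Fin 2) F, s * e0 a = e0 a * s ∧ MulAut.congr e0 δ = MulAut.conj s := by
      rintro δ hδ ⟨s, hs, hs'⟩
      obtain ⟨s, rfl⟩ := e0.surjective s
      refine hδ ⟨s, ?_, ?_⟩
      · rw [hcent]; apply e0.injective; rw [map_mul, map_mul, hs]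
      · apply (MulAut.congr e0).injective; rw [hconj, hs']
    obtain ⟨s, hs, hs'⟩ := hAr.outer_mul _ _ (hfix β hβ) (hfix γ hγ) (key β hβ') (key γ hγ')
    obtain ⟨s, rfl⟩ := e0.surjective s
    refine ⟨s, ?_, ?_⟩
    · rw [hcent]; apply e0.injective; rw [map_mul, map_mul, hs]
    · apply (MulAut.congr e0).injective; rw [hconj, ← hs', map_mul]
  · intro β
    obtain ⟨s, hs⟩ := hAr.conj_inner hInv (MulAut.congr e0 β)
    obtain ⟨s, rfl⟩ := e0.surjective s
    refine ⟨s, ?_⟩
    apply (MulAut.congr e0).injective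
    rw [← hs, map_mul, map_mul, map_mul, map_mul, map_inv, map_inv, hconj]
  · obtain ⟨n, hn1, hn2, hn3⟩ := hAr.exists_n hInv
    obtain ⟨n, rfl⟩ := e0.surjective n
    refine ⟨n, ?_, ?_, ?_⟩
    · apply e0.injective; rw [map_mul, hn1, hsymm]
    · intro t ht
      apply e0.injective
      rw [map_mul, map_mul, map_inv, map_inv]
      exact hn2 (e0 t) (by rw [← map_mul, ← map_mul, (hcent t).1 ht])
    · apply e0.injective
      rw [← hα', hn3, map_mul, hsymm, mul_neg, mul_one]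
  · intro h
    have h1 : (-1 : Matrix.SpecialLinearGroup (Fin 2) F) = 1 := by
      have := congrArg e0 h
      rwa [hsymm, map_one] at this
    have h3 := congrArg (fun x : Matrix.SpecialLinearGroup (Fin 2) F => x.1 0 0) h1
    have h4 : ((-1 : Matrix.SpecialLinearGroup (Fin 2) F)).1 0 0 = -1 := by
      rw [val_neg, FieldPart.val_one]; simp
    have h5 : ((1 : Matrix.SpecialLinearGroup (Fin 2) F)).1 0 0 = 1 := by rw [FieldPart.val_one]; simp
    simp only [h4, h5] at h3
    exact h2 (by linear_combination -h3)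
  · apply e0.injective
    rw [map_mul, hsymm, map_one, neg_mul_neg, one_mul]
  · intro x
    apply e0.injective
    rw [map_mul, map_mul, hsymm, neg_mul, mul_neg, one_mul, mul_one]
  · intro x hx
    rcases sl_center (e0 x) (fun y => by
      obtain ⟨y, rfl⟩ := e0.surjective y
      rw [← map_mul, hx, map_mul]) with h | h
    · left; apply e0.injective; rw [h, map_one]
    · right; apply e0.injective; rw [h, hsymm]
  · intro x hx
    rcases Cfsg.Agent.ClassicalGeometry.PSL2ElemOrder.eq_one_or_of_sq h2 (e0 x) (by rw [← map_mul, hx, map_one]) with h | h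
    · left; apply e0.injective; rw [h, map_one]
    · right; apply e0.injective; rw [h, hsymm]
  · have h1 := Cfsg.Agent.TwoFusion.SLTwoFacts.commutator_eq_top (F := F) h3
    have h2 : (commutator L).map e0.toMonoidHom = ⊤ := by
      rw [commutator_def, Subgroup.map_commutator, ← MonoidHom.range_eq_map,
        MonoidHom.range_eq_top.2 e0.surjective, ← commutator_def, h1]
    rw [eq_top_iff]
    intro x _
    have h3 : e0 x ∈ (commutator L).map e0.toMonoidHom := by rw [h2]; trivial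
    obtain ⟨y, hy, hyx⟩ := h3
    have : y = x := e0.injective hyx
    exact this ▸ hy
  · intro K hK
    have hKn : (K.map e0.toMonoidHom).Normal := hK.map _ e0.surjective
    rcases sl_normal h3 _ hKn with h | h
    · left
      intro x hx
      rcases h (e0 x) (Subgroup.mem_map_of_mem _ hx) with h' | h'
      · left; apply e0.injective; rw [h', map_one]
      · right; apply e0.injective; rw [h', hsymm]
    · right
      rw [eq_top_iff]
      intro x _
      have h3 : e0 x ∈ K.map e0.toMonoidHom := by rw [h]; trivial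
      obtain ⟨y, hy, hyx⟩ := h3
      have : y = x := e0.injective hyx
      exact this ▸ hy

end transport

end Cfsg.Agent.LFourR
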