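import Mathlib
import Cfsg.Agent.LFourR.TF

/-!
The facts on a subgroup `L ≅ SL(2, F)` of `G` normalised by an element `e` which induces an involutory automorphism with
cyclic fixed point group of order `q - ε = N 2 ^ k`.
-/

set_option autoImplicit false

namespace Cfsg.Agent.LFourR

open Subgroup

variable {G : Type*} [Group G]

/-- facts on `L ≅ SL(2, F)`, the automorphism induced by `e`, and a generator `a` of the odd part of `C_L(e)` -/
structure Side (z e a : G) (L : Subgroup G) (N k : ℕ) : Prop where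
  e_norm : e ∈ normalizer (L : Set G)
  a_mem : a ∈ L
  a_e : a * e = e * a
  ord : orderOf a = N
  odd : Odd N
  one_lt : 1 < N
  z_mem : z ∈ L
  z_ne : z ≠ 1
  zz : z * z = 1
  z_comm : ∀ x ∈ L, z * x = x * z
  cent : ∀ x ∈ L, x * e = e * x ↔ x * a = a * x
  T_card : Nat.card (L ⊓ centralizer {e} : Subgroup G) = N * 2 ^ k
  T_cyc : IsCyclic (L ⊓ centralizer {e} : Subgroup G)
  odd_mem : ∀ x ∈ L, x * e = e * x → Odd (orderOf x) → x ∈ zpowers a
  not_comm : ¬ ∀ l ∈ L, e * l = l * e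
  fix_comm : ∀ x ∈ normalizer (L : Set G), ∀ y ∈ normalizer (L : Set G), x * a = a * x → y * a = a * y →
    ∀ l ∈ L, (x * y) * l * (x * y)⁻¹ = (y * x) * l * (y * x)⁻¹
  fix_T : ∀ x ∈ normalizer (L : Set G), x * a = a * x → ∀ t ∈ L, t * e = e * t → x * t = t * x
  fix_odd : ∀ x ∈ normalizer (L : Set G), x * a = a * x → ∀ m : ℕ, Odd m → (∀ l ∈ L, x ^ m * l = l * x ^ m) →
    ∃ t ∈ zpowers a, ∀ l ∈ L, x * l * x⁻¹ = t * l * t⁻¹
  invol_unique : ∀ x ∈ normalizer (L : Set G), x * a = a * x → (∀ l ∈ L, (x * x) * l = l * (x * x)) →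
    (∀ l ∈ L, x * l = l * x) ∨ (∀ l ∈ L, x * l * x⁻¹ = e * l * e⁻¹)
  exp : ∀ x ∈ normalizer (L : Set G), x * a = a * x → ∀ l ∈ L, x ^ (N * 2 ^ k) * l = l * x ^ (N * 2 ^ k)
  outer_mul : ∀ x ∈ normalizer (L : Set G), ∀ y ∈ normalizer (L : Set G), x * a = a * x → y * a = a * y →
    (¬ ∃ s ∈ L, s * e = e * s ∧ ∀ l ∈ L, x * l * x⁻¹ = s * l * s⁻¹) →
    (¬ ∃ s ∈ L, s * e = e * s ∧ ∀ l ∈ L, y * l * y⁻¹ = s * l * s⁻¹) →
    ∃ s ∈ L, s * e = e * s ∧ ∀ l ∈ L, (x * y) * l * (x * y)⁻¹ = s * l * s⁻¹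
  conj_inner : ∀ x ∈ normalizer (L : Set G), ∃ s ∈ L, ∀ l ∈ L,
    (s * (x * e * x⁻¹) * s⁻¹) * l * (s * (x * e * x⁻¹) * s⁻¹)⁻¹ = e * l * e⁻¹
  exists_n : ∃ n ∈ L, n * n = z ∧ (∀ t ∈ L, t * e = e * t → n * t * n⁻¹ = t⁻¹) ∧ e * n * e⁻¹ = n * z
  center : ∀ x ∈ L, (∀ y ∈ L, x * y = y * x) → x = 1 ∨ x = z
  invol : ∀ x ∈ L, x * x = 1 → x = 1 ∨ x = z
  perfect : ⁅L, L⁆ = L
  normal : ∀ K : Subgroup G, K ≤ L → (∀ l ∈ L, ∀ x ∈ K, l * x * l⁻¹ ∈ K) → (∀ x ∈ K, x = 1 ∨ x = z) ∨ L ≤ K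

/-- the automorphism of `L` induced by an element of the normaliser -/
def nact (L : Subgroup G) {x : G} (hx : x ∈ normalizer (L : Set G)) : MulAut L :=
  L.normalizerMonoidHom ⟨x, hx⟩

theorem coe_nact (L : Subgroup G) {x : G} (hx : x ∈ normalizer (L : Set G)) (l : L) :
    ((nact L hx l : L) : G) = x * l * x⁻¹ := rfl

theorem nact_mul (L : Subgroup G) {x y : G} (hx : x ∈ normalizer (L : Set G)) (hy : y ∈ normalizer (L : Set G)) :
    nact L (mul_mem hx hy) = nact L hx * nact L hy := by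
  rw [nact, nact, nact, ← map_mul]; rfl

theorem nact_pow (L : Subgroup G) {x : G} (hx : x ∈ normalizer (L : Set G)) (m : ℕ) :
    nact L (pow_mem hx m) = nact L hx ^ m := by
  rw [nact, nact, ← map_pow]; rfl

theorem nact_inv (L : Subgroup G) {x : G} (hx : x ∈ normalizer (L : Set G)) :
    nact L (inv_mem hx) = (nact L hx)⁻¹ := by
  rw [nact, nact, ← map_inv]; rfl

theorem nact_eq_one_iff (L : Subgroup G) {x : G} (hx : x ∈ normalizer (L : Set G)) :
    nact L hx = 1 ↔ ∀ l ∈ L, x * l = l * x := by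
  constructor
  · intro h l hl
    have := congrArg (fun β : MulAut L => ((β ⟨l, hl⟩ : L) : G)) h
    simp only [coe_nact, MulAut.one_apply] at this
    exact mul_inv_eq_iff_eq_mul.1 this
  · intro h
    apply MulEquiv.ext
    intro l
    apply Subtype.ext
    rw [coe_nact, h l l.2, mul_inv_cancel_right, MulAut.one_apply]

theorem nact_eq_iff (L : Subgroup G) {x y : G} (hx : x ∈ normalizer (L : Set G)) (hy : y ∈ normalizer (L : Set G)) :
    nact L hx = nact L hy ↔ ∀ l ∈ L, x * l * x⁻¹ = y * l * y⁻¹ := by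
  constructor
  · intro h l hl
    exact congrArg (fun β : MulAut L => ((β ⟨l, hl⟩ : L) : G)) h
  · intro h
    apply MulEquiv.ext
    intro l
    exact Subtype.ext (h l l.2)

theorem nact_eq_conj_iff (L : Subgroup G) {x : G} (hx : x ∈ normalizer (L : Set G)) (s : L) :
    nact L hx = MulAut.conj s ↔ ∀ l ∈ L, x * l * x⁻¹ = s * l * (s : G)⁻¹ := by
  constructor
  · intro h l hl
    exact congrArg (fun β : MulAut L => ((β ⟨l, hl⟩ : L) : G)) h
  · intro h
    apply MulEquiv.ext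
    intro l
    exact Subtype.ext (h l l.2)

theorem side_of_tf {e z' a' : G} {L : Subgroup G} (he : e ∈ normalizer (L : Set G))
    {z a : L} {N k : ℕ} (hz : (z : G) = z') (ha : (a : G) = a')
    (H : TF (nact L he) z a N k ((centralizer {e}).subgroupOf L)) :
    Side z' e a' L N k := by
  subst hz ha
  have hT : ∀ x : L, x ∈ (centralizer {e}).subgroupOf L ↔ (x : G) * e = e * x := by
    intro x
    rw [mem_subgroupOf, mem_centralizer_singleton_iff]
  have ecomm : ∀ x : L, (x : G) * e = e * x ↔ x * a = a * x := by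
    intro x
    rw [← hT, H.cent]
  have hfix : ∀ {x : G} (hx : x ∈ normalizer (L : Set G)), x * a = a * x → nact L hx a = a := by
    intro x hx h
    apply Subtype.ext
    rw [coe_nact, h, mul_inv_cancel_right]
  have haT : a ∈ (centralizer {e}).subgroupOf L := (H.cent a).2 rfl
  have hequiv : (L ⊓ centralizer {e} : Subgroup G) ≃* ((centralizer {e}).subgroupOf L) :=
    { toFun := fun x => ⟨⟨x.1, (Subgroup.mem_inf.1 x.2).1⟩, (Subgroup.mem_inf.1 x.2).2⟩
      invFun := fun x => ⟨x.1.1, Subgroup.mem_inf.2 ⟨x.1.2, x.2⟩⟩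
      left_inv := fun x => rfl
      right_inv := fun x => rfl
      map_mul' := fun x y => rfl }
  refine ⟨he, a.2, (hT a).1 haT, by rw [Subgroup.orderOf_coe, H.ord], H.odd, H.one_lt, z.2, ?_, ?_, ?_, ?_, ?_, ?_, ?_,
    ?_, ?_, ?_, ?_, ?_, ?_, ?_, ?_, ?_, ?_, ?_, ?_, ?_⟩
  · intro h; exact H.z_ne (Subtype.ext h)
  · exact congrArg Subtype.val H.zz
  · intro x hx; exact congrArg Subtype.val (H.z_comm ⟨x, hx⟩)
  · intro x hx
    rw [ecomm ⟨x, hx⟩, ← Subtype.val_inj]
    rfl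
  · rw [Nat.card_congr hequiv.toEquiv, H.cardT]
  · have := H.cyc
    exact isCyclic_of_surjective hequiv.symm hequiv.symm.surjective
  · intro x hx hxe hodd
    obtain ⟨m, hm⟩ := mem_zpowers_iff.1 (H.odd_mem ⟨x, hx⟩ ((hT _).2 hxe) (by rwa [← Subgroup.orderOf_coe]))
    exact mem_zpowers_iff.2 ⟨m, by simpa using congrArg Subtype.val hm⟩
  · intro h
    exact H.ne ((nact_eq_one_iff L he).2 h)
  · intro x hx y hy hxa hya l hl
    have := H.fix_comm _ _ (hfix hx hxa) (hfix hy hya)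
    rw [← nact_mul, ← nact_mul, nact_eq_iff] at this
    exact this l hl
  · intro x hx hxa t ht hte
    have := congrArg Subtype.val (H.fix_T _ (hfix hx hxa) ⟨t, ht⟩ ((hT _).2 hte))
    rw [coe_nact] at this
    exact (mul_inv_eq_iff_eq_mul.1 this)
  · intro x hx hxa m hm hxm
    obtain ⟨t, ht, ht'⟩ := H.fix_odd _ (hfix hx hxa) m hm (by rw [← nact_pow, nact_eq_one_iff]; exact hxm)
    refine ⟨t, ?_, (nact_eq_conj_iff L hx t).1 ht'⟩
    obtain ⟨j, hj⟩ := mem_zpowers_iff.1 ht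
    exact mem_zpowers_iff.2 ⟨j, by simpa using congrArg Subtype.val hj⟩
  · intro x hx hxa hxx
    rcases H.invol_unique _ (hfix hx hxa) (by rw [← nact_mul, nact_eq_one_iff]; exact hxx) with h | h
    · left; exact (nact_eq_one_iff L hx).1 h
    · right; exact (nact_eq_iff L hx he).1 h
  · intro x hx hxa
    rw [← nact_eq_one_iff L (pow_mem hx _), nact_pow L hx]
    exact H.exp _ (hfix hx hxa)
  · intro x hx y hy hxa hya hx' hy'
    obtain ⟨s, hs, hs'⟩ := H.outer_mul _ _ (hfix hx hxa) (hfix hy hya)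
      (by
        rintro ⟨s, hs, hs'⟩
        exact hx' ⟨s, s.2, (hT s).1 hs, (nact_eq_conj_iff L hx s).1 hs'⟩)
      (by
        rintro ⟨s, hs, hs'⟩
        exact hy' ⟨s, s.2, (hT s).1 hs, (nact_eq_conj_iff L hy s).1 hs'⟩)
    rw [← nact_mul, nact_eq_conj_iff] at hs'
    exact ⟨s, s.2, (hT s).1 hs, hs'⟩
  · intro x hx
    obtain ⟨s, hs⟩ := H.conj_inner (nact L hx)
    refine ⟨s, s.2, ?_⟩
    have hsn : (s : G) ∈ normalizer (L : Set G) := le_normalizer s.2
    have e1 : MulAut.conj s = nact L hsn := by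
      apply MulEquiv.ext; intro l; apply Subtype.ext; rfl
    rw [e1, ← nact_inv, ← nact_mul, ← nact_mul, ← nact_inv, ← nact_mul, ← nact_mul, nact_eq_iff] at hs
    exact hs
  · obtain ⟨n, hn1, hn2, hn3⟩ := H.exists_n
    refine ⟨n, n.2, congrArg Subtype.val hn1, ?_, congrArg Subtype.val hn3⟩
    intro t ht hte
    exact congrArg Subtype.val (hn2 ⟨t, ht⟩ ((hT _).2 hte))
  · intro x hx h
    rcases H.center ⟨x, hx⟩ (fun y => Subtype.ext (h y y.2)) with h' | h'
    · left; exact congrArg Subtype.val h'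
    · right; exact congrArg Subtype.val h'
  · intro x hx h
    rcases H.invol ⟨x, hx⟩ (Subtype.ext h) with h' | h'
    · left; exact congrArg Subtype.val h'
    · right; exact congrArg Subtype.val h'
  · have h1 := congrArg (Subgroup.map L.subtype) H.perfect
    rw [_root_.commutator_def, Subgroup.map_commutator, ← MonoidHom.range_eq_map, L.range_subtype] at h1
    exact h1
  · intro K hKL hK
    rcases H.normal (K.subgroupOf L) ⟨fun x hx l => hK l l.2 x hx⟩ with h | h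
    · left
      intro x hx
      rcases h ⟨x, hKL hx⟩ hx with h' | h'
      · left; exact congrArg Subtype.val h'
      · right; exact congrArg Subtype.val h'
    · right
      intro x hx
      have : (⟨x, hx⟩ : L) ∈ K.subgroupOf L := by rw [h]; trivial
      exact this

end Cfsg.Agent.LFourR
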