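import Mathlib
import Cfsg.Agent.LFourR.Side

/-!
Existence of `Side` from an isomorphism `L ≅ SL(2, F)`; change of the generator; conjugation.
-/

set_option autoImplicit false

namespace Cfsg.Agent.LFourR

open Subgroup

/-- the numerical data -/
structure Nums (F : Type*) [Field F] [Fintype F] (ε : ℤ) (N k : ℕ) : Prop where
  eps : ε = 1 ∨ ε = -1
  odd : Odd N
  one_lt : 1 < N
  qodd : Odd (Fintype.card F)
  q3 : 3 < Fintype.card F
  q_eq : (Fintype.card F : ℤ) - ε = N * 2 ^ k
  ns : ε = 1 → ¬ IsSquare (Fintype.card F)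

theorem zpowers_eq_of_mem {G : Type*} [Group G] {a b : G} (h : a ∈ zpowers b) (hab : orderOf a = orderOf b)
    (h0 : 0 < orderOf b) : zpowers a = zpowers b := by
  have hle : zpowers a ≤ zpowers b := by rwa [zpowers_le]
  have : Finite (zpowers b) := by
    rw [← Nat.card_zpowers] at h0
    exact Nat.finite_of_card_ne_zero h0.ne'
  exact eq_of_le_of_card_ge hle (by rw [Nat.card_zpowers, Nat.card_zpowers, hab])

theorem comm_of_mem_zpowers {G : Type*} [Group G] {a b x : G} (h : a ∈ zpowers b) (hx : x * b = b * x) :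
    x * a = a * x := by
  obtain ⟨m, rfl⟩ := mem_zpowers_iff.1 h
  exact (Commute.zpow_right (show Commute x b from hx) m).eq

theorem TF.change {L : Type*} [Group L] {α : MulAut L} {z a : L} {N k : ℕ} {T : Subgroup L} (H : TF α z a N k T)
    {b : L} (hb : b ∈ T) (hord : orderOf b = N) : TF α z b N k T := by
  have h1 : b ∈ zpowers a := H.odd_mem b hb (by rw [hord]; exact H.odd)
  have hz : zpowers b = zpowers a := zpowers_eq_of_mem h1 (by rw [hord, H.ord]) (by rw [H.ord]; have := H.one_lt; omega)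
  have hab : a ∈ zpowers b := by rw [hz]; exact mem_zpowers a
  have hfix : ∀ β : MulAut L, β b = b → β a = a := by
    intro β hβ
    obtain ⟨m, hm⟩ := mem_zpowers_iff.1 hab
    rw [← hm, map_zpow, hβ]
  exact
    { sq := H.sq
      ne := H.ne
      mem_T := H.mem_T
      cent := by
        intro x
        rw [H.cent]
        exact ⟨fun h => comm_of_mem_zpowers h1 h, fun h => comm_of_mem_zpowers hab h⟩
      ord := hord
      odd := H.odd
      one_lt := H.one_lt
      cyc := H.cyc
      cardT := H.cardT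
      odd_mem := by rw [hz]; exact H.odd_mem
      fix_comm := fun β γ hβ hγ => H.fix_comm β γ (hfix β hβ) (hfix γ hγ)
      fix_T := fun β hβ => H.fix_T β (hfix β hβ)
      fix_odd := by rw [hz]; exact fun β hβ => H.fix_odd β (hfix β hβ)
      invol_unique := fun β hβ => H.invol_unique β (hfix β hβ)
      exp := fun β hβ => H.exp β (hfix β hβ)
      outer_mul := fun β γ hβ hγ => H.outer_mul β γ (hfix β hβ) (hfix γ hγ)
      conj_inner := H.conj_inner
      exists_n := H.exists_n
      z_ne := H.z_ne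
      zz := H.zz
      z_comm := H.z_comm
      center := H.center
      invol := H.invol
      perfect := H.perfect
      normal := H.normal }

variable {F : Type*} [Field F] [Fintype F] {G : Type*} [Group G]

theorem exists_side {L : Subgroup G} (e0 : L ≃* Matrix.SpecialLinearGroup (Fin 2) F) {ε : ℤ} {N k : ℕ}
    (hn : Nums F ε N k) {z e a : G} (he : e ∈ normalizer (L : Set G)) (hee : e * e = 1)
    (hne : ¬ ∀ l ∈ L, e * l = l * e) (hcyc : IsCyclic (L ⊓ centralizer {e} : Subgroup G))
    (hcard : Nat.card (L ⊓ centralizer {e} : Subgroup G) = N * 2 ^ k) (hz : z ∈ L) (hzz : z * z = 1) (hz1 : z ≠ 1)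
    (ha : a ∈ L) (hae : a * e = e * a) (hord : orderOf a = N) : Side z e a L N k := by
  have hT : ∀ x : L, x ∈ (centralizer {e}).subgroupOf L ↔ (x : G) * e = e * x := by
    intro x
    rw [mem_subgroupOf, mem_centralizer_singleton_iff]
  have hequiv : (L ⊓ centralizer {e} : Subgroup G) ≃* ((centralizer {e}).subgroupOf L) :=
    { toFun := fun x => ⟨⟨x.1, (Subgroup.mem_inf.1 x.2).1⟩, (Subgroup.mem_inf.1 x.2).2⟩
      invFun := fun x => ⟨x.1.1, Subgroup.mem_inf.2 ⟨x.1.2, x.2⟩⟩
      left_inv := fun x => rfl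
      right_inv := fun x => rfl
      map_mul' := fun x y => rfl }
  have hcyc' : IsCyclic ((centralizer {e}).subgroupOf L) := isCyclic_of_surjective hequiv hequiv.surjective
  have hT' : ∀ x : L, x ∈ (centralizer {e}).subgroupOf L ↔ nact L he x = x := by
    intro x
    rw [hT, ← Subtype.val_inj, coe_nact, mul_inv_eq_iff_eq_mul]
    exact eq_comm
  have hα : nact L he * nact L he = 1 := by
    rw [← nact_mul, nact_eq_one_iff]
    intro l _
    rw [hee, one_mul, mul_one]
  have hα1 : nact L he ≠ 1 := by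
    rw [ne_eq, nact_eq_one_iff]; exact hne
  obtain ⟨a0, H, -, -⟩ := exists_tf e0 (nact L he) hα hα1 ((centralizer {e}).subgroupOf L) hT' (N := N) (k := k)
    (by rw [← hcard]; exact (Nat.card_congr hequiv.toEquiv).symm) hn.eps hn.odd hn.one_lt hn.qodd hn.q3 hn.q_eq hn.ns
  have hz0 : (e0.symm (-1) : L) = ⟨z, hz⟩ := by
    rcases H.invol ⟨z, hz⟩ (Subtype.ext hzz) with h | h
    · exact absurd (congrArg Subtype.val h) hz1
    · exact h.symm
  have H' := H.change (b := ⟨a, ha⟩) ((hT _).2 hae) (by rw [← Subgroup.orderOf_coe, hord])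
  exact side_of_tf he (congrArg Subtype.val hz0) rfl H'

theorem exists_a {L : Subgroup G} {ε : ℤ} {N k : ℕ} (hn : Nums F ε N k) {e : G}
    (hcyc : IsCyclic (L ⊓ centralizer {e} : Subgroup G))
    (hcard : Nat.card (L ⊓ centralizer {e} : Subgroup G) = N * 2 ^ k) :
    ∃ a ∈ L, a * e = e * a ∧ orderOf a = N := by
  obtain ⟨⟨t0, ht0⟩, hgen⟩ := hcyc.exists_generator
  have hT0 : orderOf t0 = N * 2 ^ k := by
    have h1 : Nat.card (zpowers (⟨t0, ht0⟩ : (L ⊓ centralizer {e} : Subgroup G))) =
        Nat.card (L ⊓ centralizer {e} : Subgroup G) := by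
      rw [(Subgroup.eq_top_iff' _).2 hgen, Subgroup.card_top]
    rw [Nat.card_zpowers, hcard] at h1
    rw [← h1]
    exact (Subgroup.orderOf_coe (⟨t0, ht0⟩ : (L ⊓ centralizer {e} : Subgroup G)))
  have hmem : t0 ^ (2 ^ k) ∈ (L ⊓ centralizer {e} : Subgroup G) := pow_mem ht0 _
  refine ⟨t0 ^ (2 ^ k), (mem_inf.1 hmem).1, ?_, ?_⟩
  · have := mem_centralizer_singleton_iff.1 (mem_inf.1 hmem).2
    exact this
  · have hN0 := hn.one_lt
    rw [orderOf_pow' _ (by positivity), hT0, Nat.gcd_eq_right (dvd_mul_left _ _), Nat.mul_div_cancel _ (by positivity)]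

/-- conjugate subgroup -/
def cg (g : G) (L : Subgroup G) : Subgroup G := L.map (MulAut.conj g).toMonoidHom

theorem mem_cg {g : G} {L : Subgroup G} {x : G} : x ∈ cg g L ↔ g⁻¹ * x * g ∈ L := by
  constructor
  · rintro ⟨y, hy, rfl⟩
    have : g⁻¹ * (g * y * g⁻¹) * g = y := by group
    change g⁻¹ * (g * y * g⁻¹) * g ∈ L
    rwa [this]
  · intro h
    exact ⟨g⁻¹ * x * g, h, by change g * (g⁻¹ * x * g) * g⁻¹ = x; group⟩

theorem conj_mem_cg {g : G} {L : Subgroup G} {x : G} (hx : x ∈ L) : g * x * g⁻¹ ∈ cg g L :=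
  ⟨x, hx, rfl⟩

theorem cg_one (L : Subgroup G) : cg 1 L = L := by
  ext x; rw [mem_cg]; simp

theorem cg_mul (g h : G) (L : Subgroup G) : cg (g * h) L = cg g (cg h L) := by
  ext x; rw [mem_cg, mem_cg, mem_cg]
  have : (g * h)⁻¹ * x * (g * h) = h⁻¹ * (g⁻¹ * x * g) * h := by group
  rw [this]

theorem cg_inv_eq {g : G} {L M : Subgroup G} (h : cg g L = M) : cg g⁻¹ M = L := by
  rw [← h, ← cg_mul, inv_mul_cancel, cg_one]

theorem mem_normalizer_iff_cg {g : G} {L : Subgroup G} : g ∈ normalizer (L : Set G) ↔ cg g L = L := by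
  rw [mem_normalizer_iff]
  constructor
  · intro h
    ext x
    rw [mem_cg]
    have := h (g⁻¹ * x * g)
    have e : g * (g⁻¹ * x * g) * g⁻¹ = x := by group
    rw [e] at this
    exact this
  · intro h x
    constructor
    · intro hx
      rw [← h]; exact conj_mem_cg hx
    · intro hx
      rw [← h, mem_cg] at hx
      have e : g⁻¹ * (g * x * g⁻¹) * g = x := by group
      rwa [e] at hx

/-- the isomorphism of a subgroup with a conjugate -/
noncomputable def cgEquiv (g : G) (L : Subgroup G) : L ≃* cg g L :=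
  L.equivMapOfInjective _ (MulAut.conj g).injective

theorem coe_cgEquiv (g : G) (L : Subgroup G) (x : L) : ((cgEquiv g L x : cg g L) : G) = g * x * g⁻¹ := rfl

end Cfsg.Agent.LFourR
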