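import Mathlib

/-!
# The six conjugates of `L₁`, `L₂` generate `G`

`z`, `e` commuting involutions, `ρ : z → e → z e → z`, `L₁`, `L₂` commuting subgroups permuted by `C(z)`, `n₁ ∈ L₁`,
`n₂ ∈ L₂` with `e nᵢ e⁻¹ = nᵢ z`, `w = ρ n₁ n₂ ρ⁻¹` swaps `L₁` and `L₂`. If `G` is the only subgroup containing `C(z)` and
`ρ`, then nothing except `1` centralizes `L₁`, `L₂` and `ρ L₁ ρ⁻¹`.
-/

set_option autoImplicit false

namespace Cfsg.Agent.LFourR.Gen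

open Subgroup

variable {G : Type*} [Group G]

/-- conjugate of a subgroup -/
def cj (g : G) (H : Subgroup G) : Subgroup G := H.map (MulAut.conj g).toMonoidHom

theorem mem_cj {g x : G} {H : Subgroup G} : x ∈ cj g H ↔ g⁻¹ * x * g ∈ H := by
  constructor
  · rintro ⟨y, hy, rfl⟩
    have : g⁻¹ * (MulAut.conj g).toMonoidHom y * g = y := by
      change g⁻¹ * (g * y * g⁻¹) * g = y
      group
    rw [this]; exact hy
  · intro hx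
    refine ⟨_, hx, ?_⟩
    change g * (g⁻¹ * x * g) * g⁻¹ = x
    group

theorem cj_mem {g x : G} {H : Subgroup G} (hx : x ∈ H) : g * x * g⁻¹ ∈ cj g H := ⟨x, hx, rfl⟩

theorem cj_cj (a b : G) (H : Subgroup G) : cj a (cj b H) = cj (a * b) H := by
  ext x
  rw [mem_cj, mem_cj, mem_cj]
  have : b⁻¹ * (a⁻¹ * x * a) * b = (a * b)⁻¹ * x * (a * b) := by group
  rw [this]

theorem cj_one (H : Subgroup G) : cj 1 H = H := by
  ext x; rw [mem_cj]; simp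

theorem cj_sup (g : G) (A B : Subgroup G) : cj g (A ⊔ B) = cj g A ⊔ cj g B := Subgroup.map_sup _ _ _

theorem cj_sup3 (g : G) (L A B : Subgroup G) : cj g (L ⊔ (A ⊔ B)) = cj g L ⊔ (cj g A ⊔ cj g B) := by
  rw [cj_sup, cj_sup]

theorem cj_mono {g : G} {A B : Subgroup G} (h : A ≤ B) : cj g A ≤ cj g B := Subgroup.map_mono h

theorem cj_inv_eq {g : G} {A B : Subgroup G} (h : cj g A = B) : cj g⁻¹ B = A := by
  rw [← h, cj_cj, inv_mul_cancel, cj_one]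

theorem cj_eq_of_mem {g : G} {H : Subgroup G} (hg : g ∈ H) : cj g H = H := by
  ext x
  rw [mem_cj]
  constructor
  · intro hx
    have : x = g * (g⁻¹ * x * g) * g⁻¹ := by group
    rw [this]; exact mul_mem (mul_mem hg hx) (inv_mem hg)
  · intro hx
    exact mul_mem (mul_mem (inv_mem hg) hx) hg

theorem mem_normalizer_of_cj {g : G} {H : Subgroup G} (h : cj g H = H) : g ∈ normalizer (H : Set G) := by
  rw [← inv_mem_iff (H := normalizer (H : Set G)), mem_normalizer_iff]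
  intro x
  rw [inv_inv]
  have h1 : x ∈ H ↔ g⁻¹ * x * g ∈ H := by
    conv_lhs => rw [← h]
    exact mem_cj
  exact h1

/-- `g` permutes `L₁`, `L₂` -/
def Pm (L₁ L₂ : Subgroup G) (g : G) : Prop :=
  (cj g L₁ = L₁ ∧ cj g L₂ = L₂) ∨ (cj g L₁ = L₂ ∧ cj g L₂ = L₁)

/-- data -/
structure Data (z e ρ n₁ n₂ : G) (L₁ L₂ : Subgroup G) : Prop where
  ee : e * e = 1
  ze : z * e = e * z
  comm : ∀ x ∈ L₁, ∀ y ∈ L₂, x * y = y * x
  zL₁ : z ∈ L₁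
  zL₂ : z ∈ L₂
  z_ne : z ≠ 1
  perm : ∀ g, g * z = z * g → Pm L₁ L₂ g
  hn₁ : n₁ ∈ L₁
  hn₂ : n₂ ∈ L₂
  e_n₁ : e * n₁ * e⁻¹ = n₁ * z
  ρz : ρ * z * ρ⁻¹ = e
  ρe : ρ * e * ρ⁻¹ = z * e
  swap : cj (ρ * (n₁ * n₂) * ρ⁻¹) L₁ = L₂ ∧ cj (ρ * (n₁ * n₂) * ρ⁻¹) L₂ = L₁
  Z : ∀ x, (∀ y ∈ L₁, x * y = y * x) → (∀ y ∈ L₂, x * y = y * x) → x * e = e * x ∧ (x * x = 1 → x = 1 ∨ x = z)
  frat : ∀ g, g * z = z * g → ∃ l ∈ L₁ ⊔ L₂, ∃ x, (∀ y ∈ L₁, x * y = y * x) ∧ (∀ y ∈ L₂, x * y = y * x) ∧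
    (l * g) * e * (l * g)⁻¹ = e * x

variable {z e ρ n₁ n₂ : G} {L₁ L₂ : Subgroup G}

/-- the six conjugates -/
def H0 (ρ : G) (L₁ L₂ : Subgroup G) : Subgroup G :=
  (L₁ ⊔ L₂) ⊔ (cj ρ (L₁ ⊔ L₂) ⊔ cj (ρ * ρ) (L₁ ⊔ L₂))

theorem Pm.sup {g : G} (h : Pm L₁ L₂ g) : cj g (L₁ ⊔ L₂) = L₁ ⊔ L₂ := by
  rw [cj_sup]
  rcases h with ⟨h1, h2⟩ | ⟨h1, h2⟩
  · rw [h1, h2]
  · rw [h1, h2, sup_comm]

namespace Data

variable (h : Data z e ρ n₁ n₂ L₁ L₂)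

include h

theorem ρze : ρ * (z * e) * ρ⁻¹ = z := by
  have : ρ * (z * e) * ρ⁻¹ = (ρ * z * ρ⁻¹) * (ρ * e * ρ⁻¹) := by group
  rw [this, h.ρz, h.ρe, h.ze, ← mul_assoc, h.ee, one_mul]

theorem ρ3 : (ρ * ρ * ρ) * z = z * (ρ * ρ * ρ) := by
  have : (ρ * ρ * ρ) * z * (ρ * ρ * ρ)⁻¹ = ρ * (ρ * (ρ * z * ρ⁻¹) * ρ⁻¹) * ρ⁻¹ := by group
  rw [h.ρz, h.ρe, h.ρze] at this
  calc (ρ * ρ * ρ) * z = ((ρ * ρ * ρ) * z * (ρ * ρ * ρ)⁻¹) * (ρ * ρ * ρ) := by group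
    _ = z * (ρ * ρ * ρ) := by rw [this]

theorem cj_ρ : cj ρ (H0 ρ L₁ L₂) = H0 ρ L₁ L₂ := by
  rw [H0, cj_sup3, cj_cj, cj_cj]
  have h3 : cj (ρ * (ρ * ρ)) (L₁ ⊔ L₂) = L₁ ⊔ L₂ := by
    rw [← mul_assoc]; exact (h.perm _ h.ρ3).sup
  rw [h3]
  apply le_antisymm
  · exact sup_le (le_sup_of_le_right le_sup_left) (sup_le (le_sup_of_le_right le_sup_right) le_sup_left)
  · exact sup_le (le_sup_of_le_right le_sup_right) (sup_le le_sup_left (le_sup_of_le_right le_sup_left))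

/-- an element of `C(V)` normalizes `H0` -/
theorem cj_V {g : G} (hz : g * z = z * g) (he : g * e = e * g) : cj g (H0 ρ L₁ L₂) = H0 ρ L₁ L₂ := by
  have key : ∀ a : G, a⁻¹ * g * a * z = z * (a⁻¹ * g * a) → cj g (cj a (L₁ ⊔ L₂)) = cj a (L₁ ⊔ L₂) := by
    intro a ha
    have h1 := (h.perm _ ha).sup
    have e1 : g * a = a * (a⁻¹ * g * a) := by group
    rw [cj_cj, e1, ← cj_cj, h1]
  have conj_comm : ∀ a x : G, g * (a * x * a⁻¹) = (a * x * a⁻¹) * g → a⁻¹ * g * a * x = x * (a⁻¹ * g * a) := by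
    intro a x hx
    calc a⁻¹ * g * a * x = a⁻¹ * (g * (a * x * a⁻¹)) * a := by group
      _ = a⁻¹ * ((a * x * a⁻¹) * g) * a := by rw [hx]
      _ = x * (a⁻¹ * g * a) := by group
  have k1 : cj g (L₁ ⊔ L₂) = L₁ ⊔ L₂ := (h.perm _ hz).sup
  have k2 := key ρ (conj_comm ρ z (by rw [h.ρz]; exact he))
  have k3 := key (ρ * ρ) (conj_comm (ρ * ρ) z (by
    have : ρ * ρ * z * (ρ * ρ)⁻¹ = ρ * (ρ * z * ρ⁻¹) * ρ⁻¹ := by group
    rw [this, h.ρz, h.ρe, ← mul_assoc, hz, mul_assoc, he, mul_assoc]))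
  rw [H0, cj_sup3, k1, k2, k3]

theorem zz : z * z = 1 := by
  have h2 : ρ * (z * z) * ρ⁻¹ = e * e := by rw [← h.ρz]; group
  rw [h.ee] at h2
  have h3 : z * z = ρ⁻¹ * (ρ * (z * z) * ρ⁻¹) * ρ := by group
  rw [h3, h2]; group

theorem n₁_z : n₁ * z = z * n₁ := h.comm n₁ h.hn₁ z h.zL₂

theorem n₁_e : n₁ * e * n₁⁻¹ = e * z := by
  have h1 : e * n₁ = n₁ * z * e := by
    rw [← h.e_n₁]; group
  have h2 : e = z * (n₁ * e * n₁⁻¹) := by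
    calc e = e * n₁ * n₁⁻¹ := by group
      _ = n₁ * z * e * n₁⁻¹ := by rw [h1]
      _ = z * (n₁ * e * n₁⁻¹) := by rw [h.n₁_z]; group
  have hi : z⁻¹ = z := inv_eq_of_mul_eq_one_left h.zz
  have h3 : n₁ * e * n₁⁻¹ = z⁻¹ * e := by
    conv_rhs => rw [h2]
    group
  rw [h3, hi, h.ze]

omit h in
theorem L₁_le : L₁ ≤ H0 ρ L₁ L₂ := (le_sup_left.trans le_sup_left)

omit h in
theorem L₂_le : L₂ ≤ H0 ρ L₁ L₂ := (le_sup_right.trans le_sup_left)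

/-- `C(z)` normalizes `H0` -/
theorem cj_z {g : G} (hz : g * z = z * g) : cj g (H0 ρ L₁ L₂) = H0 ρ L₁ L₂ := by
  obtain ⟨l, hl, x, hx1, hx2, hx⟩ := h.frat g hz
  have hlH : l ∈ H0 ρ L₁ L₂ := (le_sup_left : L₁ ⊔ L₂ ≤ H0 ρ L₁ L₂) hl
  have hlz : l * z = z * l := by
    have : ∀ y ∈ L₁ ⊔ L₂, y ∈ centralizer ({z} : Set G) := by
      have h1 : L₁ ⊔ L₂ ≤ centralizer ({z} : Set G) := by
        refine sup_le ?_ ?_
        · intro y hy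
          rw [mem_centralizer_singleton_iff]; exact h.comm y hy z h.zL₂
        · intro y hy
          rw [mem_centralizer_singleton_iff]; exact (h.comm z h.zL₁ y hy).symm
      exact fun y hy => h1 hy
    exact mem_centralizer_singleton_iff.1 (this l hl)
  obtain ⟨hxe, hxx⟩ := h.Z x hx1 hx2
  have hx2' : x * x = 1 := by
    have e1 : ((l * g) * e * (l * g)⁻¹) * ((l * g) * e * (l * g)⁻¹) = (l * g) * (e * e) * (l * g)⁻¹ := by group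
    rw [hx, h.ee, mul_one, mul_inv_cancel] at e1
    calc x * x = (e * e) * (x * x) := by rw [h.ee, one_mul]
      _ = e * (e * x) * x := by simp only [mul_assoc]
      _ = e * (x * e) * x := by rw [hxe]
      _ = e * x * (e * x) := by simp only [mul_assoc]
      _ = 1 := e1
  have hlg : (l * g) * z = z * (l * g) := by rw [mul_assoc, hz, ← mul_assoc, hlz, mul_assoc]
  have red : ∀ m ∈ H0 ρ L₁ L₂, (m * g) * z = z * (m * g) → (m * g) * e = e * (m * g) →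
      cj g (H0 ρ L₁ L₂) = H0 ρ L₁ L₂ := by
    intro m hm h1 h2
    have e1 : g = m⁻¹ * (m * g) := by group
    rw [e1, ← cj_cj, h.cj_V h1 h2, cj_eq_of_mem (inv_mem hm)]
  rcases hxx hx2' with rfl | rfl
  · refine red l hlH hlg ?_
    rw [mul_one] at hx
    calc (l * g) * e = ((l * g) * e * (l * g)⁻¹) * (l * g) := by group
      _ = _ := by rw [hx]
  · have hn1 : n₁ ∈ H0 ρ L₁ L₂ := L₁_le h.hn₁
    refine red (n₁ * l) (mul_mem hn1 hlH) ?_ ?_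
    · rw [mul_assoc n₁, mul_assoc n₁, hlg, ← mul_assoc, h.n₁_z, mul_assoc]
    · have hzz : x * x = 1 := hx2'
      have e1 : (n₁ * l * g) * e * (n₁ * l * g)⁻¹ = n₁ * ((l * g) * e * (l * g)⁻¹) * n₁⁻¹ := by group
      have e2 : n₁ * (e * x) * n₁⁻¹ = (n₁ * e * n₁⁻¹) * x := by
        have : x * n₁⁻¹ = n₁⁻¹ * x := by
          rw [eq_inv_mul_iff_mul_eq, ← mul_assoc, h.n₁_z, mul_inv_cancel_right]
        rw [mul_assoc n₁ (e * x), mul_assoc e x, this]; group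
      have e3 : e * x * x = e := by rw [mul_assoc, hzz, mul_one]
      rw [hx, e2, h.n₁_e, e3] at e1
      calc (n₁ * l * g) * e = ((n₁ * l * g) * e * (n₁ * l * g)⁻¹) * (n₁ * l * g) := by group
        _ = _ := by rw [e1]

/-- `H0 = G` -/
theorem H0_eq_top [IsSimpleGroup G] (closed : ∀ M : Subgroup G, centralizer ({z} : Set G) ≤ M → ρ ∈ M → M = ⊤) :
    H0 ρ L₁ L₂ = ⊤ := by
  have h1 := closed (normalizer (H0 ρ L₁ L₂ : Set G)) (by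
    intro g hg
    exact mem_normalizer_of_cj (h.cj_z (mem_centralizer_singleton_iff.1 hg))) (mem_normalizer_of_cj h.cj_ρ)
  have hn : (H0 ρ L₁ L₂).Normal := normalizer_eq_top_iff.1 h1
  rcases hn.eq_bot_or_eq_top with h2 | h2
  · exfalso
    apply h.z_ne
    have h3 : z ∈ H0 ρ L₁ L₂ := L₁_le h.zL₁
    rwa [h2, mem_bot] at h3
  · exact h2

/-- `L₁`, `L₂`, `ρ L₁ ρ⁻¹` generate the six conjugates -/
theorem H0_le {H : Subgroup G} (h1 : L₁ ≤ H) (h2 : L₂ ≤ H) (h3 : cj ρ L₁ ≤ H) : H0 ρ L₁ L₂ ≤ H := by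
  -- `g = ρ n₁ ρ` centralizes `z`
  have hn1 : n₁ ∈ H := h1 h.hn₁
  have hc : n₁ * n₂ ∈ H := mul_mem hn1 (h2 h.hn₂)
  have hg : (ρ * n₁ * ρ) * z = z * (ρ * n₁ * ρ) := by
    have : (ρ * n₁ * ρ) * z * (ρ * n₁ * ρ)⁻¹ = ρ * (n₁ * (ρ * z * ρ⁻¹) * n₁⁻¹) * ρ⁻¹ := by group
    rw [h.ρz, h.n₁_e, ← h.ze, h.ρze] at this
    calc (ρ * n₁ * ρ) * z = ((ρ * n₁ * ρ) * z * (ρ * n₁ * ρ)⁻¹) * (ρ * n₁ * ρ) := by group
      _ = _ := by rw [this]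
  have hp := h.perm _ hg
  -- `c` swaps `ρ⁻¹ L₁ ρ` and `ρ⁻¹ L₂ ρ`
  have s1 : cj (n₁ * n₂) (cj ρ⁻¹ L₁) = cj ρ⁻¹ L₂ := by
    have := congrArg (cj ρ⁻¹) h.swap.1
    rw [cj_cj] at this
    rw [← this, cj_cj]
    congr 1; group
  have s2 : cj (n₁ * n₂) (cj ρ⁻¹ L₂) = cj ρ⁻¹ L₁ := by
    have := congrArg (cj ρ⁻¹) h.swap.2
    rw [cj_cj] at this
    rw [← this, cj_cj]
    congr 1; group
  -- `n₁` maps `ρ L₁ ρ⁻¹` to one of them
  have t : ∀ A B : Subgroup G, cj (ρ * n₁ * ρ) A = B → cj n₁ (cj ρ A) = cj ρ⁻¹ B := by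
    intro A B hAB
    rw [← hAB, cj_cj, cj_cj]
    congr 1; group
  have mem_cj_of : ∀ (a : G) (A : Subgroup G), a ∈ H → A ≤ H → cj a A ≤ H := by
    intro a A ha hA
    rw [← cj_eq_of_mem ha]; exact cj_mono hA
  have inv_of : ∀ (a : G) (A : Subgroup G), a ∈ H → cj a A ≤ H → A ≤ H := by
    intro a A ha hA
    have := mem_cj_of a⁻¹ _ (inv_mem ha) hA
    rwa [cj_cj, inv_mul_cancel, cj_one] at this
  -- all of `ρ⁻¹ Lᵢ ρ` and `ρ L₂ ρ⁻¹`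
  have key : cj ρ⁻¹ L₁ ≤ H ∧ cj ρ⁻¹ L₂ ≤ H ∧ cj ρ L₂ ≤ H := by
    rcases hp with ⟨p1, p2⟩ | ⟨p1, p2⟩
    · have a1 : cj ρ⁻¹ L₁ ≤ H := by rw [← t _ _ p1]; exact mem_cj_of _ _ hn1 h3
      have a2 : cj ρ⁻¹ L₂ ≤ H := by rw [← s1]; exact mem_cj_of _ _ hc a1
      exact ⟨a1, a2, inv_of n₁ _ hn1 (by rw [t _ _ p2]; exact a2)⟩
    · have a2 : cj ρ⁻¹ L₂ ≤ H := by rw [← t _ _ p1]; exact mem_cj_of _ _ hn1 h3
      have a1 : cj ρ⁻¹ L₁ ≤ H := by rw [← s2]; exact mem_cj_of _ _ hc a2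
      exact ⟨a1, a2, inv_of n₁ _ hn1 (by rw [t _ _ p2]; exact a1)⟩
  obtain ⟨k1, k2, k3⟩ := key
  have hρ2 : cj (ρ * ρ) (L₁ ⊔ L₂) = cj ρ⁻¹ (L₁ ⊔ L₂) := by
    have e1 := (h.perm _ h.ρ3).sup
    have e2 : ρ * ρ = ρ⁻¹ * (ρ * ρ * ρ) := by group
    rw [e2, ← cj_cj, e1]
  rw [H0, hρ2, cj_sup, cj_sup]
  exact sup_le (sup_le h1 h2) (sup_le (sup_le h3 k3) (sup_le k1 k2))

/-- generation -/
theorem sup_eq_top [IsSimpleGroup G]
    (closed : ∀ M : Subgroup G, centralizer ({z} : Set G) ≤ M → ρ ∈ M → M = ⊤) :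
    L₁ ⊔ L₂ ⊔ cj ρ L₁ = ⊤ := by
  rw [eq_top_iff, ← h.H0_eq_top closed]
  exact h.H0_le (le_sup_left.trans le_sup_left) (le_sup_right.trans le_sup_left) le_sup_right

/-- **The field `gen`.** -/
theorem gen [IsSimpleGroup G] (closed : ∀ M : Subgroup G, centralizer ({z} : Set G) ≤ M → ρ ∈ M → M = ⊤)
    (x : G) (h1 : ∀ y ∈ L₁, x * y = y * x) (h2 : ∀ y ∈ L₂, x * y = y * x)
    (h3 : ∀ y ∈ L₁, x * (ρ * y * ρ⁻¹) = (ρ * y * ρ⁻¹) * x) : x = 1 := by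
  have hle : L₁ ⊔ L₂ ⊔ cj ρ L₁ ≤ centralizer ({x} : Set G) := by
    refine sup_le (sup_le ?_ ?_) ?_
    · intro y hy
      rw [mem_centralizer_singleton_iff]; exact (h1 y hy).symm
    · intro y hy
      rw [mem_centralizer_singleton_iff]; exact (h2 y hy).symm
    · rintro _ ⟨y, hy, rfl⟩
      rw [mem_centralizer_singleton_iff]; exact (h3 y hy).symm
  rw [h.sup_eq_top closed] at hle
  have hx : x ∈ center G := by
    rw [mem_center_iff]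
    intro g
    exact mem_centralizer_singleton_iff.1 (hle (mem_top g))
  have hcn : (center G).Normal := inferInstance
  rcases hcn.eq_bot_or_eq_top with h4 | h4
  · rwa [h4, mem_bot] at hx
  · exfalso
    have h5 : n₁ * e = e * n₁ := by
      have : n₁ ∈ center G := by rw [h4]; exact mem_top _
      exact (mem_center_iff.1 this e).symm
    have h6 := h.n₁_e
    rw [h5, mul_inv_cancel_right] at h6
    exact h.z_ne (left_eq_mul.1 h6)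

end Data

end Cfsg.Agent.LFourR.Gen
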