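import Cfsg.Agent.LFourR.Input
import Cfsg.Agent.LFourR.Gen

/-!
# `Inp` without the field `gen`, and `gen` from the closing argument

`Pre` = all fields of `Inp` except `gen`; `Pre.toInp` : in a simple group in which `G` is the only subgroup containing
`C(z)` and `ρ`, `Pre` implies `Inp`.
-/

set_option autoImplicit false

namespace Cfsg.Agent.LFourR

open Subgroup

/-- `Inp` without `gen` -/
structure Pre (F : Type*) [Field F] [Fintype F] {G : Type*} [Group G] (ε : ℤ) (N k : ℕ) (z e ρ n1 n2 : G)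
    (L1 L2 U : Subgroup G) : Prop where
  nums : Nums F ε N k
  zz : z * z = 1
  z_ne : z ≠ 1
  ee : e * e = 1
  e_ne : e ≠ 1
  e_ne_z : e ≠ z
  ze : z * e = e * z
  iso1 : Nonempty (L1 ≃* Matrix.SpecialLinearGroup (Fin 2) F)
  z_mem : z ∈ L1
  comm : ∀ x ∈ L1, ∀ y ∈ L2, x * y = y * x
  perm : ∀ c : G, c * z = z * c → (cg c L1 = L1 ∧ cg c L2 = L2) ∨ (cg c L1 = L2 ∧ cg c L2 = L1)
  e_norm : cg e L1 = L1
  T_cyc : IsCyclic (L1 ⊓ centralizer {e} : Subgroup G)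
  T_card : Nat.card (L1 ⊓ centralizer {e} : Subgroup G) = N * 2 ^ k
  e_act : ¬ ∀ l ∈ L1, e * l = l * e
  n1_mem : n1 ∈ L1
  n1_sq : n1 * n1 = z
  n1_inv : ∀ t ∈ L1, t * e = e * t → n1 * t * n1⁻¹ = t⁻¹
  n1_e : e * n1 * e⁻¹ = n1 * z
  n2_mem : n2 ∈ L2
  n2_sq : n2 * n2 = z
  n2_inv : ∀ t ∈ L2, t * e = e * t → n2 * t * n2⁻¹ = t⁻¹
  n2_e : e * n2 * e⁻¹ = n2 * z
  ρ_z : ρ * z * ρ⁻¹ = e
  ρ_e : ρ * e * ρ⁻¹ = z * e
  swap : cg (ρ * (n1 * n2) * ρ⁻¹) L1 = L2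
  U_z : ∀ u ∈ U, u * z = z * u
  U_e : ∀ u ∈ U, u * e = e * u
  U_ρ : cg ρ U = U
  U_T1 : ∀ u ∈ U, ∀ t ∈ L1, t * e = e * t → u * t = t * u
  U_T2 : ∀ u ∈ U, ∀ t ∈ L2, t * e = e * t → u * t = t * u
  w_rot : ρ * (ρ * (n1 * n2) * ρ⁻¹) * ρ⁻¹ * (n1 * n2 * (ρ * (n1 * n2) * ρ⁻¹))⁻¹ ∈ U
  c_rot : ρ⁻¹ * (n1 * n2) * ρ * (n1 * n2 * (ρ * (n1 * n2) * ρ⁻¹))⁻¹ ∈ U
  Z : ∀ x : G, (∀ l ∈ L1, x * l = l * x) → (∀ l ∈ L2, x * l = l * x) → x * e = e * x ∧ (x * x = 1 → x = 1 ∨ x = z)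
  two : ∀ x : G, (∀ l ∈ L1, x * l = l * x) → (∃ m : ℕ, x ^ 2 ^ m = 1) → x ∈ L2
  f : k = 1 ∨ (k = 2 ∧ ∃ f ∈ U, f * f = e)

namespace Pre

variable {F : Type*} [Field F] [Fintype F] {G : Type*} [Group G] {ε : ℤ} {N k : ℕ} {z e ρ n1 n2 : G}
  {L1 L2 U : Subgroup G}

variable (h : Pre F ε N k z e ρ n1 n2 L1 L2 U)

include h

theorem z_mem2 : z ∈ L2 := by
  rw [← h.n2_sq]; exact mul_mem h.n2_mem h.n2_mem

theorem z_L1 {x : G} (hx : x ∈ L1) : x * z = z * x := h.comm x hx z h.z_mem2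

theorem z_L2 {x : G} (hx : x ∈ L2) : x * z = z * x := (h.comm z h.z_mem x hx).symm

theorem c_z : (n1 * n2) * z = z * (n1 * n2) := by
  rw [mul_assoc, h.z_L2 h.n2_mem, ← mul_assoc, h.z_L1 h.n1_mem, mul_assoc]

theorem c_e : (n1 * n2) * e = e * (n1 * n2) := by
  have h1 : e * (n1 * n2) * e⁻¹ = n1 * n2 := by
    have : e * (n1 * n2) * e⁻¹ = (e * n1 * e⁻¹) * (e * n2 * e⁻¹) := by group
    rw [this, h.n1_e, h.n2_e]
    calc n1 * z * (n2 * z) = n1 * (z * n2) * z := by simp only [mul_assoc]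
      _ = n1 * (n2 * z) * z := by rw [h.z_L2 h.n2_mem]
      _ = n1 * n2 * (z * z) := by simp only [mul_assoc]
      _ = n1 * n2 := by rw [h.zz, mul_one]
  calc (n1 * n2) * e = (e * (n1 * n2) * e⁻¹) * e := by rw [h1]
    _ = e * (n1 * n2) := by group

theorem ρ_ze : ρ * (z * e) * ρ⁻¹ = z := by
  have : ρ * (z * e) * ρ⁻¹ = (ρ * z * ρ⁻¹) * (ρ * e * ρ⁻¹) := by group
  rw [this, h.ρ_z, h.ρ_e, h.ze, ← mul_assoc, h.ee, one_mul]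

theorem w_e : (ρ * (n1 * n2) * ρ⁻¹) * e = e * (ρ * (n1 * n2) * ρ⁻¹) := by
  rw [← h.ρ_z]
  calc (ρ * (n1 * n2) * ρ⁻¹) * (ρ * z * ρ⁻¹) = ρ * ((n1 * n2) * z) * ρ⁻¹ := by group
    _ = ρ * (z * (n1 * n2)) * ρ⁻¹ := by rw [h.c_z]
    _ = _ := by group

theorem w_z : (ρ * (n1 * n2) * ρ⁻¹) * z = z * (ρ * (n1 * n2) * ρ⁻¹) := by
  have h1 : (n1 * n2) * (z * e) = (z * e) * (n1 * n2) := by
    rw [← mul_assoc, h.c_z, mul_assoc, h.c_e, mul_assoc]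
  conv_lhs => rw [← h.ρ_ze]
  conv_rhs => rw [← h.ρ_ze]
  calc (ρ * (n1 * n2) * ρ⁻¹) * (ρ * (z * e) * ρ⁻¹) = ρ * ((n1 * n2) * (z * e)) * ρ⁻¹ := by group
    _ = ρ * ((z * e) * (n1 * n2)) * ρ⁻¹ := by rw [h1]
    _ = _ := by group

theorem swap2 : cg (ρ * (n1 * n2) * ρ⁻¹) L2 = L1 := by
  rcases h.perm _ h.w_z with ⟨h1, h2⟩ | ⟨-, h2⟩
  · rw [h2, ← h1, h.swap]
  · exact h2

theorem e_norm2 : cg e L2 = L2 := by
  rcases h.perm e h.ze.symm with ⟨-, h2⟩ | ⟨h1, h2⟩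
  · exact h2
  · rw [h2, ← h.e_norm, h1]

/-- conjugation by `w` from `L1 ⊓ C(e)` onto `L2 ⊓ C(e)` -/
theorem T_swap : cg (ρ * (n1 * n2) * ρ⁻¹) (L1 ⊓ centralizer {e}) = L2 ⊓ centralizer {e} := by
  set w := ρ * (n1 * n2) * ρ⁻¹ with hw
  have hwe : w * e = e * w := h.w_e
  ext x
  rw [mem_cg, mem_inf, mem_inf, ← h.swap, mem_cg, mem_centralizer_singleton_iff, mem_centralizer_singleton_iff]
  have hwe' : w⁻¹ * e = e * w⁻¹ := by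
    rw [inv_mul_eq_iff_eq_mul, ← mul_assoc, hwe, mul_inv_cancel_right]
  have : (w⁻¹ * x * w) * e = e * (w⁻¹ * x * w) ↔ x * e = e * x := by
    have e1 : (w⁻¹ * x * w) * e = w⁻¹ * (x * e) * w := by
      calc (w⁻¹ * x * w) * e = w⁻¹ * x * (w * e) := by group
        _ = w⁻¹ * x * (e * w) := by rw [hwe]
        _ = w⁻¹ * (x * e) * w := by group
    have e2 : e * (w⁻¹ * x * w) = w⁻¹ * (e * x) * w := by
      calc e * (w⁻¹ * x * w) = (e * w⁻¹) * x * w := by group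
        _ = (w⁻¹ * e) * x * w := by rw [hwe']
        _ = w⁻¹ * (e * x) * w := by group
    rw [e1, e2]
    constructor
    · intro hh
      exact mul_left_cancel (mul_right_cancel hh)
    · intro hh; rw [hh]
  rw [this]

theorem side1 : ∃ a, Side z e a L1 N k := by
  obtain ⟨e0⟩ := h.iso1
  obtain ⟨a, ha, hae, hord⟩ := exists_a h.nums h.T_cyc h.T_card
  exact ⟨a, exists_side e0 h.nums (mem_normalizer_iff_cg.2 h.e_norm) h.ee h.e_act h.T_cyc h.T_card h.z_mem h.zz h.z_ne ha hae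
    hord⟩

theorem side2 : ∃ a, Side z e a L2 N k := by
  obtain ⟨e0⟩ := h.iso1
  set w := ρ * (n1 * n2) * ρ⁻¹ with hw
  have e1 : (L1 ⊓ centralizer {e} : Subgroup G) ≃* (L2 ⊓ centralizer {e} : Subgroup G) :=
    (cgEquiv w _).trans (MulEquiv.subgroupCongr h.T_swap)
  have hcyc : IsCyclic (L2 ⊓ centralizer {e} : Subgroup G) := by
    have := h.T_cyc
    exact isCyclic_of_surjective e1 e1.surjective
  have hcard : Nat.card (L2 ⊓ centralizer {e} : Subgroup G) = N * 2 ^ k := by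
    rw [← Nat.card_congr e1.toEquiv, h.T_card]
  obtain ⟨a, ha, hae, hord⟩ := exists_a h.nums hcyc hcard
  have e2 : L2 ≃* Matrix.SpecialLinearGroup (Fin 2) F :=
    ((cgEquiv w L1).trans (MulEquiv.subgroupCongr h.swap)).symm.trans e0
  refine ⟨a, exists_side e2 h.nums (mem_normalizer_iff_cg.2 h.e_norm2) h.ee ?_ hcyc hcard h.z_mem2 h.zz h.z_ne ha hae
    hord⟩
  intro hc
  have h1 := hc n2 h.n2_mem
  have h2 := h.n2_e
  rw [h1, mul_inv_cancel_right] at h2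
  exact h.z_ne (left_eq_mul.1 h2)

theorem frat (g : G) (hg : g * z = z * g) : ∃ l ∈ L1 ⊔ L2, ∃ x, (∀ y ∈ L1, x * y = y * x) ∧
    (∀ y ∈ L2, x * y = y * x) ∧ (l * g) * e * (l * g)⁻¹ = e * x := by
  have key : ∀ g : G, cg g L1 = L1 → cg g L2 = L2 → ∃ l ∈ L1 ⊔ L2, ∃ x, (∀ y ∈ L1, x * y = y * x) ∧
      (∀ y ∈ L2, x * y = y * x) ∧ (l * g) * e * (l * g)⁻¹ = e * x := by
    intro g h1 h2
    obtain ⟨a1, S1⟩ := h.side1
    obtain ⟨a2, S2⟩ := h.side2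
    have hg1 := mem_normalizer_iff_cg.2 h1
    have hg2 := mem_normalizer_iff_cg.2 h2
    obtain ⟨s1, hs1, hc1⟩ := S1.conj_inner g hg1
    obtain ⟨s2, hs2, hc2⟩ := S2.conj_inner g hg2
    set y := g * e * g⁻¹ with hy
    have hyn1 : y ∈ normalizer (L1 : Set G) := mul_mem (mul_mem hg1 S1.e_norm) (inv_mem hg1)
    have hyn2 : y ∈ normalizer (L2 : Set G) := mul_mem (mul_mem hg2 S2.e_norm) (inv_mem hg2)
    refine ⟨s1 * s2, mul_mem (mem_sup_left hs1) (mem_sup_right hs2), e⁻¹ * ((s1 * s2 * g) * e * (s1 * s2 * g)⁻¹), ?_, ?_, ?_⟩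
    · intro l hl
      have e1 : (s1 * s2 * g) * e * (s1 * s2 * g)⁻¹ = (s2 * y * s2⁻¹ * y⁻¹) * (s1 * y * s1⁻¹) := by
        have ht : s2 * y * s2⁻¹ * y⁻¹ ∈ L2 := by
          have h3 : y * s2⁻¹ * y⁻¹ ∈ L2 := (mem_normalizer_iff.1 hyn2 _).1 (inv_mem hs2)
          have : s2 * y * s2⁻¹ * y⁻¹ = s2 * (y * s2⁻¹ * y⁻¹) := by group
          rw [this]; exact mul_mem hs2 h3
        have hcm := h.comm s1 hs1 _ ht
        calc (s1 * s2 * g) * e * (s1 * s2 * g)⁻¹ = (s1 * (s2 * y * s2⁻¹ * y⁻¹)) * (y * s1⁻¹) := by rw [hy]; group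
          _ = ((s2 * y * s2⁻¹ * y⁻¹) * s1) * (y * s1⁻¹) := by rw [hcm]
          _ = _ := by group
      have ht : s2 * y * s2⁻¹ * y⁻¹ ∈ L2 := by
        have h3 : y * s2⁻¹ * y⁻¹ ∈ L2 := (mem_normalizer_iff.1 hyn2 _).1 (inv_mem hs2)
        have : s2 * y * s2⁻¹ * y⁻¹ = s2 * (y * s2⁻¹ * y⁻¹) := by group
        rw [this]; exact mul_mem hs2 h3
      have h4 := hc1 l hl
      rw [e1]
      have h5 : e * l * e⁻¹ ∈ L1 := (mem_normalizer_iff.1 S1.e_norm _).1 hl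
      have h6 := h.comm _ h5 _ ht
      have h7 : (s1 * y * s1⁻¹) * l = (e * l * e⁻¹) * (s1 * y * s1⁻¹) := by
        rw [← h4]; group
      calc e⁻¹ * ((s2 * y * s2⁻¹ * y⁻¹) * (s1 * y * s1⁻¹)) * l
          = e⁻¹ * ((s2 * y * s2⁻¹ * y⁻¹) * ((s1 * y * s1⁻¹) * l)) := by simp only [mul_assoc]
        _ = e⁻¹ * (((s2 * y * s2⁻¹ * y⁻¹) * (e * l * e⁻¹)) * (s1 * y * s1⁻¹)) := by rw [h7]; simp only [mul_assoc]
        _ = e⁻¹ * (((e * l * e⁻¹) * (s2 * y * s2⁻¹ * y⁻¹)) * (s1 * y * s1⁻¹)) := by rw [h6]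
        _ = l * (e⁻¹ * ((s2 * y * s2⁻¹ * y⁻¹) * (s1 * y * s1⁻¹))) := by group
    · intro l hl
      have ht : s1 * y * s1⁻¹ * y⁻¹ ∈ L1 := by
        have h3 : y * s1⁻¹ * y⁻¹ ∈ L1 := (mem_normalizer_iff.1 hyn1 _).1 (inv_mem hs1)
        have : s1 * y * s1⁻¹ * y⁻¹ = s1 * (y * s1⁻¹ * y⁻¹) := by group
        rw [this]; exact mul_mem hs1 h3
      have e1 : (s1 * s2 * g) * e * (s1 * s2 * g)⁻¹ = (s1 * y * s1⁻¹ * y⁻¹) * (s2 * y * s2⁻¹) := by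
        have hcm := h.comm s1 hs1 s2 hs2
        have hcm2 := h.comm _ ht s2 hs2
        calc (s1 * s2 * g) * e * (s1 * s2 * g)⁻¹ = (s1 * s2) * y * (s1 * s2)⁻¹ := by rw [hy]; group
          _ = (s2 * s1) * y * (s2 * s1)⁻¹ := by rw [hcm]
          _ = (s2 * (s1 * y * s1⁻¹ * y⁻¹)) * (y * s2⁻¹) := by group
          _ = ((s1 * y * s1⁻¹ * y⁻¹) * s2) * (y * s2⁻¹) := by rw [hcm2]
          _ = _ := by group
      have h4 := hc2 l hl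
      rw [e1]
      have h5 : e * l * e⁻¹ ∈ L2 := (mem_normalizer_iff.1 S2.e_norm _).1 hl
      have h6 := h.comm _ ht _ h5
      have h7 : (s2 * y * s2⁻¹) * l = (e * l * e⁻¹) * (s2 * y * s2⁻¹) := by
        rw [← h4]; group
      calc e⁻¹ * ((s1 * y * s1⁻¹ * y⁻¹) * (s2 * y * s2⁻¹)) * l
          = e⁻¹ * ((s1 * y * s1⁻¹ * y⁻¹) * ((s2 * y * s2⁻¹) * l)) := by simp only [mul_assoc]
        _ = e⁻¹ * (((s1 * y * s1⁻¹ * y⁻¹) * (e * l * e⁻¹)) * (s2 * y * s2⁻¹)) := by rw [h7]; simp only [mul_assoc]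
        _ = e⁻¹ * (((e * l * e⁻¹) * (s1 * y * s1⁻¹ * y⁻¹)) * (s2 * y * s2⁻¹)) := by rw [h6]
        _ = l * (e⁻¹ * ((s1 * y * s1⁻¹ * y⁻¹) * (s2 * y * s2⁻¹))) := by group
    · group
  rcases h.perm g hg with ⟨h1, h2⟩ | ⟨h1, h2⟩
  · exact key g h1 h2
  · set w := ρ * (n1 * n2) * ρ⁻¹ with hw
    have hwe : w * e = e * w := h.w_e
    obtain ⟨l, hl, x, hx1, hx2, hx⟩ := key (g * w) (by rw [cg_mul, h.swap, h2]) (by rw [cg_mul, h.swap2, h1])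
    refine ⟨l, hl, x, hx1, hx2, ?_⟩
    rw [← hx]
    calc (l * g) * e * (l * g)⁻¹ = (l * g) * (e * w) * w⁻¹ * (l * g)⁻¹ := by group
      _ = (l * g) * (w * e) * w⁻¹ * (l * g)⁻¹ := by rw [hwe]
      _ = _ := by group

theorem data : Gen.Data z e ρ n1 n2 L1 L2 where
  ee := h.ee
  ze := h.ze
  comm := h.comm
  zL₁ := h.z_mem
  zL₂ := h.z_mem2
  z_ne := h.z_ne
  perm := h.perm
  hn₁ := h.n1_mem
  hn₂ := h.n2_mem
  e_n₁ := h.n1_e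
  ρz := h.ρ_z
  ρe := h.ρ_e
  swap := ⟨h.swap, h.swap2⟩
  Z := h.Z
  frat := h.frat

/-- **`Inp` from `Pre` and the closing.** -/
theorem toInp [IsSimpleGroup G] (closed : ∀ M : Subgroup G, centralizer ({z} : Set G) ≤ M → ρ ∈ M → M = ⊤) :
    Inp F ε N k z e ρ n1 n2 L1 L2 U where
  nums := h.nums
  zz := h.zz
  z_ne := h.z_ne
  ee := h.ee
  e_ne := h.e_ne
  e_ne_z := h.e_ne_z
  ze := h.ze
  iso1 := h.iso1
  z_mem := h.z_mem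
  comm := h.comm
  perm := h.perm
  e_norm := h.e_norm
  T_cyc := h.T_cyc
  T_card := h.T_card
  e_act := h.e_act
  n1_mem := h.n1_mem
  n1_sq := h.n1_sq
  n1_inv := h.n1_inv
  n1_e := h.n1_e
  n2_mem := h.n2_mem
  n2_sq := h.n2_sq
  n2_inv := h.n2_inv
  n2_e := h.n2_e
  ρ_z := h.ρ_z
  ρ_e := h.ρ_e
  swap := h.swap
  U_z := h.U_z
  U_e := h.U_e
  U_ρ := h.U_ρ
  U_T1 := h.U_T1
  U_T2 := h.U_T2
  w_rot := h.w_rot
  c_rot := h.c_rot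
  Z := h.Z
  two := h.two
  f := h.f
  gen := fun x h1 h2 h3 => h.data.gen closed x h1 h2 (fun y hy => h3 _ (conj_mem_cg hy))

/-- generation, for the assembly -/
theorem sup_eq_top [IsSimpleGroup G]
    (closed : ∀ M : Subgroup G, centralizer ({z} : Set G) ≤ M → ρ ∈ M → M = ⊤) : L1 ⊔ L2 ⊔ cg ρ L1 = ⊤ :=
  h.data.sup_eq_top closed

end Pre

end Cfsg.Agent.LFourR
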