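import Cfsg.Agent.LFourR.FixTorus
import Cfsg.Agent.LFourR.AutTorus
import Cfsg.Agent.LFourR.SideEx

/-!
# The torus of an element of order four of `SL(2, F)`, `|F|` odd (S0510, type B5)

`i * i = -1`: `C(i)` is cyclic of order `q - 1` (`q ≡ 1 mod 4`) or `q + 1` (`q ≡ 3 mod 4`), is inverted by the elements
inverting `i`, and, if `q` is not a square, centralised by the automorphisms of 2-power order fixing `i`.
-/

set_option autoImplicit false

namespace Cfsg.Agent.LFourR.TorusB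

open Matrix Cfsg.Agent.Lib.SL2Mat Cfsg.Agent.Lib.AutSL2 Cfsg.Agent.Lib.AutSL2Out
open Cfsg.Agent.Lib.PSL2Circle Cfsg.Agent.Lib.PSL2Inv Cfsg.Agent.LFourR.Mat2
open Cfsg.Agent.LFourR.AutTorus (inv_of_trace_zero val_neg)
open Cfsg.Agent.LFourR.FieldPart (val_mul val_one val_pow)

variable {F : Type*} [Field F]

theorem exists_lin' (h2 : (2 : F) ≠ 0) {i t : Matrix.SpecialLinearGroup (Fin 2) F} (hi : i * i = -1)
    (ht : t * i = i * t) : ∃ x y : F, t.1 = x • (1 : Matrix (Fin 2) (Fin 2) F) + y • i.1 := by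
  have htr := tr_of_sq h2 hi
  obtain ⟨p, hp⟩ := exists_comb h2 htr ht
  refine ⟨p.re, p.im, ?_⟩
  rw [← hp]
  ext a b
  fin_cases a <;> fin_cases b
  · change p.re + p.im * ent i 0 0 = _
    simp [ent]
  · change p.im * ent i 0 1 = _
    simp [ent]
  · change p.im * ent i 1 0 = _
    simp [ent]
  · change p.re - p.im * ent i 0 0 = _
    have : i.1 1 1 = - i.1 0 0 := htr
    simp [ent, this]
    ring

theorem trace_zero (h2 : (2 : F) ≠ 0) {i : Matrix.SpecialLinearGroup (Fin 2) F} (hi : i * i = -1) : i.1.trace = 0 := by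
  have htr : i.1 1 1 = - i.1 0 0 := tr_of_sq h2 hi
  rw [trace_fin_two, htr, add_neg_cancel]

theorem inv_eq_neg {i : Matrix.SpecialLinearGroup (Fin 2) F} (hi : i * i = -1) : i⁻¹ = -i := by
  apply inv_eq_of_mul_eq_one_right
  rw [mul_neg, hi, neg_neg]

theorem inv_of (h2 : (2 : F) ≠ 0) {i t n : Matrix.SpecialLinearGroup (Fin 2) F} (hi : i * i = -1)
    (hn : n * i * n⁻¹ = i⁻¹) (ht : t * i = i * t) : n * t * n⁻¹ = t⁻¹ := by
  obtain ⟨x, y, hxy⟩ := exists_lin' h2 hi ht
  apply Subtype.ext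
  have h1 := inv_of_trace_zero (trace_zero h2 hi) t x y hxy
  have hnn : n.1 * (n⁻¹).1 = 1 := by rw [← val_mul, mul_inv_cancel, val_one]
  have h3 : n.1 * i.1 * (n⁻¹).1 = - i.1 := by
    rw [← val_mul, ← val_mul, hn, inv_eq_neg hi, val_neg]
  change (n * t * n⁻¹).1 = (t⁻¹).1
  rw [h1, val_mul, val_mul, hxy]
  calc n.1 * (x • (1 : Matrix (Fin 2) (Fin 2) F) + y • i.1) * (n⁻¹).1
      = x • (n.1 * (n⁻¹).1) + y • (n.1 * i.1 * (n⁻¹).1) := by
        simp only [Matrix.mul_add, Matrix.add_mul, Matrix.mul_smul, Matrix.smul_mul, Matrix.mul_one]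
    _ = x • (1 : Matrix (Fin 2) (Fin 2) F) - y • i.1 := by
        rw [hnn, h3, smul_neg, sub_eq_add_neg]

theorem fix_of (h2 : (2 : F) ≠ 0) {g : GL (Fin 2) F} {i t : Matrix.SpecialLinearGroup (Fin 2) F} (hi : i * i = -1)
    (hg : conjGL g i = i) (ht : t * i = i * t) : conjGL g t = t := by
  obtain ⟨x, y, hxy⟩ := exists_lin' h2 hi ht
  rw [conjGL_eq_iff] at hg ⊢
  rw [hxy]
  simp only [Matrix.mul_add, Matrix.add_mul, Matrix.mul_smul, Matrix.smul_mul, Matrix.mul_one, Matrix.one_mul]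
  rw [hg]

/-- `α ^ n` for `α = conjGL g * fieldAut σ` -/
theorem exists_pow (g : GL (Fin 2) F) (σ : F ≃+* F) (n : ℕ) :
    ∃ k : GL (Fin 2) F, (conjGL g * fieldAut σ) ^ n = conjGL k * fieldAut (σ ^ n) := by
  induction n with
  | zero => exact ⟨1, by rw [pow_zero, pow_zero, map_one, map_one, mul_one]⟩
  | succ n ih =>
    obtain ⟨k, hk⟩ := ih
    refine ⟨k * Matrix.GeneralLinearGroup.map (σ ^ n).toRingHom g, ?_⟩
    rw [pow_succ, hk, map_mul, pow_succ, map_mul]
    calc conjGL k * fieldAut (σ ^ n) * (conjGL g * fieldAut σ)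
        = conjGL k * (fieldAut (σ ^ n) * conjGL g) * fieldAut σ := by simp only [mul_assoc]
      _ = _ := by rw [fieldAut_mul_conjGL]; simp only [mul_assoc]

theorem eq_conjGL [Finite F] (h2 : (2 : F) ≠ 0) (hns : ¬ IsSquare (Nat.card F))
    {α : MulAut (Matrix.SpecialLinearGroup (Fin 2) F)} {m : ℕ} (hm : α ^ 2 ^ m = 1) : ∃ g : GL (Fin 2) F, α = conjGL g := by
  obtain ⟨g, σ, rfl⟩ := exists_eq α
  obtain ⟨k, hk⟩ := exists_pow g σ (2 ^ m)
  rw [hm] at hk
  have h1 : σ ^ 2 ^ m = 1 := by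
    refine (Cfsg.Agent.LFourA.FieldInv.eq_one_of_map (k := k) h2 (τ := σ ^ 2 ^ m) fun x => Or.inl ?_).1
    rw [← MulAut.mul_apply, ← hk, MulAut.one_apply]
  have key : ∀ m : ℕ, σ ^ 2 ^ m = 1 → σ = 1 := by
    intro m
    induction m with
    | zero => intro h; rwa [pow_zero, pow_one] at h
    | succ m ih =>
      intro h
      apply ih
      by_contra hne
      obtain ⟨K, -, hK⟩ := Cfsg.Agent.LFourA.FieldInv.exists_fixed (σ ^ 2 ^ m) (fun a => by
        rw [← RingAut.mul_apply, ← pow_add, ← two_mul, ← pow_succ', h]; rfl) (by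
        by_contra hc
        push Not at hc
        exact hne (RingEquiv.ext hc))
      exact hns ⟨Nat.card K, by rw [hK, pow_two]⟩
  rw [key m h1]
  exact ⟨g, by rw [map_one, mul_one]⟩

/-! ### The same in a group -/

section group

open Subgroup

variable {G : Type*} [Group G] {L : Subgroup G} (e0 : L ≃* Matrix.SpecialLinearGroup (Fin 2) F) {z i : G} (hi : i ∈ L)
  (hii : i * i = z) (hzz : z * z = 1) (hz1 : z ≠ 1)

include e0 hi hii hzz hz1

theorem sq_neg_one (h2 : (2 : F) ≠ 0) : e0 ⟨i, hi⟩ * e0 ⟨i, hi⟩ = -1 := by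
  rcases Cfsg.Agent.ClassicalGeometry.PSL2ElemOrder.eq_one_or_of_sq h2 (e0 ⟨i, hi⟩ * e0 ⟨i, hi⟩) (by
    rw [← map_mul, ← map_mul]
    have : (⟨i, hi⟩ : L) * ⟨i, hi⟩ * (⟨i, hi⟩ * ⟨i, hi⟩) = 1 := by
      apply Subtype.ext
      show i * i * (i * i) = 1
      rw [hii, hzz]
    rw [this, map_one]) with h | h
  · exfalso
    rw [← map_mul] at h
    have h1 : (⟨i, hi⟩ : L) * ⟨i, hi⟩ = 1 := e0.injective (by rw [h, map_one])
    exact hz1 (hii.symm.trans (congrArg Subtype.val h1))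
  · exact h

theorem cyc [Finite F] (h2 : (2 : F) ≠ 0) :
    IsCyclic (L ⊓ centralizer {i} : Subgroup G) ∧
    ((Nat.card F % 4 = 1 ∧ Nat.card (L ⊓ centralizer {i} : Subgroup G) = Nat.card F - 1) ∨
      (Nat.card F % 4 = 3 ∧ Nat.card (L ⊓ centralizer {i} : Subgroup G) = Nat.card F + 1)) := by
  have hj := sq_neg_one e0 hi hii hzz hz1 h2
  set j := e0 ⟨i, hi⟩ with hjdef
  have htr := tr_of_sq h2 hj
  have hcyc := isCyclic_centralizer h2 htr
  have hcard := card_centralizer h2 htr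
  have hmem : ∀ x : L, (x : G) * i = i * x ↔ e0 x * j = j * e0 x := by
    intro x
    rw [hjdef, ← map_mul, ← map_mul]
    constructor
    · intro h
      congr 1
      exact Subtype.ext h
    · intro h
      exact congrArg Subtype.val (e0.injective h)
  let E : (L ⊓ centralizer {i} : Subgroup G) ≃* centralizer ({j} : Set (Matrix.SpecialLinearGroup (Fin 2) F)) :=
    { toFun := fun x => ⟨e0 ⟨x, x.2.1⟩, mem_centralizer_singleton_iff.2
        ((hmem ⟨x, x.2.1⟩).1 (mem_centralizer_singleton_iff.1 x.2.2))⟩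
      invFun := fun y => ⟨(e0.symm y : L), (e0.symm y.1).2, mem_centralizer_singleton_iff.2
        ((hmem (e0.symm y)).2 (by rw [e0.apply_symm_apply]; exact mem_centralizer_singleton_iff.1 y.2))⟩
      left_inv := fun x => by
        apply Subtype.ext
        show ((e0.symm (e0 ⟨x, _⟩) : L) : G) = x
        rw [e0.symm_apply_apply]
      right_inv := fun y => by
        apply Subtype.ext
        show e0 ⟨((e0.symm y : L) : G), _⟩ = y
        rw [Subtype.coe_eta, e0.apply_symm_apply]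
      map_mul' := fun x y => by
        apply Subtype.ext
        show e0 ⟨x.1 * y.1, _⟩ = e0 ⟨x, _⟩ * e0 ⟨y, _⟩
        rw [← map_mul]; rfl }
  refine ⟨?_, ?_⟩
  · exact isCyclic_of_surjective E.symm E.symm.surjective
  · rw [Nat.card_congr E.toEquiv, hcard]
    exact card_circ h2

theorem inv_mem_of (h2 : (2 : F) ≠ 0) {n t : G} (hn : n ∈ L) (hni : n * i * n⁻¹ = i⁻¹) (ht : t ∈ L) (hti : t * i = i * t) :
    n * t * n⁻¹ = t⁻¹ := by
  have hj := sq_neg_one e0 hi hii hzz hz1 h2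
  have h1 := inv_of h2 (i := e0 ⟨i, hi⟩) (t := e0 ⟨t, ht⟩) (n := e0 ⟨n, hn⟩) hj (by
    rw [← map_inv, ← map_mul, ← map_mul, ← map_inv]
    congr 1
    exact Subtype.ext hni) (by
    rw [← map_mul, ← map_mul]
    congr 1
    exact Subtype.ext hti)
  rw [← map_inv, ← map_mul, ← map_mul, ← map_inv] at h1
  exact congrArg Subtype.val (e0.injective h1)

theorem fix_mem_of [Finite F] (h2 : (2 : F) ≠ 0) (hns : ¬ IsSquare (Nat.card F)) {u t : G}
    (hu : u ∈ normalizer (L : Set G)) {m : ℕ} (hum : u ^ 2 ^ m = 1) (hui : u * i = i * u) (ht : t ∈ L)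
    (hti : t * i = i * t) : u * t = t * u := by
  have hj := sq_neg_one e0 hi hii hzz hz1 h2
  let α : MulAut (Matrix.SpecialLinearGroup (Fin 2) F) := (e0.symm.trans (nact L hu)).trans e0
  have hαpow : ∀ k : ℕ, α ^ k = (e0.symm.trans (nact L hu ^ k)).trans e0 := by
    intro k
    induction k with
    | zero =>
      apply MulEquiv.ext
      intro x
      rw [pow_zero, pow_zero, MulAut.one_apply]
      show x = e0 ((1 : MulAut L) (e0.symm x))
      rw [MulAut.one_apply, e0.apply_symm_apply]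
    | succ k ih =>
      apply MulEquiv.ext
      intro x
      rw [pow_succ, ih, pow_succ]
      show e0 ((nact L hu ^ k) (e0.symm (e0 (nact L hu (e0.symm x))))) = e0 ((nact L hu ^ k * nact L hu) (e0.symm x))
      rw [e0.symm_apply_apply, MulAut.mul_apply]
  have h1 : nact L hu ^ 2 ^ m = 1 := by
    rw [← nact_pow]
    rw [nact_eq_one_iff]
    intro l _
    rw [hum, one_mul, mul_one]
  have h3 : α ^ 2 ^ m = 1 := by
    rw [hαpow, h1]
    apply MulEquiv.ext
    intro x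
    show e0 ((1 : MulAut L) (e0.symm x)) = x
    rw [MulAut.one_apply, e0.apply_symm_apply]
  obtain ⟨g, hg⟩ := eq_conjGL h2 hns h3
  have h4 : conjGL g (e0 ⟨i, hi⟩) = e0 ⟨i, hi⟩ := by
    rw [← hg]
    show e0 (nact L hu (e0.symm (e0 ⟨i, hi⟩))) = _
    rw [e0.symm_apply_apply]
    congr 1
    apply Subtype.ext
    rw [coe_nact]
    show u * i * u⁻¹ = i
    rw [hui, mul_inv_cancel_right]
  have h5 := fix_of h2 (t := e0 ⟨t, ht⟩) hj h4 (by
    rw [← map_mul, ← map_mul]
    congr 1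
    exact Subtype.ext hti)
  rw [← hg] at h5
  have h6 : e0 (nact L hu (e0.symm (e0 ⟨t, ht⟩))) = e0 ⟨t, ht⟩ := h5
  rw [e0.symm_apply_apply] at h6
  have h7 := congrArg Subtype.val (e0.injective h6)
  rw [coe_nact] at h7
  exact mul_inv_eq_iff_eq_mul.1 h7

end group

end Cfsg.Agent.LFourR.TorusB
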