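import Cfsg.Agent.CTFrame.HomFrame

/-!
# Assembly of the frame of `SL₄` from one triple and the three pairs of commuting `SL₂`'s

`In φ L1 L2 g n`: `φ : SL (Fin 3) F →* G` with central kernel, `φ (std 0 1) = L1`, `φ (std 0 2) = g L1 g⁻¹`,
`φ (std 1 2) = g² L1 g⁻²`, `g³` normalises `L1` and `L2`, `[L1, L2] = 1`, `n ∈ C(L1)` exchanges `g L1 g⁻¹` and `g² L2 g⁻²`,
`g² L1 g⁻²` and `g L2 g⁻¹`.  Then `K` (six subgroups) is a frame of type `A₃`: `exists_hom`, `psl4`.
-/

set_option autoImplicit false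
set_option linter.unusedSectionVars false
set_option linter.unusedVariables false
set_option linter.dupNamespace false

namespace Cfsg.Agent.LFourR.AssemPlus

open Matrix Cfsg.Agent.CTFrame.SL3 Cfsg.Agent.CTFrame.Root Cfsg.Agent.CTFrame.Frame

universe u v

variable {F : Type u} [Field F] {G : Type v} [Group G]

/-- conjugate subgroup `g H g⁻¹` -/
def cj (g : G) (H : Subgroup G) : Subgroup G := H.map (MulAut.conj g).toMonoidHom

theorem mem_cj {g x : G} {H : Subgroup G} (hx : x ∈ H) : g * x * g⁻¹ ∈ cj g H := ⟨x, hx, rfl⟩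

theorem mem_cj_iff {g x : G} {H : Subgroup G} : x ∈ cj g H ↔ g⁻¹ * x * g ∈ H := by
  constructor
  · rintro ⟨y, hy, rfl⟩
    have : g⁻¹ * (MulAut.conj g).toMonoidHom y * g = y := by
      change g⁻¹ * (g * y * g⁻¹) * g = y
      group
    rw [this]; exact hy
  · intro h
    refine ⟨_, h, ?_⟩
    change g * (g⁻¹ * x * g) * g⁻¹ = x
    group

theorem cj_cj (g h : G) (H : Subgroup G) : cj g (cj h H) = cj (g * h) H := by
  ext x
  rw [mem_cj_iff, mem_cj_iff, mem_cj_iff, _root_.mul_inv_rev]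
  simp only [mul_assoc]

theorem cj_eq_of_comm {g : G} {H : Subgroup G} (h : ∀ x ∈ H, g * x = x * g) : cj g H = H := by
  ext x
  rw [mem_cj_iff]
  constructor
  · intro hx
    have h1 := h _ hx
    have h2 : g⁻¹ * x * g = x := by
      have : g * (g⁻¹ * x * g) = x * g := by group
      rw [this] at h1
      exact (mul_right_cancel h1).symm
    rw [← h2]; exact hx
  · intro hx
    have : g⁻¹ * x * g = x := by
      rw [mul_assoc, ← h x hx]; group
    rw [this]; exact hx

/-- the six subgroups -/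
def K (L1 L2 : Subgroup G) (g : G) : Fin 4 → Fin 4 → Subgroup G :=
  ![![⊥, L1, cj g L1, cj (g * g) L2],
    ![L1, ⊥, cj (g * g) L1, cj g L2],
    ![cj g L1, cj (g * g) L1, ⊥, L2],
    ![cj (g * g) L2, cj g L2, L2, ⊥]]

/-- input data -/
structure In (φ : S3 F →* G) (L1 L2 : Subgroup G) (g n : G) : Prop where
  ker : φ.ker ≤ Subgroup.center (S3 F)
  s01 : (std 0 1).map φ = L1
  s02 : (std 0 2).map φ = cj g L1
  s12 : (std 1 2).map φ = cj (g * g) L1
  comm : ∀ x ∈ L1, ∀ y ∈ L2, x * y = y * x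
  g1 : cj (g * g * g) L1 = L1
  g2 : cj (g * g * g) L2 = L2
  n1 : ∀ x ∈ L1, n * x = x * n
  n02 : cj n (cj g L1) = cj (g * g) L2
  n12 : cj n (cj (g * g) L1) = cj g L2

/-- conjugate of a homomorphism -/
def cjh (g : G) (φ : S3 F →* G) : S3 F →* G := (MulAut.conj g).toMonoidHom.comp φ

theorem map_cjh (g : G) (φ : S3 F →* G) (H : Subgroup (S3 F)) : H.map (cjh g φ) = cj g (H.map φ) := by
  rw [cjh, ← Subgroup.map_map]; rfl

theorem ker_cjh (g : G) (φ : S3 F →* G) (h : φ.ker ≤ Subgroup.center (S3 F)) :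
    (cjh g φ).ker ≤ Subgroup.center (S3 F) := by
  intro x hx
  apply h
  rw [MonoidHom.mem_ker] at hx ⊢
  have : (MulAut.conj g) (φ x) = 1 := hx
  exact (MulAut.conj g).injective (by rw [this, map_one])

/-- a triple from its three standard subgroups -/
theorem tr_of {L : Fin 4 → Fin 4 → Subgroup G} (hs : ∀ i j, L i j = L j i) {φ : S3 F →* G}
    (h : φ.ker ≤ Subgroup.center (S3 F)) {v : Fin 3 → Fin 4} (h01 : (std 0 1).map φ = L (v 0) (v 1))
    (h02 : (std 0 2).map φ = L (v 0) (v 2)) (h12 : (std 1 2).map φ = L (v 1) (v 2)) : Tr L φ v where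
  ker := h
  std a b hab := by
    fin_cases a <;> fin_cases b
    · exact absurd rfl hab
    · exact h01
    · exact h02
    · rw [std_symm, hs]; exact h01
    · exact absurd rfl hab
    · exact h12
    · rw [std_symm, hs]; exact h02
    · rw [std_symm, hs]; exact h12
    · exact absurd rfl hab

/-- every injective triple is a permutation of one of the four -/
theorem perm_triple : ∀ v : Fin 3 → Fin 4, Function.Injective v → ∃ σ : Equiv.Perm (Fin 3),
    v ∘ σ = ![0, 1, 2] ∨ v ∘ σ = ![0, 1, 3] ∨ v ∘ σ = ![2, 0, 3] ∨ v ∘ σ = ![1, 2, 3] := by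
  decide

variable {φ : S3 F →* G} {L1 L2 : Subgroup G} {g n : G}

theorem K_symm (i j : Fin 4) : K L1 L2 g i j = K L1 L2 g j i := by
  fin_cases i <;> fin_cases j <;> rfl

theorem par_cj {A B : Subgroup G} (h : Par A B) (x : G) : Par (cj x A) (cj x B) := by
  rintro _ ⟨a, ha, rfl⟩ _ ⟨b, hb, rfl⟩
  rw [← map_mul, ← map_mul, h a ha b hb]

theorem frame [Finite F] (h : In φ L1 L2 g n) : Frame F (K L1 L2 g) := by
  have hp : Par L1 L2 := h.comm
  have hp1 := par_cj hp g
  have hp2 := par_cj hp (g * g)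
  refine CTFrame.Main.of_perm (K_symm) ?_ ?_
  · intro i j k l h1 h2 h3 h4 h5 h6
    fin_cases i <;> fin_cases j <;> first | exact absurd rfl h1 | skip
    all_goals fin_cases k <;> first | exact absurd rfl h3 | exact absurd rfl h5 | skip
    all_goals fin_cases l <;> first | exact absurd rfl h2 | exact absurd rfl h4 | exact absurd rfl h6 | skip
    all_goals first | exact hp | exact hp.symm | exact hp1 | exact hp1.symm | exact hp2 | exact hp2.symm
  · intro v hv
    obtain ⟨σ, hσ⟩ := perm_triple v hv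
    refine ⟨σ, ?_⟩
    have e1 : cj n L1 = L1 := cj_eq_of_comm h.n1
    have k3 := ker_cjh n φ h.ker
    rcases hσ with hσ | hσ | hσ | hσ <;> rw [hσ]
    · exact ⟨φ, tr_of K_symm h.ker h.s01 h.s02 h.s12⟩
    · refine ⟨cjh n φ, tr_of K_symm k3 ?_ ?_ ?_⟩
      · rw [map_cjh, h.s01]; exact e1
      · rw [map_cjh, h.s02]; exact h.n02
      · rw [map_cjh, h.s12]; exact h.n12
    · refine ⟨cjh g (cjh n φ), tr_of K_symm (ker_cjh _ _ k3) ?_ ?_ ?_⟩
      · rw [map_cjh, map_cjh, h.s01, e1]; rfl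
      · rw [map_cjh, map_cjh, h.s02, h.n02, cj_cj, ← mul_assoc, h.g2]; rfl
      · rw [map_cjh, map_cjh, h.s12, h.n12, cj_cj]; rfl
    · refine ⟨cjh (g * g) (cjh n φ), tr_of K_symm (ker_cjh _ _ k3) ?_ ?_ ?_⟩
      · rw [map_cjh, map_cjh, h.s01, e1]; rfl
      · rw [map_cjh, map_cjh, h.s02, h.n02, cj_cj, mul_assoc, ← cj_cj, ← mul_assoc, h.g2]; rfl
      · rw [map_cjh, map_cjh, h.s12, h.n12, cj_cj, h.g2]; rfl

/-- the six subgroups are in `<L1, L2, g L1 g⁻¹, n>`, more exactly in every subgroup containing `L1`, `L2`, `g L1 g⁻¹`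
as soon as `n ∈ L2`. -/
theorem K_le (h : In φ L1 L2 g n) (hn : n ∈ L2) (n1 : G) (hn1 : n1 ∈ L1)
    (h13 : cj n1 (cj g L1) = cj (g * g) L1) {H : Subgroup G} (h1 : L1 ≤ H) (h2 : L2 ≤ H) (h3 : cj g L1 ≤ H)
    (i j : Fin 4) (hij : i ≠ j) : K L1 L2 g i j ≤ H := by
  have key : ∀ x ∈ H, ∀ A : Subgroup G, A ≤ H → cj x A ≤ H := by
    rintro x hx A hA _ ⟨a, ha, rfl⟩
    exact H.mul_mem (H.mul_mem hx (hA ha)) (H.inv_mem hx)
  have h4 : cj (g * g) L1 ≤ H := by
    rw [← h13]; exact key _ (h1 hn1) _ h3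
  have h5 : cj (g * g) L2 ≤ H := by
    rw [← h.n02]; exact key _ (h2 hn) _ h3
  have h6 : cj g L2 ≤ H := by
    rw [← h.n12]; exact key _ (h2 hn) _ h4
  fin_cases i <;> fin_cases j <;> first
    | exact absurd rfl hij | exact h1 | exact h2 | exact h3 | exact h4 | exact h5 | exact h6

/-- **Homomorphism version**, no simplicity, no generation. -/
theorem exists_hom [Finite F] [Finite G] (h : In φ L1 L2 g n) (hodd : Odd (Nat.card F)) :
    ∃ Φ : SpecialLinearGroup (Fin 4) F →* G, Φ.ker ≤ Subgroup.center (SpecialLinearGroup (Fin 4) F) ∧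
      (∀ i j, i ≠ j → (CTFrame.HomFrame.stdn F i j).map Φ = K L1 L2 g i j) ∧
      Φ.range = ⨆ (i : Fin 4) (j : Fin 4) (_ : i ≠ j), K L1 L2 g i j :=
  CTFrame.HomFrame.exists_hom (frame h) (by simp) hodd

/-- **Assembly**: `G` simple generated by the six subgroups. -/
theorem psl4 [Finite F] [Finite G] [IsSimpleGroup G] (h : In φ L1 L2 g n) (hodd : Odd (Nat.card F))
    (hgen : (⨆ (i : Fin 4) (j : Fin 4) (_ : i ≠ j), K L1 L2 g i j) = ⊤) :
    Nonempty (G ≃* ProjectiveSpecialLinearGroup (Fin 4) F) := by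
  obtain ⟨Φ, h1, h2, h3⟩ := exists_hom h hodd
  rw [hgen, MonoidHom.range_eq_top] at h3
  have h4 : Φ.ker = Subgroup.center (SpecialLinearGroup (Fin 4) F) := by
    refine le_antisymm h1 ?_
    intro z hz
    rw [MonoidHom.mem_ker]
    have h5 : Φ z ∈ Subgroup.center G := by
      rw [Subgroup.mem_center_iff]
      intro y
      obtain ⟨x, rfl⟩ := h3 y
      rw [← map_mul, ← map_mul, Subgroup.mem_center_iff.1 hz x]
    have h6 : Subgroup.center G = ⊥ := by
      rcases (inferInstance : (Subgroup.center G).Normal).eq_bot_or_eq_top with h7 | h7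
      · exact h7
      · exfalso
        have hcomm : ∀ x y : G, x * y = y * x := fun x y => by
          have : y ∈ Subgroup.center G := h7 ▸ Subgroup.mem_top y
          exact (Subgroup.mem_center_iff.1 this x)
        exact not_par_X' (a := 0) (b := 1) (c := 2) (by decide) (by decide) (by decide) φ h.ker
          fun x _ y _ => hcomm x y
    rw [h6, Subgroup.mem_bot] at h5
    exact h5
  exact ⟨((QuotientGroup.quotientMulEquivOfEq h4.symm).trans
    (QuotientGroup.quotientKerEquivOfSurjective Φ h3)).symm⟩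

/-- **Assembly**: `G` simple generated by `L1`, `L2`, `g L1 g⁻¹`. -/
theorem psl4' [Finite F] [Finite G] [IsSimpleGroup G] (h : In φ L1 L2 g n) (hodd : Odd (Nat.card F)) (hn : n ∈ L2)
    {n1 : G} (hn1 : n1 ∈ L1) (h13 : cj n1 (cj g L1) = cj (g * g) L1) (hgen : L1 ⊔ L2 ⊔ cj g L1 = ⊤) :
    Nonempty (G ≃* ProjectiveSpecialLinearGroup (Fin 4) F) := by
  refine psl4 h hodd (top_le_iff.1 ?_)
  rw [← hgen]
  have key : ∀ i j : Fin 4, i ≠ j →
      K L1 L2 g i j ≤ ⨆ (i : Fin 4) (j : Fin 4) (_ : i ≠ j), K L1 L2 g i j := fun i j hij =>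
    le_iSup_of_le i (le_iSup_of_le j (le_iSup_of_le hij le_rfl))
  exact sup_le (sup_le (key 0 1 (by decide)) (key 2 3 (by decide))) (key 0 2 (by decide))

end Cfsg.Agent.LFourR.AssemPlus
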