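import Cfsg.Agent.Phan.Recog

/-!
# Assembly for `PSU 4 F q`

`AssemMinus.Inp hF φ L1 L2 g n1 n2 z` : the output of the construction step (`ε = -1`).
`Inp.exists_hom` : `Φ : SU 4 F q →* G` with `Φ (std i j) = K i j` for all six pairs.
`Inp.nonempty_psu` : `G` simple and generated by the six `K i j` is `PSU 4 F q`.
-/

set_option autoImplicit false

namespace Cfsg.Agent.LFourR.AssemMinus

open Matrix Cfsg Cfsg.Agent.Phan Subgroup

variable {F : Type*} [Field F] [Fintype F] {q : ℕ} {G : Type*} [Group G]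

theorem vec2_inj {n : ℕ} {a b : Fin n} (hab : a ≠ b) : Function.Injective ![a, b] := by
  intro i j hij
  fin_cases i <;> fin_cases j <;> simp_all

/-- the `SU 2` on two coordinates -/
abbrev std {n : ℕ} (hF : Fintype.card F = q ^ 2) (a b : Fin n) (hab : a ≠ b) : Subgroup (SU n F q) :=
  (Phan.ext hF ![a, b] (vec2_inj hab)).range

/-- the conjugate `g H g⁻¹` -/
abbrev cj (g : G) (H : Subgroup G) : Subgroup G := H.map (MulAut.conj g).toMonoidHom

theorem mem_cj {g : G} {H : Subgroup G} {x : G} : x ∈ cj g H ↔ g⁻¹ * x * g ∈ H := by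
  constructor
  · rintro ⟨y, hy, rfl⟩
    have : g⁻¹ * ((MulAut.conj g).toMonoidHom y) * g = y := by
      change g⁻¹ * (g * y * g⁻¹) * g = y
      group
    rwa [this]
  · intro h
    refine ⟨_, h, ?_⟩
    change g * (g⁻¹ * x * g) * g⁻¹ = x
    group

theorem cj_cj (a b : G) (H : Subgroup G) : cj a (cj b H) = cj (a * b) H := by
  ext x
  rw [mem_cj, mem_cj, mem_cj, _root_.mul_inv_rev]
  have : b⁻¹ * (a⁻¹ * x * a) * b = b⁻¹ * a⁻¹ * x * (a * b) := by group
  rw [this]

theorem cj_one (H : Subgroup G) : cj 1 H = H := by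
  ext x
  rw [mem_cj]
  simp

theorem cj_eq_of_commute {g : G} {H : Subgroup G} (h : ∀ x ∈ H, x * g = g * x) : cj g H = H := by
  have h' : ∀ x ∈ H, g * x * g⁻¹ = x := fun x hx => by rw [← h x hx]; group
  apply le_antisymm
  · rintro _ ⟨x, hx, rfl⟩
    change g * x * g⁻¹ ∈ H
    rw [h' x hx]
    exact hx
  · intro x hx
    exact ⟨x, hx, h' x hx⟩

theorem cj_map {S : Type*} [Group S] (φ : S →* G) (g : G) (H : Subgroup S) :
    H.map ((MulAut.conj g).toMonoidHom.comp φ) = cj g (H.map φ) := by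
  rw [cj, Subgroup.map_map]

/-- The output of the construction step. -/
structure Inp (hF : Fintype.card F = q ^ 2) (φ : SU 3 F q →* G) (L1 L2 : Subgroup G)
    (g n1 n2 z : G) : Prop where
  ker : φ.ker ≤ center (SU 3 F q)
  comm : ∀ x ∈ L1, ∀ y ∈ L2, x * y = y * x
  n1_mem : n1 ∈ L1
  n2_mem : n2 ∈ L2
  s01 : (std hF 0 1 (by decide)).map φ = L1
  s02 : (std hF 0 2 (by decide)).map φ = cj g L1
  s12 : (std hF 1 2 (by decide)).map φ = cj (g ^ 2) L1
  /-- `g³` normalises `L2` -/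
  g3 : cj (g ^ 3) L2 = L2
  /-- `n2` maps `K23` to `K24` -/
  n2_swap : cj n2 (cj (g ^ 2) L1) = cj g L2
  /-- `n2` maps `K13` to `K14` -/
  n2_swap' : cj n2 (cj g L1) = cj (g ^ 2) L2
  z_mem1 : z ∈ L1
  z_mem2 : z ∈ L2
  z_sq : z * z = 1
  z_ne : z ≠ 1

theorem negOne_of_sq (hF : Fintype.card F = q ^ 2) (hodd : Odd q) {x : SU 2 F q} (h : x * x = 1)
    (h1 : x ≠ 1) : x = negOne hF := by
  have h2 := two_ne_zero_of_odd hF hodd
  have hm : mat x * mat x = 1 := by rw [← mat_mul, h, mat_one]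
  have hd := mat_det x
  have ha : mat x = (mat x).adjugate := by
    have h3 : mat x * (mat x).adjugate = 1 := by rw [Matrix.mul_adjugate, hd, one_smul]
    calc mat x = mat x * (mat x * (mat x).adjugate) := by rw [h3, mul_one]
      _ = (mat x).adjugate := by rw [← mul_assoc, hm, one_mul]
  rw [Matrix.adjugate_fin_two] at ha
  have h01 := congrFun (congrFun ha 0) 1
  have h10 := congrFun (congrFun ha 1) 0
  have h00 := congrFun (congrFun ha 0) 0
  simp only [of_apply, cons_val', cons_val_zero, cons_val_one] at h01 h10 h00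
  have h01' : mat x 0 1 = 0 := by
    have : (2 : F) * mat x 0 1 = 0 := by linear_combination h01
    exact (mul_eq_zero.1 this).resolve_left h2
  have h10' : mat x 1 0 = 0 := by
    have : (2 : F) * mat x 1 0 = 0 := by linear_combination h10
    exact (mul_eq_zero.1 this).resolve_left h2
  rw [Matrix.det_fin_two, h01', zero_mul, sub_zero, ← h00] at hd
  rcases mul_self_eq_one_iff.1 hd with h3 | h3
  · exfalso
    apply h1
    apply mat_inj
    rw [mat_one]
    ext i j
    fin_cases i <;> fin_cases j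
    · simpa using h3
    · simpa using h01'
    · simpa using h10'
    · simpa using h00.symm.trans h3
  · apply mat_inj
    rw [mat_negOne]
    ext i j
    fin_cases i <;> fin_cases j
    · simpa using h3
    · simpa using h01'
    · simpa using h10'
    · simpa using h00.symm.trans h3

theorem emb_eq_ext {n : ℕ} (hF : Fintype.card F = q ^ 2) {k : ℕ} (h : k + 2 ≤ n) {a b : Fin n}
    (ha : (a : ℕ) = k) (hb : (b : ℕ) = k + 1) (hab : a ≠ b) :
    emb hF k h = Phan.ext hF ![a, b] (vec2_inj hab) := by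
  have : (sh k h : Fin 2 → Fin n) = ![a, b] := by
    funext i
    apply Fin.ext
    fin_cases i
    · simp [sh_val, ha]
    · simp [sh_val, hb]
  exact MonoidHom.ext (ext_congr hF (sh_injective k h) (vec2_inj hab) this)

theorem std_eq {n : ℕ} (hF : Fintype.card F = q ^ 2) {k : ℕ} (h : k + 2 ≤ n) {a b : Fin n}
    (ha : (a : ℕ) = k) (hb : (b : ℕ) = k + 1) (hab : a ≠ b) :
    (emb hF k h : SU 2 F q →* SU n F q).range = std hF a b hab := by
  rw [emb_eq_ext hF h ha hb hab]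

theorem std01 (hF : Fintype.card F = q ^ 2) :
    (emb hF 0 (by omega : 0 + 2 ≤ 3) : SU 2 F q →* SU 3 F q).range = std hF 0 1 (by decide) := by
  have h := std_eq (n := 3) (F := F) (q := q) hF (k := 0) (by omega) (a := (0 : Fin 3))
    (b := (1 : Fin 3)) (by decide) (by decide) (by decide)
  exact h

theorem std12 (hF : Fintype.card F = q ^ 2) :
    (emb hF 1 (by omega : 1 + 2 ≤ 3) : SU 2 F q →* SU 3 F q).range = std hF 1 2 (by decide) := by
  have h := std_eq (n := 3) (F := F) (q := q) hF (k := 1) (by omega) (a := (1 : Fin 3))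
    (b := (2 : Fin 3)) (by decide) (by decide) (by decide)
  exact h

/-- the two homomorphisms -/
def psi {S : Type*} [Group S] (φ : S →* G) (g n2 : G) (k : ℕ) : S →* G :=
  if k = 0 then φ else (MulAut.conj (g ^ 2 * n2)).toMonoidHom.comp φ

theorem psi_zero {S : Type*} [Group S] (φ : S →* G) (g n2 : G) : psi φ g n2 0 = φ := rfl

theorem psi_one {S : Type*} [Group S] (φ : S →* G) (g n2 : G) :
    psi φ g n2 1 = (MulAut.conj (g ^ 2 * n2)).toMonoidHom.comp φ := rfl

theorem ker_conj {S : Type*} [Group S] (φ : S →* G) (a : G) :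
    ((MulAut.conj a).toMonoidHom.comp φ).ker = φ.ker := by
  ext x
  rw [MonoidHom.mem_ker, MonoidHom.mem_ker]
  change (MulAut.conj a) (φ x) = 1 ↔ _
  rw [map_eq_one_iff _ (MulAut.conj a).injective]

variable {hF : Fintype.card F = q ^ 2} {φ : SU 3 F q →* G} {L1 L2 : Subgroup G}
  {g n1 n2 z : G}

theorem Inp.psi_zero_zero (h : Inp hF φ L1 L2 g n1 n2 z) :
    ((psi φ g n2 0).comp (emb hF 0 (by omega : 0 + 2 ≤ 3))).range = L1 := by
  rw [psi_zero, MonoidHom.range_comp, std01, h.s01]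

theorem Inp.psi_zero_one (h : Inp hF φ L1 L2 g n1 n2 z) :
    ((psi φ g n2 0).comp (emb hF 1 (by omega : 1 + 2 ≤ 3))).range = cj (g ^ 2) L1 := by
  rw [psi_zero, MonoidHom.range_comp, std12, h.s12]

theorem Inp.cj_n2 (h : Inp hF φ L1 L2 g n1 n2 z) : cj n2 L1 = L1 :=
  cj_eq_of_commute fun x hx => h.comm x hx _ h.n2_mem

theorem Inp.psi_one_zero (h : Inp hF φ L1 L2 g n1 n2 z) :
    ((psi φ g n2 1).comp (emb hF 0 (by omega : 0 + 2 ≤ 3))).range = cj (g ^ 2) L1 := by
  rw [psi_one, MonoidHom.range_comp, cj_map, std01, h.s01, ← cj_cj, h.cj_n2]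

theorem Inp.psi_one_one (h : Inp hF φ L1 L2 g n1 n2 z) :
    ((psi φ g n2 1).comp (emb hF 1 (by omega : 1 + 2 ≤ 3))).range = L2 := by
  rw [psi_one, MonoidHom.range_comp, cj_map, std12, h.s12, ← cj_cj, h.n2_swap, cj_cj, ← pow_succ,
    h.g3]

theorem Inp.psi_one_13 (h : Inp hF φ L1 L2 g n1 n2 z) :
    (std hF 0 2 (by decide)).map (psi φ g n2 1) = cj g L2 := by
  rw [psi_one, cj_map, h.s02, ← cj_cj, h.n2_swap', cj_cj, ← pow_add]
  change cj (g ^ (1 + 3)) L2 = _
  rw [pow_add, pow_one, ← cj_cj, h.g3]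

theorem Inp.ker_psi (h : Inp hF φ L1 L2 g n1 n2 z) (k : ℕ) :
    (psi φ g n2 k).ker ≤ center (SU 3 F q) := by
  rw [psi]
  split_ifs
  · exact h.ker
  · rw [ker_conj]
    exact h.ker

/-- injectivity on the `SU 2` -/
theorem inj_of_ker {ψ : SU 3 F q →* G} (h : ψ.ker ≤ center (SU 3 F q)) {a : ℕ} (ha : a + 2 ≤ 3) :
    Function.Injective (ψ.comp (emb hF a ha)) := by
  rw [injective_iff_map_eq_one]
  intro x hx
  have h1 : emb hF a ha x ∈ Subgroup.center (SU 3 F q) := h hx
  have h2 : emb hF a ha x = 1 := by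
    obtain ⟨i, hi⟩ : ∃ i : Fin 3, (i : ℕ) < a ∨ a + 2 ≤ i := by
      by_cases h0 : a = 0
      · exact ⟨2, Or.inr (by rw [h0]; decide)⟩
      · exact ⟨0, Or.inl (by simp; omega)⟩
    exact eq_one_of_center_fix hF (n := 1) (fun g => Subgroup.mem_center_iff.1 h1 g)
      (pe 3 F q i) (emb_smul_pe hF a ha x hi)
  exact emb_injective hF a ha (by rw [h2, map_one])

/-- the central involution -/
theorem map_negOne (hodd : Odd q) {ψ : SU 3 F q →* G} (h : ψ.ker ≤ center (SU 3 F q)) {a : ℕ}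
    (ha : a + 2 ≤ 3) {L : Subgroup G} (hL : (ψ.comp (emb hF a ha)).range = L) {z : G}
    (hz : z ∈ L) (hzz : z * z = 1) (hz1 : z ≠ 1) : ψ (emb hF a ha (negOne hF)) = z := by
  rw [← hL] at hz
  obtain ⟨x, rfl⟩ := hz
  have hx : x = negOne hF := by
    apply negOne_of_sq hF hodd
    · apply inj_of_ker (hF := hF) h ha
      rw [map_mul, map_one]
      exact hzz
    · rintro rfl
      exact hz1 (map_one _)
  rw [hx]
  rfl

theorem Inp.psiSystem (h : Inp hF φ L1 L2 g n1 n2 z) (hodd : Odd q) :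
    PsiSystem hF 4 (psi φ g n2) where
  ker k _ := h.ker_psi k
  range k hk := by
    obtain rfl : k = 0 := by omega
    rw [h.psi_zero_one]
    exact h.psi_one_zero.symm
  comm i j a b hi hj ha hb hij x y := by
    obtain rfl : i = 0 := by omega
    obtain rfl : a = 0 := by omega
    obtain rfl : j = 1 := by omega
    obtain rfl : b = 1 := by omega
    refine h.comm _ ?_ _ ?_
    · rw [← h.psi_zero_zero]
      exact ⟨x, rfl⟩
    · rw [← h.psi_one_one]
      exact ⟨y, rfl⟩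
  inv k hk x := by
    obtain rfl : k = 0 := by omega
    rw [map_negOne hodd (h.ker_psi 0) (by omega : 0 + 2 ≤ 3) h.psi_zero_zero h.z_mem1 h.z_sq h.z_ne,
      map_negOne hodd (h.ker_psi 1) (by omega : 1 + 2 ≤ 3) h.psi_one_one h.z_mem2 h.z_sq h.z_ne,
      h.z_sq]
    exact Commute.one_left _

/-- image of a standard subgroup under a frame automorphism -/
theorem map_fr_std {n : ℕ} (τ : F ≃+* F) (d : Fin n → F) (hd : ∀ i, d i * d i ^ q = 1) {a b : Fin n}
    (hab : a ≠ b) : (std hF a b hab).map (fr hF τ d hd) = std hF a b hab := by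
  ext y
  constructor
  · rintro ⟨_, ⟨x, rfl⟩, rfl⟩
    rw [fr_ext]
    exact ⟨_, rfl⟩
  · rintro ⟨x, rfl⟩
    obtain ⟨x', rfl⟩ := fr_surjective hF τ (d ∘ ![a, b]) (fun i => hd _) x
    exact ⟨_, ⟨x', rfl⟩, fr_ext hF (vec2_inj hab) τ d hd x'⟩

theorem map_emb_std {k : ℕ} (hk : k + 3 ≤ 4) {a b : Fin 3} (hab : a ≠ b) {a' b' : Fin 4}
    (ha : (a' : ℕ) = k + a) (hb : (b' : ℕ) = k + b) (hab' : a' ≠ b') :
    (std hF a b hab).map (emb hF k hk) = std hF a' b' hab' := by
  rw [std, ← MonoidHom.range_comp]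
  have : (emb hF k hk).comp (Phan.ext hF ![a, b] (vec2_inj hab)) =
      Phan.ext hF ![a', b'] (vec2_inj hab') := by
    apply MonoidHom.ext
    intro x
    change ext hF (sh k hk) (sh_injective k hk) (ext hF ![a, b] (vec2_inj hab) x) = _
    rw [ext_comp hF (sh_injective k hk)]
    refine ext_congr hF _ _ ?_ x
    funext i
    apply Fin.ext
    fin_cases i
    · exact ha.symm
    · exact hb.symm
  rw [this]

/-- **The homomorphism** (all `K i j` except `K 0 3`). -/
theorem Inp.exists_hom (h : Inp hF φ L1 L2 g n1 n2 z) (hodd : Odd q) (hq : 5 ≤ q) :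
    ∃ Φ : SU 4 F q →* G,
      (std hF 0 1 (by decide)).map Φ = L1 ∧
      (std hF 0 2 (by decide)).map Φ = cj g L1 ∧
      (std hF 1 2 (by decide)).map Φ = cj (g ^ 2) L1 ∧
      (std hF 2 3 (by decide)).map Φ = L2 ∧
      (std hF 1 3 (by decide)).map Φ = cj g L2 ∧
      φ.range ≤ Φ.range := by
  obtain ⟨Φ, hΦ⟩ := (h.psiSystem hodd).exists_hom (n := 1) hF hodd hq
  have key : ∀ (k : ℕ) (hk : k + 3 ≤ 4) {a b : Fin 3} (hab : a ≠ b) {a' b' : Fin 4}
      (_ : (a' : ℕ) = k + a) (_ : (b' : ℕ) = k + b) (hab' : a' ≠ b'),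
      (std hF a' b' hab').map Φ = (std hF a b hab).map (psi φ g n2 k) := by
    intro k hk a b hab a' b' ha hb hab'
    obtain ⟨τ, d, hd, e⟩ := hΦ k hk
    rw [← map_emb_std hk hab ha hb hab', Subgroup.map_map]
    have : Φ.comp (emb hF k hk) = (psi φ g n2 k).comp (fr hF τ d hd) := MonoidHom.ext e
    rw [this, ← Subgroup.map_map, map_fr_std]
  refine ⟨Φ, ?_, ?_, ?_, ?_, ?_, ?_⟩
  · rw [key 0 (by omega) (a := 0) (b := 1) (by decide) (by decide) (by decide), psi_zero, h.s01]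
  · rw [key 0 (by omega) (a := 0) (b := 2) (by decide) (by decide) (by decide), psi_zero, h.s02]
  · rw [key 0 (by omega) (a := 1) (b := 2) (by decide) (by decide) (by decide), psi_zero, h.s12]
  · rw [key 1 (by omega) (a := 1) (b := 2) (by decide) (by decide) (by decide), ← h.psi_one_one,
      MonoidHom.range_comp, std12]
  · rw [key 1 (by omega) (a := 0) (b := 2) (by decide) (by decide) (by decide), h.psi_one_13]
  · rintro _ ⟨x, rfl⟩
    obtain ⟨τ, d, hd, e⟩ := hΦ 0 (by omega)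
    obtain ⟨y, rfl⟩ := fr_surjective hF τ d hd x
    exact ⟨_, e y⟩

/-- **Recognition of `PSU 4 F q`.** -/
theorem Inp.nonempty_psu [IsSimpleGroup G] (h : Inp hF φ L1 L2 g n1 n2 z) (hodd : Odd q)
    (hq : 5 ≤ q)
    (hgen : L1 ⊔ cj g L1 ⊔ cj (g ^ 2) L1 ⊔ L2 ⊔ cj g L2 ⊔ cj (g ^ 2) L2 = ⊤) :
    Nonempty (G ≃* PSU 4 F q) := by
  obtain ⟨Φ, h01, h02, h12, h23, h13, -⟩ := h.exists_hom hodd hq
  refine nonempty_psu_of_surjective hF (by omega) (by omega) Φ ?_
  rw [← MonoidHom.range_eq_top, eq_top_iff, ← hgen]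
  have hle : ∀ (X : Subgroup (SU 4 F q)) (Y : Subgroup G), X.map Φ = Y → Y ≤ Φ.range := by
    rintro X _ rfl
    exact (Subgroup.map_mono le_top).trans (MonoidHom.range_eq_map Φ).ge
  have e1 := hle _ _ h01
  have e2 := hle _ _ h02
  have e3 := hle _ _ h12
  have e4 := hle _ _ h23
  have e5 := hle _ _ h13
  have e6 : cj (g ^ 2) L2 ≤ Φ.range := by
    rw [← h.n2_swap']
    rintro _ ⟨x, hx, rfl⟩
    change n2 * x * n2⁻¹ ∈ Φ.range
    exact mul_mem (mul_mem (e4 h.n2_mem) (e2 hx)) (inv_mem (e4 h.n2_mem))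
  exact sup_le (sup_le (sup_le (sup_le (sup_le e1 e2) e3) e4) e5) e6

/-- **Recognition of `PSU 4 F q`**, generation by three of the subgroups. -/
theorem Inp.nonempty_psu' [IsSimpleGroup G] (h : Inp hF φ L1 L2 g n1 n2 z) (hodd : Odd q)
    (hq : 5 ≤ q) (hgen : L1 ⊔ L2 ⊔ cj g L1 = ⊤) :
    Nonempty (G ≃* PSU 4 F q) := by
  refine h.nonempty_psu hodd hq ?_
  rw [eq_top_iff, ← hgen]
  refine sup_le (sup_le ?_ ?_) ?_
  · exact le_sup_of_le_left (le_sup_of_le_left (le_sup_of_le_left (le_sup_of_le_left le_sup_left)))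
  · exact le_sup_of_le_left (le_sup_of_le_left le_sup_right)
  · exact le_sup_of_le_left (le_sup_of_le_left (le_sup_of_le_left (le_sup_of_le_left le_sup_right)))

end Cfsg.Agent.LFourR.AssemMinus
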