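import Cfsg.Agent.LThreeModel.SU3
import Cfsg.Agent.LFourR.AssemMinus

/-!
# (R3g), `ε = -`: `SU₃(q) → J` with prescribed frame

`LiftMinus.exists_frame` : `J` finite perfect, `π : J → PSU₃(q)` onto with central kernel of order a product of odd primes
dividing `q + 1`; `u`, `v` commuting involutions of `J`, `K1 ≤ C(u)`, `K2 ≤ C(v)`, `K3 ≤ C(uv)` perfect with
a quotient `SL(2,q)` (`IsK q`): there is `φ : SU 3 F q →* J` onto with central kernel, `std 0 1 ↦ K1`, `std 0 2 ↦ K2`,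
`std 1 2 ↦ K3`, `dg 2 ↦ u`, `dg 1 ↦ v`.
-/

set_option autoImplicit false

namespace Cfsg.Agent.LFourR.LiftMinus

open Matrix Cfsg Cfsg.Agent.Phan Subgroup
open Cfsg.Agent.LThreeModel.SU3 (dg pr)

variable {J : Type*} [Group J]

/-- a perfect subgroup that stays as large as `SL(2,q)` modulo odd central subgroups -/
structure IsK (q : ℕ) (K : Subgroup J) : Prop where
  perf : ⁅K, K⁆ = K
  card_ge : ∀ N : Subgroup K, N ≤ center K → ¬ 2 ∣ Nat.card N → q * (q ^ 2 - 1) * Nat.card N ≤ Nat.card K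

/-- a central element of `SL(2,E)` squares to one -/
theorem sq_of_central {E : Type*} [Field E] {x : SpecialLinearGroup (Fin 2) E}
    (hx : x ∈ center (SpecialLinearGroup (Fin 2) E)) : x ^ 2 = 1 := by
  rw [Matrix.SpecialLinearGroup.mem_center_iff] at hx
  obtain ⟨r, hr, h⟩ := hx
  ext i j
  rw [Matrix.SpecialLinearGroup.coe_pow, ← h, ← map_pow, Matrix.SpecialLinearGroup.coe_one]
  have hr' : r ^ 2 = 1 := by simpa using hr
  rw [hr', map_one]

theorem IsK.of_surj [Finite J] {q : ℕ} {K : Subgroup J} {E : Type*} [Field E] [Finite E] (hE : Nat.card E = q)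
    (θ : K →* SpecialLinearGroup (Fin 2) E) (hθ : Function.Surjective θ) (hK : ⁅K, K⁆ = K) : IsK q K where
  perf := hK
  card_ge N hN hodd := by
    have : Fintype E := Fintype.ofFinite E
    have h1 : N ≤ θ.ker := by
      intro n hn
      rw [MonoidHom.mem_ker]
      have h2 : (θ n) ^ 2 = 1 := by
        apply sq_of_central
        rw [mem_center_iff]
        intro g
        obtain ⟨k, rfl⟩ := hθ g
        rw [← map_mul, ← map_mul, mem_center_iff.1 (hN hn) k]
      have h3 : (θ n) ^ Nat.card N = 1 := by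
        have : n ^ Nat.card N = 1 := by
          have := pow_card_eq_one' (x := (⟨n, hn⟩ : N))
          exact congrArg Subtype.val this
        rw [← map_pow, this, map_one]
      have h4 : Nat.Coprime 2 (Nat.card N) := (Nat.Prime.coprime_iff_not_dvd Nat.prime_two).2 hodd
      have h5 := orderOf_dvd_of_pow_eq_one h2
      have h6 := orderOf_dvd_of_pow_eq_one h3
      have h7 : orderOf (θ n) = 1 := Nat.dvd_one.1 (h4 ▸ Nat.dvd_gcd h5 h6)
      exact orderOf_eq_one_iff.1 h7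
    have h2 : Nat.card N ≤ Nat.card θ.ker := Nat.card_le_card_of_injective _ (Subgroup.inclusion_injective h1)
    have h3 : Nat.card K = Nat.card (SpecialLinearGroup (Fin 2) E) * Nat.card θ.ker := by
      rw [← Subgroup.card_mul_index θ.ker, Subgroup.index_ker, MonoidHom.range_eq_top.2 hθ, mul_comm,
        Nat.card_congr (Subgroup.topEquiv (G := SpecialLinearGroup (Fin 2) E)).toEquiv]
    rw [h3, Cfsg.Agent.ClassicalGeometry.PSL2Basic.card_SL2, ← Nat.card_eq_fintype_card, hE]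
    exact Nat.mul_le_mul_left _ h2

theorem IsK.of_equiv [Finite J] {q : ℕ} {K : Subgroup J} {E : Type*} [Field E] [Finite E] (hE : Nat.card E = q)
    (θ : K ≃* SpecialLinearGroup (Fin 2) E) (hK : ⁅K, K⁆ = K) : IsK q K :=
  IsK.of_surj hE θ.toMonoidHom θ.surjective hK

variable {F : Type*} [Field F] [Fintype F] {q : ℕ}

theorem card_SU2_le (hF : Fintype.card F = q ^ 2) : Nat.card (SU 2 F q) = q * (q ^ 2 - 1) :=
  LThreeModel.SU3.card_SU2_nat hF

/-- one of the three `K`s: its image is the standard `SU₂`. -/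
theorem map_eq_std [Finite J] (hF : Fintype.card F = q ^ 2) (h2 : (2 : F) ≠ 0) {π : J →* PSU 3 F q}
    (hkπ : π.ker ≤ center J) (hodd : ¬ 2 ∣ Nat.card π.ker) {K : Subgroup J} (hK : IsK q K) {u : J}
    (hu : K ≤ centralizer {u}) {c : Fin 3} {g : PSU 3 F q} (hg : g * π u * g⁻¹ = pr F q (dg hF c)) :
    (K.map π).map (MulAut.conj g).toMonoidHom = (LThreeExt.SU3.std hF c).map (pr F q) := by
  have hpi : Function.Injective (MulAut.conj g).toMonoidHom := (MulAut.conj g).injective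
  have hfin : Finite (PSU 3 F q) := inferInstance
  -- cardinality
  have hcard : Nat.card (SU 2 F q) ≤ Nat.card ((K.map π).map (MulAut.conj g).toMonoidHom) := by
    rw [card_SU2_le hF, Subgroup.card_map_of_injective hpi]
    have h1 : Nat.card K = Nat.card (K.map π) * Nat.card (π.comp K.subtype).ker := by
      rw [← Subgroup.card_mul_index (π.comp K.subtype).ker, Subgroup.index_ker, MonoidHom.range_comp,
        Subgroup.range_subtype, mul_comm]
    have h3 : (π.comp K.subtype).ker ≤ center K := by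
      intro x hx
      rw [mem_center_iff]
      intro y
      apply Subtype.ext
      have h4 : (x : J) ∈ π.ker := hx
      exact mem_center_iff.1 (hkπ h4) y
    have h4 : ¬ 2 ∣ Nat.card (π.comp K.subtype).ker := by
      intro h
      apply hodd
      refine h.trans ?_
      have : Nat.card ((π.comp K.subtype).ker.map K.subtype) ∣ Nat.card π.ker := by
        apply Subgroup.card_dvd_of_le
        rintro _ ⟨x, hx, rfl⟩
        exact hx
      rwa [Subgroup.card_map_of_injective K.subtype_injective] at this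
    have h5 := hK.card_ge _ h3 h4
    rw [h1] at h5
    exact Nat.le_of_mul_le_mul_right h5 Nat.card_pos
  have hperf : ⁅(K.map π).map (MulAut.conj g).toMonoidHom, (K.map π).map (MulAut.conj g).toMonoidHom⁆ =
      (K.map π).map (MulAut.conj g).toMonoidHom := by
    rw [← Subgroup.map_commutator, ← Subgroup.map_commutator, hK.perf]
  have hc : (K.map π).map (MulAut.conj g).toMonoidHom ≤ centralizer {pr F q (dg hF c)} := by
    rintro _ ⟨_, ⟨x, hx, rfl⟩, rfl⟩
    rw [mem_centralizer_singleton_iff, ← hg]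
    have h1 := mem_centralizer_singleton_iff.1 (hu hx)
    have h3 : π x * π u = π u * π x := by rw [← map_mul, h1, map_mul]
    change g * π x * g⁻¹ * (g * π u * g⁻¹) = g * π u * g⁻¹ * (g * π x * g⁻¹)
    calc g * π x * g⁻¹ * (g * π u * g⁻¹) = g * (π x * π u) * g⁻¹ := by group
      _ = g * (π u * π x) * g⁻¹ := by rw [h3]
      _ = _ := by group
  refine LThreeModel.SU3.eq_std hF h2 hperf hc (le_antisymm ?_ hcard)
  refine (Subgroup.card_le_of_le (LThreeModel.SU3.le_std hF h2 hperf hc)).trans ?_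
  rw [← LThreeModel.SU3.card_std hF c]
  exact Nat.card_le_card_of_surjective (fun x : LThreeExt.SU3.std hF c =>
    (⟨pr F q x.1, Subgroup.mem_map_of_mem _ x.2⟩ : (LThreeExt.SU3.std hF c).map (pr F q))) (by
      rintro ⟨_, x, hx, rfl⟩
      exact ⟨⟨x, hx⟩, rfl⟩)

theorem std01 (hF : Fintype.card F = q ^ 2) (h : (0 : Fin 3) ≠ 1) :
    AssemMinus.std hF 0 1 h = LThreeExt.SU3.std hF 2 := rfl

theorem std02 (hF : Fintype.card F = q ^ 2) (h : (0 : Fin 3) ≠ 2) :
    AssemMinus.std hF 0 2 h = LThreeExt.SU3.std hF 1 := rfl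

theorem std12 (hF : Fintype.card F = q ^ 2) (h : (1 : Fin 3) ≠ 2) :
    AssemMinus.std hF 1 2 h = LThreeExt.SU3.std hF 0 := rfl

/-- an involution over `1` modulo an odd kernel is `1` -/
theorem eq_one_of_ker [Finite J] {P : Type*} [Group P] {π : J →* P} (hodd : ¬ 2 ∣ Nat.card π.ker) {x : J}
    (hx : x * x = 1) (h : π x = 1) : x = 1 := by
  have h1 : x ∈ π.ker := h
  have h2 : x ^ Nat.card π.ker = 1 := by
    have := pow_card_eq_one' (x := (⟨x, h1⟩ : π.ker))
    exact congrArg Subtype.val this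
  have h4 : Nat.Coprime 2 (Nat.card π.ker) := (Nat.Prime.coprime_iff_not_dvd Nat.prime_two).2 hodd
  have h5 : orderOf x ∣ 2 := orderOf_dvd_of_pow_eq_one (by rw [pow_two, hx])
  have h6 := orderOf_dvd_of_pow_eq_one h2
  have h7 : orderOf x = 1 := Nat.dvd_one.1 (h4 ▸ Nat.dvd_gcd h5 h6)
  exact orderOf_eq_one_iff.1 h7

/-- **(R3g)**, `ε = -` -/
theorem exists_frame [Finite J] (hF : Fintype.card F = q ^ 2) (hq : 3 < q) (h2 : (2 : F) ≠ 0)
    (π : J →* PSU 3 F q) (hπ : Function.Surjective π) (hkπ : π.ker ≤ center J) (hJ : commutator J = ⊤)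
    (hr : ∀ r : ℕ, r.Prime → r ∣ Nat.card π.ker → r ≠ 2 ∧ r ∣ q + 1) {u v : J} (hu : u * u = 1)
    (hv : v * v = 1) (hu1 : u ≠ 1) (hv1 : v ≠ 1) (huv : u ≠ v) (hc : u * v = v * u) {K1 K2 K3 : Subgroup J}
    (h1 : IsK q K1) (h2' : IsK q K2) (h3 : IsK q K3) (hc1 : K1 ≤ centralizer {u}) (hc2 : K2 ≤ centralizer {v})
    (hc3 : K3 ≤ centralizer {u * v}) :
    ∃ φ : SU 3 F q →* J, Function.Surjective φ ∧ φ.ker ≤ center (SU 3 F q) ∧
      (AssemMinus.std hF 0 1 (by decide)).map φ = K1 ∧ (AssemMinus.std hF 0 2 (by decide)).map φ = K2 ∧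
      (AssemMinus.std hF 1 2 (by decide)).map φ = K3 ∧ φ (dg hF 2) = u ∧ φ (dg hF 1) = v := by
  have hodd : ¬ 2 ∣ Nat.card π.ker := fun h => (hr 2 Nat.prime_two h).1 rfl
  obtain ⟨φ, hφ, hφπ, hφK⟩ := LThreeExt.SU3.exists_hom hF hq π hπ hkπ hJ hr
  have hφπ' : ∀ x, π (φ x) = pr F q x := fun x => DFunLike.congr_fun hφπ x
  have hπu : π u * π u = 1 := by rw [← map_mul, hu, map_one]
  have hπv : π v * π v = 1 := by rw [← map_mul, hv, map_one]
  have hπu1 : π u ≠ 1 := fun h => hu1 (eq_one_of_ker hodd hu h)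
  have hπv1 : π v ≠ 1 := fun h => hv1 (eq_one_of_ker hodd hv h)
  have huv2 : (u * v) * (u * v) = 1 := by
    calc (u * v) * (u * v) = u * (v * u) * v := by group
      _ = u * (u * v) * v := by rw [hc]
      _ = (u * u) * (v * v) := by group
      _ = 1 := by rw [hu, hv, one_mul]
  have hπuv : π u ≠ π v := by
    intro h
    apply huv
    have h4 : u * v = 1 := eq_one_of_ker hodd huv2 (by rw [map_mul, h, hπv])
    calc u = u * v * v := by rw [mul_assoc, hv, mul_one]
      _ = v := by rw [h4, one_mul]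
  have hπc : π u * π v = π v * π u := by rw [← map_mul, hc, map_mul]
  obtain ⟨g, hg1, hg2⟩ := LThreeModel.SU3.exists_conj hF h2 hπu hπv hπu1 hπv1 hπuv hπc (a := 2) (b := 1) (by decide)
  have hg3 : g * π (u * v) * g⁻¹ = pr F q (dg hF 0) := by
    have h4 : dg hF 2 * dg hF 1 = dg hF 0 := LThreeModel.SU3.dg_mul hF (by decide) (by decide) (by decide)
    rw [← h4, map_mul, map_mul, ← hg1, ← hg2]; group
  obtain ⟨γ, rfl⟩ := LThreeModel.SU3.pr_surj g
  have key : ∀ {K : Subgroup J} {c : Fin 3}, IsK q K → ((K.map π).map (MulAut.conj (pr F q γ)).toMonoidHom =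
      (LThreeExt.SU3.std hF c).map (pr F q)) → (LThreeExt.SU3.std hF c).map φ =
        K.map (MulAut.conj (φ γ)).toMonoidHom := by
    intro K c hK hKc
    apply hφK c
    · rw [← Subgroup.map_commutator, hK.perf]
    · rw [Subgroup.map_map]
      refine Eq.trans ?_ hKc
      rw [Subgroup.map_map]
      congr 1
      ext x
      change π (φ γ * x * (φ γ)⁻¹) = pr F q γ * π x * (pr F q γ)⁻¹
      rw [map_mul, map_mul, map_inv, hφπ']
  have key2 : ∀ {c : Fin 3} {w : J}, w * w = 1 → pr F q γ * π w * (pr F q γ)⁻¹ = pr F q (dg hF c) →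
      φ (dg hF c) = φ γ * w * (φ γ)⁻¹ := by
    intro c w hw hc
    have h4 : π (φ (dg hF c) * (φ γ * w * (φ γ)⁻¹)⁻¹) = 1 := by
      rw [map_mul, map_inv, map_mul, map_mul, map_inv, hφπ', hφπ', hc, mul_inv_cancel]
    have h5 : φ (dg hF c) * (φ γ * w * (φ γ)⁻¹)⁻¹ ∈ center J := hkπ h4
    have h6 : (φ (dg hF c)) * (φ (dg hF c)) = 1 := by rw [← map_mul, LThreeModel.SU3.dg_sq, map_one]
    have h7 : (φ γ * w * (φ γ)⁻¹) * (φ γ * w * (φ γ)⁻¹) = 1 := by
      calc (φ γ * w * (φ γ)⁻¹) * (φ γ * w * (φ γ)⁻¹) = φ γ * (w * w) * (φ γ)⁻¹ := by group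
        _ = 1 := by rw [hw]; group
    set s := φ (dg hF c)
    set t := φ γ * w * (φ γ)⁻¹
    have h8 : t⁻¹ = t := inv_eq_of_mul_eq_one_left h7
    have h9 : (s * t⁻¹) * (s * t⁻¹) = 1 := by
      have h10 := mem_center_iff.1 h5 s
      calc (s * t⁻¹) * (s * t⁻¹) = (s * t⁻¹ * s) * t⁻¹ := by group
        _ = (s * (s * t⁻¹)) * t⁻¹ := by rw [h10]
        _ = (s * s) * (t⁻¹ * t⁻¹) := by group
        _ = 1 := by rw [h6, h8, h7, one_mul]
    have h11 := eq_one_of_ker hodd h9 h4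
    exact mul_inv_eq_one.1 h11
  have key3 : ∀ {K : Subgroup J} {c : Fin 3}, IsK q K → ((K.map π).map (MulAut.conj (pr F q γ)).toMonoidHom =
      (LThreeExt.SU3.std hF c).map (pr F q)) → (LThreeExt.SU3.std hF c).map
        ((MulAut.conj (φ γ)⁻¹).toMonoidHom.comp φ) = K := by
    intro K c hK hKc
    rw [← Subgroup.map_map, key hK hKc, Subgroup.map_map]
    have : (MulAut.conj (φ γ)⁻¹).toMonoidHom.comp (MulAut.conj (φ γ)).toMonoidHom = MonoidHom.id J := by
      ext x
      change (φ γ)⁻¹ * (φ γ * x * (φ γ)⁻¹) * (φ γ)⁻¹⁻¹ = x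
      group
    rw [this, Subgroup.map_id]
  have key4 : ∀ {c : Fin 3} {w : J}, w * w = 1 → pr F q γ * π w * (pr F q γ)⁻¹ = pr F q (dg hF c) →
      ((MulAut.conj (φ γ)⁻¹).toMonoidHom.comp φ) (dg hF c) = w := by
    intro c w hw hc
    change (φ γ)⁻¹ * φ (dg hF c) * (φ γ)⁻¹⁻¹ = w
    rw [key2 hw hc]
    group
  refine ⟨(MulAut.conj (φ γ)⁻¹).toMonoidHom.comp φ, ?_, ?_, ?_, ?_, ?_, ?_, ?_⟩
  · rw [MonoidHom.coe_comp]
    exact (MulAut.conj (φ γ)⁻¹).surjective.comp hφ
  · intro x hx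
    have h4 : φ x = 1 := (MulAut.conj (φ γ)⁻¹).injective (by
      rw [map_one]; exact hx)
    rw [← LThreeModel.SU3.pr_eq_one, ← hφπ', h4, map_one]
  · rw [std01]
    exact key3 h1 (map_eq_std hF h2 hkπ hodd h1 hc1 hg1)
  · rw [std02]
    exact key3 h2' (map_eq_std hF h2 hkπ hodd h2' hc2 hg2)
  · rw [std12]
    exact key3 h3 (map_eq_std hF h2 hkπ hodd h3 hc3 hg3)
  · exact key4 hu hg1
  · exact key4 hv hg2

end Cfsg.Agent.LFourR.LiftMinus
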