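import Cfsg.Agent.LThreeModel.SL3
import Cfsg.Agent.LThreeExt.SL3
import Cfsg.Agent.LFourR.LiftMinus

/-!
# (R3g), `ε = +`: `SL₃(F) → J` with prescribed frame

`LiftPlus.exists_frame` : `J` finite perfect, `π : J → PSL₃(F)` onto with central kernel of order a product of odd primes
dividing `q - 1`; `u`, `v` commuting involutions of `J`, `K1 ≤ C(u)`, `K2 ≤ C(v)`, `K3 ≤ C(uv)` perfect with
a quotient `SL(2,q)` (`LiftMinus.IsK q`, `q = |F|`): there is `φ : S3 F →* J` onto with central kernel, `std 0 1 ↦ K1`,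
`std 0 2 ↦ K2`, `std 1 2 ↦ K3`, `dg 2 ↦ u`, `dg 1 ↦ v`.
-/

set_option autoImplicit false
set_option linter.unusedSectionVars false

namespace Cfsg.Agent.LFourR.LiftPlus

open Matrix Subgroup Cfsg.Agent.CTFrame.SL3
open Cfsg.Agent.LThreeModel.SL3 (pr)
open Cfsg.Agent.LFourR.LiftMinus (IsK eq_one_of_ker)

universe u v

variable {F : Type u} [Field F] [Fintype F] {J : Type v} [Group J]

theorem card_SL2 : Nat.card (SpecialLinearGroup (Fin 2) F) = Fintype.card F * (Fintype.card F ^ 2 - 1) :=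
  Cfsg.Agent.ClassicalGeometry.PSL2Basic.card_SL2 F

/-- one of the three `K`s: its image is the standard `SL₂`. -/
theorem map_eq_std [Finite J] (h2 : (2 : F) ≠ 0) {π : J →* S3 F ⧸ center (S3 F)}
    (hkπ : π.ker ≤ center J) (hodd : ¬ 2 ∣ Nat.card π.ker) {K : Subgroup J} (hK : IsK (Fintype.card F) K) {u : J}
    (hu : K ≤ centralizer {u}) {a b c : Fin 3} (hab : a ≠ b) (hbc : b ≠ c) (hac : a ≠ c)
    {g : S3 F ⧸ center (S3 F)} (hg : g * π u * g⁻¹ = pr F (dg c)) :
    (K.map π).map (MulAut.conj g).toMonoidHom = (std a b : Subgroup (S3 F)).map (pr F) := by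
  have hpi : Function.Injective (MulAut.conj g).toMonoidHom := (MulAut.conj g).injective
  have hfin : Finite (S3 F ⧸ center (S3 F)) := inferInstance
  -- cardinality
  have hcard : Nat.card (SpecialLinearGroup (Fin 2) F) ≤ Nat.card ((K.map π).map (MulAut.conj g).toMonoidHom) := by
    rw [card_SL2, Subgroup.card_map_of_injective hpi]
    have h1 : Nat.card K = Nat.card (K.map π) * Nat.card (π.comp K.subtype).ker := by
      rw [← Subgroup.card_mul_index (π.comp K.subtype).ker, Subgroup.index_ker, MonoidHom.range_comp,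
        Subgroup.range_subtype, mul_comm]
    have h3 : (π.comp K.subtype).ker ≤ center K := by
      intro x hx
      rw [mem_center_iff]
      intro y
      apply Subtype.ext
      have h4 : (x : J) ∈ π.ker := hx
      exact mem_center_iff.1 (hkπ h4) y
    have h4 : ¬ 2 ∣ Nat.card (π.comp K.subtype).ker := by
      intro h
      apply hodd
      refine h.trans ?_
      have : Nat.card ((π.comp K.subtype).ker.map K.subtype) ∣ Nat.card π.ker := by
        apply Subgroup.card_dvd_of_le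
        rintro _ ⟨x, hx, rfl⟩
        exact hx
      rwa [Subgroup.card_map_of_injective K.subtype_injective] at this
    have h5 := hK.card_ge _ h3 h4
    rw [h1] at h5
    exact Nat.le_of_mul_le_mul_right h5 Nat.card_pos
  have hperf : ⁅(K.map π).map (MulAut.conj g).toMonoidHom, (K.map π).map (MulAut.conj g).toMonoidHom⁆ =
      (K.map π).map (MulAut.conj g).toMonoidHom := by
    rw [← Subgroup.map_commutator, ← Subgroup.map_commutator, hK.perf]
  have hc : (K.map π).map (MulAut.conj g).toMonoidHom ≤ centralizer {pr F (dg c)} := by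
    rintro _ ⟨_, ⟨x, hx, rfl⟩, rfl⟩
    rw [mem_centralizer_singleton_iff, ← hg]
    have h1 := mem_centralizer_singleton_iff.1 (hu hx)
    have h3 : π x * π u = π u * π x := by rw [← map_mul, h1, map_mul]
    change g * π x * g⁻¹ * (g * π u * g⁻¹) = g * π u * g⁻¹ * (g * π x * g⁻¹)
    calc g * π x * g⁻¹ * (g * π u * g⁻¹) = g * (π x * π u) * g⁻¹ := by group
      _ = g * (π u * π x) * g⁻¹ := by rw [h3]
      _ = _ := by group
  refine LThreeModel.SL3.eq_std hab hbc hac h2 hperf hc (le_antisymm ?_ hcard)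
  refine (Subgroup.card_le_of_le (LThreeModel.SL3.le_std hab hbc hac h2 hperf hc)).trans ?_
  obtain ⟨e⟩ := LThreeModel.SL3.std_equiv (F := F) hab hbc hac
  rw [← Nat.card_congr e.toEquiv]
  exact Nat.card_le_card_of_surjective (fun x : (std a b : Subgroup (S3 F)) =>
    (⟨pr F x.1, Subgroup.mem_map_of_mem _ x.2⟩ : (std a b : Subgroup (S3 F)).map (pr F))) (by
      rintro ⟨_, x, hx, rfl⟩
      exact ⟨⟨x, hx⟩, rfl⟩)

/-- **(R3g)**, `ε = +` -/
theorem exists_frame [Finite J] (hq : 3 < Fintype.card F) (h2 : (2 : F) ≠ 0)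
    (π : J →* ProjectiveSpecialLinearGroup (Fin 3) F) (hπ : Function.Surjective π) (hkπ : π.ker ≤ center J)
    (hJ : commutator J = ⊤)
    (hr : ∀ r : ℕ, r.Prime → r ∣ Nat.card π.ker → r ≠ 2 ∧ r ∣ Fintype.card F - 1) {u v : J} (hu : u * u = 1)
    (hv : v * v = 1) (hu1 : u ≠ 1) (hv1 : v ≠ 1) (huv : u ≠ v) (hc : u * v = v * u) {K1 K2 K3 : Subgroup J}
    (h1 : IsK (Fintype.card F) K1) (h2' : IsK (Fintype.card F) K2) (h3 : IsK (Fintype.card F) K3)
    (hc1 : K1 ≤ centralizer {u}) (hc2 : K2 ≤ centralizer {v}) (hc3 : K3 ≤ centralizer {u * v}) :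
    ∃ φ : S3 F →* J, Function.Surjective φ ∧ φ.ker ≤ center (S3 F) ∧
      (std 0 1 : Subgroup (S3 F)).map φ = K1 ∧ (std 0 2 : Subgroup (S3 F)).map φ = K2 ∧
      (std 1 2 : Subgroup (S3 F)).map φ = K3 ∧ φ (dg 2) = u ∧ φ (dg 1) = v := by
  have hodd : ¬ 2 ∣ Nat.card π.ker := fun h => (hr 2 Nat.prime_two h).1 rfl
  obtain ⟨φ, hφ, hφπ, hφk, hφK⟩ := LThreeExt.SL3.exists_hom hq π hπ hkπ hJ hr
  have hφπ' : ∀ x, π (φ x) = pr F x := fun x => hφπ x
  have hπu : π u * π u = 1 := by rw [← map_mul, hu, map_one]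
  have hπv : π v * π v = 1 := by rw [← map_mul, hv, map_one]
  have hπu1 : π u ≠ 1 := fun h => hu1 (eq_one_of_ker hodd hu h)
  have hπv1 : π v ≠ 1 := fun h => hv1 (eq_one_of_ker hodd hv h)
  have huv2 : (u * v) * (u * v) = 1 := by
    calc (u * v) * (u * v) = u * (v * u) * v := by group
      _ = u * (u * v) * v := by rw [hc]
      _ = (u * u) * (v * v) := by group
      _ = 1 := by rw [hu, hv, one_mul]
  have hπuv : π u ≠ π v := by
    intro h
    apply huv
    have h4 : u * v = 1 := eq_one_of_ker hodd huv2 (by rw [map_mul, h, hπv])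
    calc u = u * v * v := by rw [mul_assoc, hv, mul_one]
      _ = v := by rw [h4, one_mul]
  have hπc : π u * π v = π v * π u := by rw [← map_mul, hc, map_mul]
  obtain ⟨g, hg1, hg2⟩ := LThreeModel.SL3.exists_conj h2 hπu hπv hπu1 hπv1 hπuv hπc (a := 2) (b := 1) (by decide)
  have hg3 : g * π (u * v) * g⁻¹ = pr F (dg 0) := by
    have h4 : (dg 2 : S3 F) * dg 1 = dg 0 := dg_mul (by decide) (by decide) (by decide)
    rw [← h4, map_mul, map_mul, ← hg1, ← hg2]; group
  obtain ⟨γ, rfl⟩ := LThreeModel.SL3.pr_surj g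
  have key : ∀ {K : Subgroup J} {a b : Fin 3}, a ≠ b → IsK (Fintype.card F) K →
      ((K.map π).map (MulAut.conj (pr F γ)).toMonoidHom = (std a b : Subgroup (S3 F)).map (pr F)) →
      (std a b : Subgroup (S3 F)).map φ = K.map (MulAut.conj (φ γ)).toMonoidHom := by
    intro K a b hab hK hKc
    apply hφK a b hab
    · rw [← Subgroup.map_commutator, hK.perf]
    · rw [Subgroup.map_map]
      refine Eq.trans ?_ hKc
      rw [Subgroup.map_map]
      congr 1
      ext x
      change π (φ γ * x * (φ γ)⁻¹) = pr F γ * π x * (pr F γ)⁻¹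
      rw [map_mul, map_mul, map_inv, hφπ']
  have key2 : ∀ {c : Fin 3} {w : J}, w * w = 1 → pr F γ * π w * (pr F γ)⁻¹ = pr F (dg c) →
      φ (dg c) = φ γ * w * (φ γ)⁻¹ := by
    intro c w hw hc
    have h4 : π (φ (dg c) * (φ γ * w * (φ γ)⁻¹)⁻¹) = 1 := by
      rw [map_mul, map_inv, map_mul, map_mul, map_inv, hφπ', hφπ']
      exact mul_inv_eq_one.2 hc.symm
    have h5 : φ (dg c) * (φ γ * w * (φ γ)⁻¹)⁻¹ ∈ center J := hkπ h4
    have h6 : (φ (dg c)) * (φ (dg c)) = 1 := by rw [← map_mul, dg_sq, map_one]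
    have h7 : (φ γ * w * (φ γ)⁻¹) * (φ γ * w * (φ γ)⁻¹) = 1 := by
      calc (φ γ * w * (φ γ)⁻¹) * (φ γ * w * (φ γ)⁻¹) = φ γ * (w * w) * (φ γ)⁻¹ := by group
        _ = 1 := by rw [hw]; group
    set s := φ (dg c)
    set t := φ γ * w * (φ γ)⁻¹
    have h8 : t⁻¹ = t := inv_eq_of_mul_eq_one_left h7
    have h9 : (s * t⁻¹) * (s * t⁻¹) = 1 := by
      have h10 := mem_center_iff.1 h5 s
      calc (s * t⁻¹) * (s * t⁻¹) = (s * t⁻¹ * s) * t⁻¹ := by group
        _ = (s * (s * t⁻¹)) * t⁻¹ := by rw [h10]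
        _ = (s * s) * (t⁻¹ * t⁻¹) := by group
        _ = 1 := by rw [h6, h8, h7, one_mul]
    have h11 := eq_one_of_ker hodd h9 h4
    exact mul_inv_eq_one.1 h11
  have key3 : ∀ {K : Subgroup J} {a b : Fin 3}, a ≠ b → IsK (Fintype.card F) K →
      ((K.map π).map (MulAut.conj (pr F γ)).toMonoidHom = (std a b : Subgroup (S3 F)).map (pr F)) →
      (std a b : Subgroup (S3 F)).map ((MulAut.conj (φ γ)⁻¹).toMonoidHom.comp φ) = K := by
    intro K a b hab hK hKc
    rw [← Subgroup.map_map, key hab hK hKc, Subgroup.map_map]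
    have : (MulAut.conj (φ γ)⁻¹).toMonoidHom.comp (MulAut.conj (φ γ)).toMonoidHom = MonoidHom.id J := by
      ext x
      change (φ γ)⁻¹ * (φ γ * x * (φ γ)⁻¹) * (φ γ)⁻¹⁻¹ = x
      group
    rw [this, Subgroup.map_id]
  have key4 : ∀ {c : Fin 3} {w : J}, w * w = 1 → pr F γ * π w * (pr F γ)⁻¹ = pr F (dg c) →
      ((MulAut.conj (φ γ)⁻¹).toMonoidHom.comp φ) (dg c) = w := by
    intro c w hw hc
    change (φ γ)⁻¹ * φ (dg c) * (φ γ)⁻¹⁻¹ = w
    rw [key2 hw hc]
    group
  refine ⟨(MulAut.conj (φ γ)⁻¹).toMonoidHom.comp φ, ?_, ?_, ?_, ?_, ?_, ?_, ?_⟩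
  · rw [MonoidHom.coe_comp]
    exact (MulAut.conj (φ γ)⁻¹).surjective.comp hφ
  · intro x hx
    have h4 : φ x = 1 := (MulAut.conj (φ γ)⁻¹).injective (by
      rw [map_one]; exact hx)
    exact hφk h4
  · exact key3 (by decide) h1 (map_eq_std h2 hkπ hodd h1 hc1 (by decide) (by decide) (by decide) hg1)
  · exact key3 (by decide) h2' (map_eq_std h2 hkπ hodd h2' hc2 (by decide) (by decide) (by decide) hg2)
  · exact key3 (by decide) h3 (map_eq_std h2 hkπ hodd h3 hc3 (by decide) (by decide) (by decide) hg3)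
  · exact key4 hu hg1
  · exact key4 hv hg2

end Cfsg.Agent.LFourR.LiftPlus
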