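import Cfsg.Agent.LFourR.R2f
import Cfsg.Agent.LFourR.LiftPlus
import Cfsg.Agent.LFourR.LiftMinus
import Cfsg.Agent.LFourR.AssemPlus
import Cfsg.Agent.LFourR.AssemMinus
import Cfsg.Agent.LFour.ConclR

/-!
# Recognition of `PSL(4, q)` and `PSU(4, q)` from the input `Inp`

`Final.concl` : `Inp` and generation imply `LFour.ConclLU G` (with the statements `S0484`, `S0485` as hypotheses).
-/

set_option autoImplicit false

namespace Cfsg.Agent.LFourR.Final

open Subgroup

universe u v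

section lemmas

variable {F : Type*} [Field F] [Fintype F] {G : Type*} [Group G]

theorem cg_perfect {g : G} {L : Subgroup G} (h : ⁅L, L⁆ = L) : ⁅cg g L, cg g L⁆ = cg g L := by
  rw [cg, ← Subgroup.map_commutator, h]

theorem isK [Finite G] {J0 K : Subgroup G} (hK : K ≤ J0) (e0 : Nonempty (K ≃* Matrix.SpecialLinearGroup (Fin 2) F))
    (hp : ⁅K, K⁆ = K) : LiftMinus.IsK (Fintype.card F) (K.subgroupOf J0) := by
  obtain ⟨e0⟩ := e0
  refine LiftMinus.IsK.of_equiv (E := F) Nat.card_eq_fintype_card ((subgroupOfEquivOfLe hK).trans e0) ?_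
  apply Subgroup.map_injective (Subgroup.subtype_injective J0)
  rw [Subgroup.map_commutator, Subgroup.subgroupOf_map_subtype, inf_eq_left.2 hK, hp]

theorem map_subtype_of_le {J0 K : Subgroup G} (hK : K ≤ J0) : (K.subgroupOf J0).map J0.subtype = K := by
  rw [Subgroup.subgroupOf_map_subtype, inf_eq_left.2 hK]

theorem cent_cg {g z : G} {L : Subgroup G} (h : ∀ l ∈ L, z * l = l * z) {x : G} (hx : x ∈ cg g L) :
    x * (g * z * g⁻¹) = (g * z * g⁻¹) * x := by
  rw [mem_cg] at hx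
  have h1 := h _ hx
  calc x * (g * z * g⁻¹) = g * ((g⁻¹ * x * g) * z) * g⁻¹ := by group
    _ = g * (z * (g⁻¹ * x * g)) * g⁻¹ := by rw [h1]
    _ = (g * z * g⁻¹) * x := by group

end lemmas

section main

variable {F : Type v} [Field F] [Fintype F] {G : Type u} [Group G]
variable {N k : ℕ} {z e ρ n1 n2 : G} {L1 L2 U : Subgroup G}

/-- common facts -/
structure Com (F : Type*) [Field F] [Fintype F] {G : Type*} [Group G] (z e g n1 n2 : G) (L1 L2 : Subgroup G) :
    Prop where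
  q3 : 3 < Fintype.card F
  odd : Odd (Fintype.card F)
  zz : z * z = 1
  z_ne : z ≠ 1
  ee : e * e = 1
  e_ne : e ≠ 1
  ze : z * e = e * z
  e_ne_z : e ≠ z
  g_z : g * z * g⁻¹ = e
  g_e : g * e * g⁻¹ = z * e
  z_mem : z ∈ L1
  z_mem2 : z ∈ L2
  z_comm : ∀ x ∈ L1, z * x = x * z
  iso : Nonempty (L1 ≃* Matrix.SpecialLinearGroup (Fin 2) F)
  perf : ⁅L1, L1⁆ = L1
  comm : ∀ x ∈ L1, ∀ y ∈ L2, x * y = y * x
  sw : Swaps g n1 n2 L1 L2
  n1_mem : n1 ∈ L1
  n2_mem : n2 ∈ L2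

theorem Inp.com {ε : ℤ} (H : Inp F ε N k z e ρ n1 n2 L1 L2 U) :
    ∃ g x0 a1 a2 : G, Loc F ε N k z e g x0 a1 a2 L1 L2 ∧ cg g L1 = cg ρ L1 ∧ Com F z e g n1 n2 L1 L2 := by
  obtain ⟨x0, a1, a2, Q, hg⟩ := H.exists_loc
  refine ⟨_, x0, a1, a2, Q, hg, ?_⟩
  exact
    { q3 := H.nums.q3
      odd := H.nums.qodd
      zz := H.zz
      z_ne := H.z_ne
      ee := H.ee
      e_ne := H.e_ne
      ze := H.ze
      e_ne_z := H.e_ne_z
      g_z := Q.g_z
      g_e := Q.g_e
      z_mem := H.z_mem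
      z_mem2 := by rw [← H.n2_sq]; exact mul_mem H.n2_mem H.n2_mem
      z_comm := Q.S1.z_comm
      iso := H.iso1
      perf := Q.S1.perfect
      comm := H.comm
      sw := H.swaps Q hg
      n1_mem := H.n1_mem
      n2_mem := H.n2_mem }

namespace Com

variable {g : G} (C : Com F z e g n1 n2 L1 L2)

include C

theorem le3 : cg (g * g) L1 ≤ L1 ⊔ cg g L1 := by
  intro x hx
  rw [← C.sw.n1_13, mem_cg] at hx
  have h1 : n1 ∈ L1 ⊔ cg g L1 := mem_sup_left C.n1_mem
  have h2 : n1⁻¹ * x * n1 ∈ L1 ⊔ cg g L1 := mem_sup_right hx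
  have e1 : x = n1 * (n1⁻¹ * x * n1) * n1⁻¹ := by group
  rw [e1]
  exact mul_mem (mul_mem h1 h2) (inv_mem h1)

theorem e_mem : e ∈ cg g L1 := by
  rw [← C.g_z]; exact conj_mem_cg C.z_mem

theorem gg_z : (g * g) * z * (g * g)⁻¹ = z * e := by
  calc (g * g) * z * (g * g)⁻¹ = g * (g * z * g⁻¹) * g⁻¹ := by group
    _ = z * e := by rw [C.g_z, C.g_e]

theorem iso_cg (h : G) : Nonempty (cg h L1 ≃* Matrix.SpecialLinearGroup (Fin 2) F) := by
  obtain ⟨e0⟩ := C.iso
  exact ⟨(cgEquiv h L1).symm.trans e0⟩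

theorem h2 : (2 : F) ≠ 0 := AutTorus.two_ne_zero' C.odd

/-- `ε = 1` -/
theorem psl4 [Finite G] [IsSimpleGroup G] (hgen : L1 ⊔ L2 ⊔ cg g L1 = ⊤)
    (hπ : ∃ π : (L1 ⊔ cg g L1 : Subgroup G) →* Matrix.ProjectiveSpecialLinearGroup (Fin 3) F, Function.Surjective π ∧
      π.ker ≤ center _ ∧ commutator (L1 ⊔ cg g L1 : Subgroup G) = ⊤ ∧
      (∀ r : ℕ, r.Prime → r ∣ Nat.card π.ker → r ≠ 2 ∧ r ∣ Fintype.card F - 1)) :
    Nonempty (G ≃* Matrix.ProjectiveSpecialLinearGroup (Fin 4) F) := by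
  set J0 : Subgroup G := L1 ⊔ cg g L1 with hJ0
  obtain ⟨π, hπs, hπk, hJ, hr⟩ := hπ
  have l1 : L1 ≤ J0 := le_sup_left
  have l2 : cg g L1 ≤ J0 := le_sup_right
  have l3 : cg (g * g) L1 ≤ J0 := C.le3
  have hz : z ∈ J0 := l1 C.z_mem
  have he : e ∈ J0 := l2 C.e_mem
  obtain ⟨φ, hφs, hφk, f01, f02, f12, -, -⟩ := LiftPlus.exists_frame C.q3 C.h2 π hπs hπk hJ hr
    (u := (⟨z, hz⟩ : J0)) (v := ⟨e, he⟩) (Subtype.ext C.zz) (Subtype.ext C.ee)
    (fun h => C.z_ne (congrArg Subtype.val h)) (fun h => C.e_ne (congrArg Subtype.val h))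
    (fun h => C.e_ne_z (congrArg Subtype.val h).symm) (Subtype.ext C.ze)
    (isK l1 C.iso C.perf) (isK l2 (C.iso_cg _) (cg_perfect C.perf)) (isK l3 (C.iso_cg _) (cg_perfect C.perf))
    (by
      intro x hx
      rw [mem_centralizer_singleton_iff]
      exact Subtype.ext (C.z_comm _ (mem_subgroupOf.1 hx)).symm)
    (by
      intro x hx
      rw [mem_centralizer_singleton_iff]
      have h1 := cent_cg C.z_comm (mem_subgroupOf.1 hx)
      rw [C.g_z] at h1
      exact Subtype.ext h1)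
    (by
      intro x hx
      rw [mem_centralizer_singleton_iff]
      have h1 := cent_cg C.z_comm (mem_subgroupOf.1 hx)
      rw [C.gg_z] at h1
      exact Subtype.ext h1)
  have hIn : AssemPlus.In (J0.subtype.comp φ) L1 L2 g n2 :=
    { ker := by
        intro x hx
        apply hφk
        rw [MonoidHom.mem_ker] at hx ⊢
        exact Subtype.ext hx
      s01 := by rw [← Subgroup.map_map, f01, map_subtype_of_le l1]
      s02 := by rw [← Subgroup.map_map, f02, map_subtype_of_le l2]; rfl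
      s12 := by rw [← Subgroup.map_map, f12, map_subtype_of_le l3]; rfl
      comm := C.comm
      g1 := C.sw.g31
      g2 := C.sw.g32
      n1 := fun x hx => (C.comm x hx n2 C.n2_mem).symm
      n02 := C.sw.n2_13
      n12 := C.sw.n2_23 }
  exact AssemPlus.psl4' hIn (by rw [Nat.card_eq_fintype_card]; exact C.odd) C.n2_mem C.n1_mem C.sw.n1_13 hgen

/-- `ε = -1` -/
theorem psu4 [Finite G] [IsSimpleGroup G] (hgen : L1 ⊔ L2 ⊔ cg g L1 = ⊤) {K : Type*} [Field K] [Fintype K]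
    (hK : Fintype.card K = Fintype.card F ^ 2)
    (hπ : ∃ π : (L1 ⊔ cg g L1 : Subgroup G) →* Cfsg.PSU 3 K (Fintype.card F), Function.Surjective π ∧
      π.ker ≤ center _ ∧ commutator (L1 ⊔ cg g L1 : Subgroup G) = ⊤ ∧
      (∀ r : ℕ, r.Prime → r ∣ Nat.card π.ker → r ≠ 2 ∧ r ∣ Fintype.card F + 1)) :
    Nonempty (G ≃* Cfsg.PSU 4 K (Fintype.card F)) := by
  set J0 : Subgroup G := L1 ⊔ cg g L1 with hJ0
  obtain ⟨π, hπs, hπk, hJ, hr⟩ := hπ
  have l1 : L1 ≤ J0 := le_sup_left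
  have l2 : cg g L1 ≤ J0 := le_sup_right
  have l3 : cg (g * g) L1 ≤ J0 := C.le3
  have hz : z ∈ J0 := l1 C.z_mem
  have he : e ∈ J0 := l2 C.e_mem
  have h2K : (2 : K) ≠ 0 := AutTorus.two_ne_zero' (by rw [hK]; exact C.odd.pow)
  have h5 : 5 ≤ Fintype.card F := by
    have h3 := C.q3
    have := C.odd
    rw [Nat.odd_iff] at this
    omega
  obtain ⟨φ, hφs, hφk, f01, f02, f12, -, -⟩ := LiftMinus.exists_frame hK C.q3 h2K π hπs hπk hJ hr
    (u := (⟨z, hz⟩ : J0)) (v := ⟨e, he⟩) (Subtype.ext C.zz) (Subtype.ext C.ee)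
    (fun h => C.z_ne (congrArg Subtype.val h)) (fun h => C.e_ne (congrArg Subtype.val h))
    (fun h => C.e_ne_z (congrArg Subtype.val h).symm) (Subtype.ext C.ze)
    (isK l1 C.iso C.perf) (isK l2 (C.iso_cg _) (cg_perfect C.perf)) (isK l3 (C.iso_cg _) (cg_perfect C.perf))
    (by
      intro x hx
      rw [mem_centralizer_singleton_iff]
      exact Subtype.ext (C.z_comm _ (mem_subgroupOf.1 hx)).symm)
    (by
      intro x hx
      rw [mem_centralizer_singleton_iff]
      have h1 := cent_cg C.z_comm (mem_subgroupOf.1 hx)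
      rw [C.g_z] at h1
      exact Subtype.ext h1)
    (by
      intro x hx
      rw [mem_centralizer_singleton_iff]
      have h1 := cent_cg C.z_comm (mem_subgroupOf.1 hx)
      rw [C.gg_z] at h1
      exact Subtype.ext h1)
  have hIn : AssemMinus.Inp hK (J0.subtype.comp φ) L1 L2 g n1 n2 z :=
    { ker := by
        intro x hx
        apply hφk
        rw [MonoidHom.mem_ker] at hx ⊢
        exact Subtype.ext hx
      comm := C.comm
      n1_mem := C.n1_mem
      n2_mem := C.n2_mem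
      s01 := by rw [← Subgroup.map_map, f01, map_subtype_of_le l1]
      s02 := by rw [← Subgroup.map_map, f02, map_subtype_of_le l2]; rfl
      s12 := by rw [← Subgroup.map_map, f12, map_subtype_of_le l3, pow_two]; rfl
      g3 := by
        have : g ^ 3 = g * g * g := by rw [pow_succ, pow_two]
        rw [this]; exact C.sw.g32
      n2_swap := by rw [pow_two]; exact C.sw.n2_23
      n2_swap' := by rw [pow_two]; exact C.sw.n2_13
      z_mem1 := C.z_mem
      z_mem2 := C.z_mem2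
      z_sq := C.zz
      z_ne := C.z_ne }
  exact hIn.nonempty_psu' C.odd h5 hgen

end Com

end main

section concl

/-- a field of order `q²` -/
theorem exists_field (F : Type*) [Field F] [Fintype F] :
    ∃ (K : Type) (_ : Field K) (_ : Fintype K), Fintype.card K = Fintype.card F ^ 2 := by
  obtain ⟨p, hp⟩ := CharP.exists F
  have : Fact p.Prime := ⟨CharP.char_is_prime F p⟩
  obtain ⟨n, -, hn⟩ := FiniteField.card F p
  have hn0 : 2 * (n : ℕ) ≠ 0 := by have := n.pos; omega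
  let i : Fintype (GaloisField p (2 * n)) := Fintype.ofFinite _
  refine ⟨GaloisField p (2 * n), inferInstance, i, ?_⟩
  rw [← Nat.card_eq_fintype_card, GaloisField.card p _ hn0, hn, ← pow_mul, mul_comm]

/-- **Recognition of `PSL(4, q)` and `PSU(4, q)`.** -/
theorem concl {F : Type} [Field F] [Fintype F] {G : Type u} [Group G] [Finite G] [IsSimpleGroup G] {ε : ℤ} {N k : ℕ}
    {z e ρ n1 n2 : G} {L1 L2 U : Subgroup G} (H : Inp F ε N k z e ρ n1 n2 L1 L2 U)
    (hgen : L1 ⊔ L2 ⊔ cg ρ L1 = ⊤)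
    (h484 : ∀ (F : Type) [Field F] [Fintype F], St484.{u, 0} F)
    (h485 : ∀ (K : Type) [Field K] [Fintype K] (q : ℕ), St485.{u, 0} K q) : LFour.ConclLU G := by
  obtain ⟨g, x0, a1, a2, Q, hg, C⟩ := Inp.com H
  rw [← hg] at hgen
  rcases H.nums.eps with rfl | rfl
  · left
    exact ⟨F, inferInstance, inferInstance, C.odd, C.psl4 hgen (Q.exists_pi_plus (h484 F))⟩
  · right
    obtain ⟨K, i1, i2, hK⟩ := exists_field F
    exact ⟨K, i1, i2, Fintype.card F, hK, C.odd, C.psu4 hgen hK (Q.exists_pi_minus rfl hK (h485 K _))⟩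

end concl

end Cfsg.Agent.LFourR.Final
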