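import Cfsg.Agent.LFourR.QThreeEnd
import Cfsg.Agent.LFour.ConclR

/-!
# S0510: `|F| = 3` with the refined conclusion

`QThreeEnd.concl`, `QThreeEnd.concl_dwr` with `LFour.ConclLU` (`PSL_4` or `PSU_4`) in place of `LFour.Concl`.
-/

set_option autoImplicit false

namespace Cfsg.Agent.LFourR.QThreeLU

open Subgroup Cfsg
open Cfsg.Agent.LFourR.QThreeEnd Cfsg.Agent.LFourA.CzCt
open Cfsg.Agent.LargeExtra.W2

universe u v

variable {X : Type v} [Group X]

theorem conclLU_of_aa {G : Type u} [Group G] (R : RecAA G) {Q : Subgroup G} {z i j k l x₁ x₂ y s : G}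
    (h : Case9aa Q z i j k l x₁ x₂ y s) : LFour.ConclLU G := by
  by_cases h1 : ∀ g : G, g * z * g⁻¹ ∈ Q → g * z * g⁻¹ = z
  · obtain ⟨F, i1, i2, hF, e⟩ := R.aa Q z i j k l x₁ x₂ y s h h1
    exact Or.inl ⟨F, i1, i2, by rw [hF]; exact ⟨1, rfl⟩, e⟩
  · push Not at h1
    obtain ⟨g, hg, hne⟩ := h1
    obtain ⟨F, i1, i2, hF, e⟩ := R.aa' Q z i j k l x₁ x₂ y s g h hg hne
    exact Or.inr ⟨F, i1, i2, 3, by rw [hF]; norm_num, ⟨1, rfl⟩, e⟩

/-- **[q3], general form** (`z` an involution with `2⁷ ∣ |C(z)|`). -/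
theorem concl {G : Type u} [Group G] [Finite G] [IsSimpleGroup G] (R : RecAA G) (hnc : ¬ IsMulCommutative G)
    {z : G} (hz : orderOf z = 2)
    {F : Type*} [Field F] [Fintype F] (h3 : Fintype.card F = 3) {p : ↥(centralizer ({z} : Set G)) →* X}
    {K₁ K₂ : Subgroup X} (h : CZL z F p K₁ K₂) (hO : centralizerPPrimeCore 2 z = ⊥)
    (h7 : 2 ^ 7 ∣ Nat.card (Subgroup.centralizer ({z} : Set G))) : LFour.ConclLU G := by
  obtain ⟨Q, i, j, k, l, x₁, x₂, y, s, h1⟩ := exists_aa hnc hz h3 h hO h7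
  exact conclLU_of_aa R h1

open Cfsg.Agent.LFourA.Model Cfsg.Agent.LFourA.Base in
/-- **[q3] for type A** (Sylow 2-subgroup `D wr 2`). -/
theorem concl_dwr {G : Type u} [Group G] [Finite G] [IsSimpleGroup G] (R : RecAA G)
    {P : Subgroup G} {k : ℕ} {f : D k → D k → G} {w : G} (hS : DWr P k f w)
    {F : Type*} [Field F] [Fintype F] (h3 : Fintype.card F = 3)
    {p : ↥(centralizer ({f (c k) (c k)} : Set G)) →* X}
    {K₁ K₂ : Subgroup X} (h : CZL (f (c k) (c k)) F p K₁ K₂)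
    (hO : centralizerPPrimeCore 2 (f (c k) (c k)) = ⊥) : LFour.ConclLU G := by
  have hle : P ≤ centralizer ({f (c k) (c k)} : Set G) := by
    intro g hg
    rw [mem_centralizer_singleton_iff]
    rcases mem_cases hS hg with ⟨a, b, rfl⟩ | ⟨a, b, rfl⟩
    · rw [hS.f_mul, hS.f_mul, c_comm, c_comm]
    · rw [fw_mul_f hS, ← mul_assoc, hS.f_mul, c_comm, c_comm]
  refine concl R ?_ ?_ h3 h hO ?_
  · intro hc
    have h1 : f (c k) 1 * w = w * f (c k) 1 := hc.is_comm.comm _ _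
    rw [hS.w_f] at h1
    have h2 := mul_right_cancel h1
    rw [f_eq_iff hS] at h2
    exact c_ne_one h2.1
  · refine orderOf_eq_prime ?_ ?_
    · rw [pow_two, hS.f_mul, c_mul_c, f_one hS]
    · intro h1
      exact c_ne_one (hS.f_inj _ _ h1).1
  · have h1 := Subgroup.card_dvd_of_le hle
    rw [card_S hS] at h1
    exact (Dvd.intro _ rfl : (2 : ℕ) ^ 7 ∣ 128 * 4 ^ k).trans h1

end Cfsg.Agent.LFourR.QThreeLU
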