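import Mathlib
import Cfsg.Agent.LFourA.CzCt
import Cfsg.Agent.Lib.PSL2Mult
import Cfsg.Agent.LFourR.TF

/-!
# Lifting `SL(2,F)` modulo the odd core (S0510)

`p : C(z) → X` with kernel `O = O(C(z))`, `K ≤ X` isomorphic to `SL(2,F)`, `O` inverted by an element `b` that moves the
preimage of `K` to something that commutes with it modulo `O`. Then `L = [p⁻¹(K), p⁻¹(K)]` is isomorphic to `K` and
commutes with `O`.
-/

set_option autoImplicit false

namespace Cfsg.Agent.LFourR.LiftSL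

open Subgroup Cfsg Cfsg.Agent.LFourA.CzCt
open scoped commutatorElement

variable {G X : Type*} [Group G] [Group X]

/-- The lift. -/
def lof {z : G} (p : ↥(centralizer ({z} : Set G)) →* X) (K : Subgroup X) : Subgroup G := ⁅up p K, up p K⁆

/-- The situation. -/
structure Dat {z : G} (F : Type*) [Field F] [Fintype F] (p : ↥(centralizer ({z} : Set G)) →* X) (K : Subgroup X)
    (b : G) : Prop where
  z_ne : z ≠ 1
  zz : z * z = 1
  surj : Function.Surjective p
  ker : ∀ x, p x = 1 ↔ (x : G) ∈ centralizerPPrimeCore 2 z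
  z₁ : p (self z) ∈ K
  iso : Nonempty (K ≃* Matrix.SpecialLinearGroup (Fin 2) F)
  odd : Odd (Fintype.card F)
  three : 3 < Fintype.card F
  nine : Fintype.card F = 9 → ¬ 3 ∣ Nat.card (centralizerPPrimeCore 2 z)
  bz : b * z = z * b
  inv : ∀ o ∈ centralizerPPrimeCore 2 z, b * o * b⁻¹ = o⁻¹
  swap : ∀ x ∈ up p K, ∀ y ∈ up p K, x * (b * y * b⁻¹) * x⁻¹ * (b * y * b⁻¹)⁻¹ ∈ centralizerPPrimeCore 2 z

theorem core_le {z : G} : centralizerPPrimeCore 2 z ≤ centralizer ({z} : Set G) := by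
  rintro _ ⟨x, _, rfl⟩
  exact x.2

theorem core_odd [Finite G] {z o : G} (ho : o ∈ centralizerPPrimeCore 2 z) : Odd (orderOf o) := by
  obtain ⟨x, hx, rfl⟩ := ho
  have h1 : (Nat.card (pPrimeCore 2 ↥(centralizer ({z} : Set G)))).Coprime 2 := Cfsg.Agent.Lib.Cores.pPrimeCore_coprime 2
  have h2 : orderOf x ∣ Nat.card (pPrimeCore 2 ↥(centralizer ({z} : Set G))) := by
    have := orderOf_dvd_natCard (⟨x, hx⟩ : pPrimeCore 2 ↥(centralizer ({z} : Set G)))
    rwa [← Subgroup.orderOf_coe] at this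
  have h3 : orderOf ((centralizer ({z} : Set G)).subtype x) = orderOf x := Subgroup.orderOf_coe x
  rw [h3]
  exact (Nat.coprime_two_right.1 (Nat.Coprime.coprime_dvd_left h2 h1))

theorem core_conj {z : G} {c o : G} (hc : c * z = z * c) (ho : o ∈ centralizerPPrimeCore 2 z) :
    c * o * c⁻¹ ∈ centralizerPPrimeCore 2 z := by
  obtain ⟨x, hx, rfl⟩ := ho
  exact ⟨⟨c, mem_centralizer_singleton_iff.2 hc⟩ * x * ⟨c, mem_centralizer_singleton_iff.2 hc⟩⁻¹,
    (Cfsg.Agent.Lib.Cores.pPrimeCore_normal_inst 2).conj_mem x hx _, rfl⟩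

theorem lof_le_up {z : G} (p : ↥(centralizer ({z} : Set G)) →* X) (K : Subgroup X) : lof p K ≤ up p K := by
  rw [lof, commutator_le]
  intro x hx y hy
  rw [commutatorElement_def]
  exact mul_mem (mul_mem (mul_mem hx hy) (inv_mem hx)) (inv_mem hy)

theorem comm_z {z : G} {p : ↥(centralizer ({z} : Set G)) →* X} {K : Subgroup X} {x : G} (hx : x ∈ up p K) :
    x * z = z * x := mem_centralizer_singleton_iff.1 (up_le p K hx)

namespace Dat

variable {z : G} {F : Type*} [Field F] [Fintype F] {p : ↥(centralizer ({z} : Set G)) →* X} {K : Subgroup X} {b : G}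

variable (h : Dat F p K b)

include h

theorem core_up {o : G} (ho : o ∈ centralizerPPrimeCore 2 z) : o ∈ up p K := by
  refine mem_up.2 ⟨core_le ho, ?_⟩
  rw [(h.ker ⟨o, core_le ho⟩).2 ho]
  exact one_mem _

theorem core_comm {o o' : G} (ho : o ∈ centralizerPPrimeCore 2 z) (ho' : o' ∈ centralizerPPrimeCore 2 z) :
    o * o' = o' * o := by
  have h1 := h.inv _ (mul_mem ho ho')
  have h2 : b * (o * o') * b⁻¹ = b * o * b⁻¹ * (b * o' * b⁻¹) := by group
  rw [h2, h.inv o ho, h.inv o' ho'] at h1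
  have h3 := congrArg (·⁻¹) h1
  simp only [mul_inv_rev, inv_inv] at h3
  exact h3.symm

/-- Commutators with `b` centralise the core. -/
theorem comm_b {g o : G} (hg : g * z = z * g) (ho : o ∈ centralizerPPrimeCore 2 z) :
    (b * g * b⁻¹ * g⁻¹) * o * (b * g * b⁻¹ * g⁻¹)⁻¹ = o := by
  have hgi : g⁻¹ * z = z * g⁻¹ := by
    calc g⁻¹ * z = g⁻¹ * (z * g) * g⁻¹ := by group
      _ = g⁻¹ * (g * z) * g⁻¹ := by rw [hg]
      _ = z * g⁻¹ := by group
  have h1 : g⁻¹ * o * g ∈ centralizerPPrimeCore 2 z := by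
    have := core_conj hgi ho
    rwa [inv_inv] at this
  have h2 : b⁻¹ * (g⁻¹ * o * g) * b = (g⁻¹ * o * g)⁻¹ := by
    have h3 := h.inv _ (inv_mem h1)
    rw [inv_inv] at h3
    calc b⁻¹ * (g⁻¹ * o * g) * b = b⁻¹ * (b * (g⁻¹ * o * g)⁻¹ * b⁻¹) * b := by rw [h3]
      _ = _ := by group
  calc (b * g * b⁻¹ * g⁻¹) * o * (b * g * b⁻¹ * g⁻¹)⁻¹
      = b * (g * (b⁻¹ * (g⁻¹ * o * g) * b) * g⁻¹) * b⁻¹ := by group
    _ = b * o⁻¹ * b⁻¹ := by rw [h2]; group
    _ = o := by
      have h3 := h.inv _ (inv_mem ho)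
      rwa [inv_inv] at h3

/-- The lift commutes with the core. -/
theorem comm_core {l o : G} (hl : l ∈ lof p K) (ho : o ∈ centralizerPPrimeCore 2 z) : o * l = l * o := by
  have key : lof p K ≤ centralizer (centralizerPPrimeCore 2 z : Set G) := by
    rw [lof, commutator_le]
    intro x hx y0 hy0
    obtain ⟨y, hy, rfl⟩ : ∃ y ∈ up p K, y⁻¹ = y0 := ⟨y0⁻¹, inv_mem hy0, inv_inv _⟩
    set y' := b * y * b⁻¹ with hy'
    have hc1 := h.swap x hx y hy
    set c := x * y' * x⁻¹ * y'⁻¹ with hc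
    have hxz := comm_z hx
    have hyz := comm_z hy
    have hy'z : y' * z = z * y' := by
      have hbi : b⁻¹ * z = z * b⁻¹ := by
        calc b⁻¹ * z = b⁻¹ * (z * b) * b⁻¹ := by group
          _ = b⁻¹ * (b * z) * b⁻¹ := by rw [h.bz]
          _ = z * b⁻¹ := by group
      calc y' * z = b * y * (b⁻¹ * z) := by rw [hy']; group
        _ = b * (y * z) * b⁻¹ := by rw [hbi]; group
        _ = b * z * y * b⁻¹ := by rw [hyz]; group
        _ = z * y' := by rw [h.bz, hy']; group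
    -- centralising elements
    have hcen : ∀ o ∈ centralizerPPrimeCore 2 z, (y' * y⁻¹) * o * (y' * y⁻¹)⁻¹ = o := fun o ho => h.comm_b hyz ho
    have hcenx : ∀ o ∈ centralizerPPrimeCore 2 z,
        (x * (y' * y⁻¹) * x⁻¹ * (y' * y⁻¹)⁻¹) * o * (x * (y' * y⁻¹) * x⁻¹ * (y' * y⁻¹)⁻¹)⁻¹ = o := by
      intro o ho
      have hxi : x⁻¹ * z = z * x⁻¹ := comm_z (inv_mem hx)
      have h1 : x⁻¹ * o * x ∈ centralizerPPrimeCore 2 z := by
        have := core_conj hxi ho
        rwa [inv_inv] at this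
      have e1 : (y' * y⁻¹)⁻¹ * o * (y' * y⁻¹) = o := by
        have := hcen o ho
        calc (y' * y⁻¹)⁻¹ * o * (y' * y⁻¹) = (y' * y⁻¹)⁻¹ * ((y' * y⁻¹) * o * (y' * y⁻¹)⁻¹) * (y' * y⁻¹) := by rw [this]
          _ = o := by group
      calc (x * (y' * y⁻¹) * x⁻¹ * (y' * y⁻¹)⁻¹) * o * (x * (y' * y⁻¹) * x⁻¹ * (y' * y⁻¹)⁻¹)⁻¹
          = x * ((y' * y⁻¹) * (x⁻¹ * ((y' * y⁻¹)⁻¹ * o * (y' * y⁻¹)) * x) * (y' * y⁻¹)⁻¹) * x⁻¹ := by group
        _ = x * (x⁻¹ * o * x) * x⁻¹ := by rw [e1, hcen _ h1]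
        _ = o := by group
    rw [mem_centralizer_iff]
    intro o ho
    have ho : o ∈ centralizerPPrimeCore 2 z := ho
    -- `[x, y' y⁻¹] = c y' [x, y⁻¹] y'⁻¹`
    have e2 : ⁅x, y⁻¹⁆ = y'⁻¹ * (c⁻¹ * (x * (y' * y⁻¹) * x⁻¹ * (y' * y⁻¹)⁻¹)) * y' := by
      rw [commutatorElement_def, hc]; group
    have hy'i : y'⁻¹ * z = z * y'⁻¹ := by
      calc y'⁻¹ * z = y'⁻¹ * (z * y') * y'⁻¹ := by group
        _ = y'⁻¹ * (y' * z) * y'⁻¹ := by rw [hy'z]
        _ = z * y'⁻¹ := by group
    have h3 : y' * o * y'⁻¹ ∈ centralizerPPrimeCore 2 z := core_conj hy'z ho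
    have h4 : ⁅x, y⁻¹⁆ * o * ⁅x, y⁻¹⁆⁻¹ = o := by
      rw [e2]
      set d := x * (y' * y⁻¹) * x⁻¹ * (y' * y⁻¹)⁻¹ with hd
      calc y'⁻¹ * (c⁻¹ * d) * y' * o * (y'⁻¹ * (c⁻¹ * d) * y')⁻¹
          = y'⁻¹ * (c⁻¹ * (d * (y' * o * y'⁻¹) * d⁻¹) * c) * y' := by group
        _ = y'⁻¹ * (c⁻¹ * (y' * o * y'⁻¹) * c) * y' := by rw [hcenx _ h3]
        _ = y'⁻¹ * (c⁻¹ * (c * (y' * o * y'⁻¹))) * y' := by
            rw [mul_assoc c⁻¹, h.core_comm h3 hc1]
        _ = o := by group
    calc o * ⁅x, y⁻¹⁆ = (⁅x, y⁻¹⁆ * o * ⁅x, y⁻¹⁆⁻¹) * ⁅x, y⁻¹⁆ := by rw [h4]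
      _ = ⁅x, y⁻¹⁆ * o := by group
  exact mem_centralizer_iff.1 (key hl) o ho

omit h in
theorem K_perfect (iso : Nonempty (K ≃* Matrix.SpecialLinearGroup (Fin 2) F)) (three : 3 < Fintype.card F) :
    ⁅K, K⁆ = K := by
  obtain ⟨e0⟩ := iso
  have h1 := Cfsg.Agent.TwoFusion.SLTwoFacts.commutator_eq_top (F := F) three
  have h2 : (commutator K).map e0.toMonoidHom = ⊤ := by
    rw [commutator_def, Subgroup.map_commutator, ← MonoidHom.range_eq_map,
      MonoidHom.range_eq_top.2 e0.surjective, ← commutator_def, h1]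
  have h3 : commutator K = ⊤ := by
    rw [eq_top_iff]
    intro x _
    have h3 : e0 x ∈ (commutator K).map e0.toMonoidHom := by rw [h2]; trivial
    obtain ⟨y, hy, hyx⟩ := h3
    have : y = x := e0.injective hyx
    exact this ▸ hy
  have h4 := congrArg (Subgroup.map K.subtype) h3
  rw [commutator_def, map_commutator, ← MonoidHom.range_eq_map, Subgroup.range_subtype] at h4
  exact h4

/-- The lift maps onto `K`. -/
theorem exists_lof {k : X} (hk : k ∈ K) : ∃ l : G, ∃ hl : l ∈ centralizer ({z} : Set G), l ∈ lof p K ∧ p ⟨l, hl⟩ = k := by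
  rw [← K_perfect h.iso h.three, Subgroup.commutator_def] at hk
  induction hk using closure_induction with
  | mem x hx =>
    obtain ⟨a, ha, b, hb, rfl⟩ := hx
    obtain ⟨a', rfl⟩ := h.surj a
    obtain ⟨b', rfl⟩ := h.surj b
    refine ⟨⁅(a' : G), (b' : G)⁆, ?_, commutator_mem_commutator (mem_up.2 ⟨a'.2, ha⟩) (mem_up.2 ⟨b'.2, hb⟩), ?_⟩
    · exact (⁅a', b'⁆ : ↥(centralizer ({z} : Set G))).2
    · rw [← map_commutatorElement]; rfl
  | one => exact ⟨1, one_mem _, one_mem _, map_one p⟩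
  | mul x y _ _ hx hy =>
    obtain ⟨l, hl, hl', rfl⟩ := hx
    obtain ⟨m, hm, hm', rfl⟩ := hy
    exact ⟨l * m, mul_mem hl hm, mul_mem hl' hm', by rw [← map_mul]; rfl⟩
  | inv x _ hx =>
    obtain ⟨l, hl, hl', rfl⟩ := hx
    exact ⟨l⁻¹, inv_mem hl, inv_mem hl', by rw [← map_inv]; rfl⟩

/-- `p⁻¹(K) = L O`. -/
theorem exists_mul {g : G} (hg : g ∈ up p K) : ∃ l ∈ lof p K, ∃ o ∈ centralizerPPrimeCore 2 z, g = l * o := by
  obtain ⟨hgz, hgK⟩ := mem_up.1 hg
  obtain ⟨l, hlz, hl, e⟩ := h.exists_lof hgK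
  refine ⟨l, hl, l⁻¹ * g, ?_, by group⟩
  have h1 : p (⟨l, hlz⟩⁻¹ * ⟨g, hgz⟩) = 1 := by rw [map_mul, map_inv, e, inv_mul_cancel]
  exact (h.ker _).1 h1

theorem perfect : ⁅lof p K, lof p K⁆ = lof p K := by
  apply le_antisymm
  · rw [commutator_le]
    intro x hx y hy
    rw [commutatorElement_def]
    exact mul_mem (mul_mem (mul_mem hx hy) (inv_mem hx)) (inv_mem hy)
  · conv_lhs => rw [lof]
    rw [commutator_le]
    intro x hx y hy
    obtain ⟨l, hl, o, ho, rfl⟩ := h.exists_mul hx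
    obtain ⟨m, hm, o', ho', rfl⟩ := h.exists_mul hy
    have e : ⁅l * o, m * o'⁆ = ⁅l, m⁆ := by
      rw [commutatorElement_def, commutatorElement_def]
      have h1 := h.comm_core hl ho
      have h2 := h.comm_core hm ho
      have h3 := h.comm_core hl ho'
      have h4 := h.comm_core hm ho'
      have h5 := h.core_comm ho ho'
      have h6 : (l * o) * (m * o') = (l * m) * (o * o') := by
        calc (l * o) * (m * o') = l * (o * m) * o' := by group
          _ = l * (m * o) * o' := by rw [h2]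
          _ = _ := by group
      have h7 : (m * o') * (l * o) = (m * l) * (o * o') := by
        calc (m * o') * (l * o) = m * (o' * l) * o := by group
          _ = m * (l * o') * o := by rw [h3]
          _ = (m * l) * (o' * o) := by group
          _ = _ := by rw [h5]
      calc l * o * (m * o') * (l * o)⁻¹ * (m * o')⁻¹ = ((l * o) * (m * o')) * ((m * o') * (l * o))⁻¹ := by group
        _ = ((l * m) * (o * o')) * ((m * l) * (o * o'))⁻¹ := by rw [h6, h7]
        _ = l * m * l⁻¹ * m⁻¹ := by group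
    rw [e]
    exact commutator_mem_commutator hl hm

/-- The restriction of `p` to the lift. -/
def theta : lof p K →* K :=
  (p.comp (Subgroup.inclusion ((lof_le_up p K).trans (up_le p K)))).codRestrict K (fun x => by
    obtain ⟨_, hx⟩ := mem_up.1 (lof_le_up p K x.2)
    exact hx)

omit h in
theorem theta_coe (x : lof p K) (hx : (x : G) ∈ centralizer ({z} : Set G)) : ((theta x : K) : X) = p ⟨x, hx⟩ := rfl

theorem theta_surj : Function.Surjective (theta (p := p) (K := K)) := by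
  rintro ⟨k, hk⟩
  obtain ⟨l, hlz, hl, e⟩ := h.exists_lof hk
  exact ⟨⟨l, hl⟩, Subtype.ext e⟩

theorem commutator_top : commutator (lof p K) = ⊤ := by
  apply Subgroup.map_injective (lof p K).subtype_injective
  rw [Subgroup.map_subtype_commutator, h.perfect, ← MonoidHom.range_eq_map, Subgroup.range_subtype]

theorem two_ne : (2 : F) ≠ 0 := (Cfsg.Agent.ClassicalGeometry.PSLTorus.two_ne_zero_iff_odd F).2 h.odd

theorem z_not_core [Finite G] : z ∉ centralizerPPrimeCore 2 z := by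
  intro hz
  have h1 := core_odd hz
  have h2 : orderOf z = 2 := orderOf_eq_prime (by rw [pow_two, h.zz]) h.z_ne
  rw [h2] at h1
  exact absurd h1 (by decide)

theorem pz_ne [Finite G] : p (self z) ≠ 1 := fun h1 => h.z_not_core ((h.ker _).1 h1)

theorem inf_core [Finite G] {l : G} (hl : l ∈ lof p K) (hlo : l ∈ centralizerPPrimeCore 2 z) : l = 1 := by
  obtain ⟨e0⟩ := h.iso
  let f : lof p K →* Matrix.ProjectiveSpecialLinearGroup (Fin 2) F :=
    (QuotientGroup.mk' (center (Matrix.SpecialLinearGroup (Fin 2) F))).comp (e0.toMonoidHom.comp theta)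
  have hf : Function.Surjective f :=
    (QuotientGroup.mk'_surjective _).comp (e0.surjective.comp h.theta_surj)
  have hker : ∀ x : lof p K, f x = 1 → (x : G) ∈ centralizerPPrimeCore 2 z ∨ (x : G) * z ∈ centralizerPPrimeCore 2 z := by
    intro x hx
    have h1 : e0 (theta x) ∈ center (Matrix.SpecialLinearGroup (Fin 2) F) := (QuotientGroup.eq_one_iff _).1 hx
    have hxz : (x : G) ∈ centralizer ({z} : Set G) := up_le p K (lof_le_up p K x.2)
    rcases sl_center (e0 (theta x)) (fun y => (Subgroup.mem_center_iff.1 h1 y).symm) with h2 | h2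
    · left
      have h3 : theta x = 1 := e0.injective (by rw [h2, map_one])
      have h4 : p ⟨x, hxz⟩ = 1 := by rw [← theta_coe x hxz, h3]; rfl
      exact (h.ker _).1 h4
    · right
      have h5 : e0 ⟨p (self z), h.z₁⟩ = -1 := by
        rcases Cfsg.Agent.ClassicalGeometry.PSL2ElemOrder.eq_one_or_of_sq h.two_ne (e0 ⟨p (self z), h.z₁⟩) (by
          rw [← map_mul]
          have : (⟨p (self z), h.z₁⟩ : K) * ⟨p (self z), h.z₁⟩ = 1 := by
            apply Subtype.ext
            show p (self z) * p (self z) = 1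
            rw [← map_mul]
            have : self z * self z = 1 := Subtype.ext h.zz
            rw [this, map_one]
          rw [this, map_one]) with h6 | h6
        · exfalso
          apply h.pz_ne
          have h7 : (⟨p (self z), h.z₁⟩ : K) = 1 := e0.injective (by rw [h6, map_one])
          exact congrArg Subtype.val h7
        · exact h6
      have h3 : theta x = ⟨p (self z), h.z₁⟩ := e0.injective (by rw [h2, h5])
      have h4 : p (⟨x, hxz⟩ * self z) = 1 := by
        rw [map_mul, ← theta_coe x hxz, h3]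
        show p (self z) * p (self z) = 1
        rw [← map_mul]
        have : self z * self z = 1 := Subtype.ext h.zz
        rw [this, map_one]
      exact (h.ker _).1 h4
  have hc : f.ker ≤ center (lof p K) := by
    intro x hx
    rw [Subgroup.mem_center_iff]
    intro y
    apply Subtype.ext
    show (y : G) * x = x * y
    rcases hker x hx with h1 | h1
    · exact (h.comm_core y.2 h1).symm
    · have h2 := h.comm_core y.2 h1
      have h3 : (y : G) * z = z * y := comm_z (lof_le_up p K y.2)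
      have h4 : (x : G) = (x * z) * z := by rw [mul_assoc, h.zz, mul_one]
      rw [h4]
      calc (y : G) * (x * z * z) = (y * (x * z)) * z := by group
        _ = ((x * z) * y) * z := by rw [h2]
        _ = (x * z) * (y * z) := by group
        _ = (x * z) * (z * y) := by rw [h3]
        _ = x * z * z * y := by group
  by_contra hne
  have h1 : orderOf l ≠ 1 := fun h1 => hne (orderOf_eq_one_iff.1 h1)
  obtain ⟨r, hr, hrl⟩ := Nat.exists_prime_and_dvd h1
  have hodd := core_odd hlo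
  have hr2 : r ≠ 2 := by
    rintro rfl
    exact (Nat.not_even_iff_odd.2 hodd) (even_iff_two_dvd.2 hrl)
  have := Fact.mk hr
  have hnd : ¬ r ∣ Nat.card f.ker := by
    by_cases h9 : Fintype.card F = 9
    · have hr3 : r ≠ 3 := by
        rintro rfl
        apply h.nine h9
        have h3 := orderOf_dvd_natCard (⟨l, hlo⟩ : centralizerPPrimeCore 2 z)
        rw [Subgroup.orderOf_mk] at h3
        exact hrl.trans h3
      have hrF : ¬ r ∣ Fintype.card F := by
        rw [h9]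
        intro h3
        have h4 : r ∣ 3 ^ 2 := by norm_num; exact h3
        exact hr3 ((Nat.prime_dvd_prime_iff_eq hr Nat.prime_three).1 (hr.dvd_of_dvd_pow h4))
      have hG : commutator (Matrix.ProjectiveSpecialLinearGroup (Fin 2) F) = ⊤ := by
        rw [eq_top_iff]
        have h4 : (commutator (lof p K)).map f = ⊤ := by
          rw [h.commutator_top, ← MonoidHom.range_eq_map, MonoidHom.range_eq_top.2 hf]
        rw [← h4, commutator_def, commutator_def, map_commutator]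
        exact commutator_mono le_top le_top
      exact Cfsg.Agent.S0102.result hG
        (fun P => Cfsg.Agent.Lib.PSL2Mult.isCyclic_sylow_psl h.odd hr2 hrF P) f hf hc h.commutator_top
    · exact Cfsg.Agent.Lib.PSL2Mult.not_dvd_ker h.odd h.three h9 hf hc h.commutator_top hr2
  apply hnd
  have hlf : (⟨l, hl⟩ : lof p K) ∈ f.ker := by
    rw [MonoidHom.mem_ker]
    have h2 : theta (p := p) (K := K) ⟨l, hl⟩ = 1 := by
      apply Subtype.ext
      rw [theta_coe ⟨l, hl⟩ (core_le hlo)]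
      exact (h.ker _).2 hlo
    show QuotientGroup.mk' (center (Matrix.SpecialLinearGroup (Fin 2) F)) (e0 (theta ⟨l, hl⟩)) = 1
    rw [h2, map_one, map_one]
  have h3 : orderOf (⟨⟨l, hl⟩, hlf⟩ : f.ker) = orderOf l := by
    rw [← Subgroup.orderOf_coe, ← Subgroup.orderOf_coe]
  rw [← h3] at hrl
  exact hrl.trans (orderOf_dvd_natCard _)

theorem theta_inj [Finite G] : Function.Injective (theta (p := p) (K := K)) := by
  rw [injective_iff_map_eq_one]
  intro x hx
  have hxz : (x : G) ∈ centralizer ({z} : Set G) := up_le p K (lof_le_up p K x.2)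
  apply Subtype.ext
  refine h.inf_core x.2 ((h.ker ⟨x, hxz⟩).1 ?_)
  rw [← theta_coe x hxz, hx]
  rfl

/-- `L ≃* K`. -/
theorem nonempty_equiv [Finite G] : Nonempty (lof p K ≃* K) :=
  ⟨MulEquiv.ofBijective theta ⟨h.theta_inj, h.theta_surj⟩⟩

theorem iso_lof [Finite G] : Nonempty (lof p K ≃* Matrix.SpecialLinearGroup (Fin 2) F) := by
  obtain ⟨e⟩ := h.nonempty_equiv
  obtain ⟨e0⟩ := h.iso
  exact ⟨e.trans e0⟩

/-- `2`-elements of `p⁻¹(K)` lie in the lift. -/
theorem mem_of_pow [Finite G] {x : G} (hx : x ∈ up p K) {m : ℕ} (hm : x ^ 2 ^ m = 1) : x ∈ lof p K := by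
  obtain ⟨l, hl, o, ho, rfl⟩ := h.exists_mul hx
  have h1 : Commute l o := (h.comm_core hl ho).symm
  rw [h1.mul_pow] at hm
  have h2 : o ^ 2 ^ m = (l ^ 2 ^ m)⁻¹ := by
    rw [eq_inv_iff_mul_eq_one, ← hm]
    exact ((h1.pow_pow _ _).eq).symm
  have h3 : o ^ 2 ^ m = 1 := h.inf_core (by rw [h2]; exact inv_mem (pow_mem hl _)) (pow_mem ho _)
  have h4 : o = 1 := by
    have h5 : orderOf o ∣ 2 ^ m := orderOf_dvd_of_pow_eq_one h3
    have h6 : (orderOf o).Coprime (2 ^ m) := Nat.Coprime.pow_right _ ((Nat.coprime_two_right).2 (core_odd ho))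
    exact orderOf_eq_one_iff.1 (Nat.Coprime.eq_one_of_dvd h6 h5)
  rw [h4, mul_one]
  exact hl

theorem z_up : z ∈ up p K := mem_up.2 ⟨mem_centralizer_singleton_iff.2 rfl, h.z₁⟩

theorem z_mem [Finite G] : z ∈ lof p K := h.mem_of_pow h.z_up (m := 1) (by rw [pow_one, pow_two, h.zz])

end Dat

/-- Conjugation maps lifts to lifts. -/
theorem conj_lof {z : G} {p : ↥(centralizer ({z} : Set G)) →* X} {K K' : Subgroup X} {g : G}
    (hg : ∀ x ∈ up p K, g * x * g⁻¹ ∈ up p K') {l : G} (hl : l ∈ lof p K) : g * l * g⁻¹ ∈ lof p K' := by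
  rw [lof, Subgroup.commutator_def] at hl
  induction hl using closure_induction with
  | mem x hx =>
    obtain ⟨a, ha, b, hb, rfl⟩ := hx
    have e : g * ⁅a, b⁆ * g⁻¹ = ⁅g * a * g⁻¹, g * b * g⁻¹⁆ := by
      rw [commutatorElement_def, commutatorElement_def]; group
    rw [e]
    exact commutator_mem_commutator (hg a ha) (hg b hb)
  | one => simp
  | mul x y _ _ hx hy =>
    have e : g * (x * y) * g⁻¹ = (g * x * g⁻¹) * (g * y * g⁻¹) := by group
    rw [e]; exact mul_mem hx hy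
  | inv x _ hx =>
    have e : g * x⁻¹ * g⁻¹ = (g * x * g⁻¹)⁻¹ := by group
    rw [e]; exact inv_mem hx

/-- If the preimages commute modulo the core, the lifts commute. -/
theorem comm_lof {z : G} {F : Type*} [Field F] [Fintype F] {p : ↥(centralizer ({z} : Set G)) →* X} {K K' : Subgroup X}
    {b : G} (h : Dat F p K b) (hc : ∀ x ∈ K, ∀ y ∈ K', x * y = y * x) {x y : G}
    (hx : x ∈ lof p K) (hy : y ∈ lof p K') : x * y = y * x := by
  have hco : ∀ x ∈ lof p K, x * y * x⁻¹ * y⁻¹ ∈ centralizerPPrimeCore 2 z := by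
    intro x hx
    obtain ⟨hx1, hx2⟩ := mem_up.1 (lof_le_up p K hx)
    obtain ⟨hy1, hy2⟩ := mem_up.1 (lof_le_up p K' hy)
    have h1 : p (⟨x, hx1⟩ * ⟨y, hy1⟩ * ⟨x, hx1⟩⁻¹ * ⟨y, hy1⟩⁻¹) = 1 := by
      rw [map_mul, map_mul, map_mul, map_inv, map_inv, hc _ hx2 _ hy2]; group
    exact (h.ker _).1 h1
  -- `x ↦ [x, y]` is a homomorphism into the core, which is abelian
  let χ : lof p K →* centralizerPPrimeCore 2 z :=
    { toFun := fun x => ⟨x * y * (x : G)⁻¹ * y⁻¹, hco x x.2⟩
      map_one' := by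
        apply Subtype.ext
        show (1 : G) * y * (1 : G)⁻¹ * y⁻¹ = 1
        group
      map_mul' := by
        intro a b
        apply Subtype.ext
        show (a : G) * b * y * ((a : G) * b)⁻¹ * y⁻¹ = (a * y * (a : G)⁻¹ * y⁻¹) * (b * y * (b : G)⁻¹ * y⁻¹)
        have h1 := h.comm_core a.2 (hco b b.2)
        calc (a : G) * b * y * ((a : G) * b)⁻¹ * y⁻¹
            = (a : G) * (b * y * (b : G)⁻¹ * y⁻¹) * (y * (a : G)⁻¹ * y⁻¹) := by group
          _ = (b * y * (b : G)⁻¹ * y⁻¹) * a * (y * (a : G)⁻¹ * y⁻¹) := by rw [h1]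
          _ = (b * y * (b : G)⁻¹ * y⁻¹) * (a * y * (a : G)⁻¹ * y⁻¹) := by group
          _ = _ := h.core_comm (hco b b.2) (hco a a.2) }
  have hcomm : ∀ a b : lof p K, χ ⁅a, b⁆ = 1 := by
    intro a b
    rw [map_commutatorElement, commutatorElement_def]
    have h1 : χ a * χ b = χ b * χ a := Subtype.ext (h.core_comm (χ a).2 (χ b).2)
    rw [h1]; group
  have h1 : (⊤ : Subgroup (lof p K)) ≤ χ.ker := by
    rw [← h.commutator_top, commutator_def, commutator_le]
    intro a _ b _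
    exact hcomm a b
  have h2 : χ ⟨x, hx⟩ = 1 := h1 (Subgroup.mem_top _)
  have h3 : x * y * x⁻¹ * y⁻¹ = 1 := congrArg Subtype.val h2
  calc x * y = (x * y * x⁻¹ * y⁻¹) * (y * x) := by group
    _ = y * x := by rw [h3, one_mul]

end Cfsg.Agent.LFourR.LiftSL
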