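import Cfsg.Agent.LFourR.InpA
import Cfsg.Agent.Dichotomy.CoreTools

/-!
# `Pre` in case I
-/

set_option autoImplicit false

namespace Cfsg.Agent.LFourR.InpA

open Subgroup Cfsg DihedralGroup Cfsg.Agent.LFourA.Model Cfsg.Agent.LFourA.Base Cfsg.Agent.LFourA.Defs
open Cfsg.Agent.LFourA.Facts Cfsg.Agent.LFourR.CloseA
open Cfsg.Agent.LFourA.LCent (LCent)

section nums

variable {F : Type*} [Field F] [Fintype F]

/-- the numbers `ε` and `N` -/
def NN (F : Type*) [Fintype F] (ε : ℤ) (N : ℕ) : Prop :=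
  (Fintype.card F % 4 = 1 ∧ ε = -1 ∧ N * 2 = Fintype.card F + 1) ∨
    (Fintype.card F % 4 = 3 ∧ ε = 1 ∧ N * 2 = Fintype.card F - 1)

theorem exists_nums (hq : Odd (Fintype.card F)) (h3 : 3 < Fintype.card F) :
    ∃ (ε : ℤ) (N : ℕ), Nums F ε N 1 ∧ NN F ε N := by
  have h2 : Fintype.card F % 2 = 1 := Nat.odd_iff.1 hq
  rcases (by omega : Fintype.card F % 4 = 1 ∨ Fintype.card F % 4 = 3) with h | h
  · refine ⟨-1, (Fintype.card F + 1) / 2, ⟨Or.inr rfl, ?_, by omega, hq, h3, ?_, ?_⟩, Or.inl ⟨h, rfl, by omega⟩⟩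
    · rw [Nat.odd_iff]; omega
    · push_cast; omega
    · intro hh; exact absurd hh (by decide)
  · refine ⟨1, (Fintype.card F - 1) / 2, ⟨Or.inl rfl, ?_, by omega, hq, h3, ?_, ?_⟩, Or.inr ⟨h, rfl, by omega⟩⟩
    · rw [Nat.odd_iff]; omega
    · push_cast; omega
    · rintro - ⟨m, hm⟩
      rw [hm] at h
      have h4 : ∀ u : ZMod 4, u * u ≠ 3 := by decide
      apply h4 m
      have := (ZMod.natCast_eq_natCast_iff' (m * m) 3 4).2 (by omega)
      push_cast at this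
      exact this

end nums

section cyc

variable {F : Type*} [Field F] [Fintype F] {G : Type*} [Group G]

theorem cyc_card {L : Subgroup G} (e0 : L ≃* Matrix.SpecialLinearGroup (Fin 2) F) (hq : Odd (Fintype.card F))
    {z e : G} (he : cg e L = L) (hee : e * e = 1) (hz : z ∈ L) (hzz : z * z = 1) (hz1 : z ≠ 1)
    (hno : ∀ x ∈ L, x * x = z → x * e ≠ e * x) {ε : ℤ} {N : ℕ} (hN : NN F ε N) :
    IsCyclic (L ⊓ centralizer {e} : Subgroup G) ∧ Nat.card (L ⊓ centralizer {e} : Subgroup G) = N * 2 ^ 1 := by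
  have h2 : (2 : F) ≠ 0 := AutTorus.two_ne_zero' hq
  have he' : e ∈ normalizer (L : Set G) := mem_normalizer_iff_cg.2 he
  have hez : e0 ⟨z, hz⟩ = -1 := by
    rcases Cfsg.Agent.Lib.PSL2Inv.sq_eq_one h2 (x := e0 ⟨z, hz⟩) (by
      rw [← map_mul]
      have : (⟨z, hz⟩ * ⟨z, hz⟩ : L) = 1 := Subtype.ext hzz
      rw [this, map_one]) with h | h
    · exfalso
      have h1 : (⟨z, hz⟩ : L) = 1 := e0.injective (by rw [h, map_one])
      exact hz1 (congrArg Subtype.val h1)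
    · exact h
  set α := MulAut.congr e0 (nact L he') with hα
  have hα1 : ∀ x : L, α (e0 x) = e0 (nact L he' x) := by
    intro x
    change e0 (nact L he' (e0.symm (e0 x))) = _
    rw [e0.symm_apply_apply]
  have hnn : ∀ x : L, nact L he' (nact L he' x) = x := by
    intro x
    apply Subtype.ext
    rw [coe_nact, coe_nact]
    have : e * (e * (x : G) * e⁻¹) * e⁻¹ = (e * e) * x * (e * e)⁻¹ := by group
    rw [this, hee]; group
  have hfix : ∀ x : L, nact L he' x = x ↔ (x : G) * e = e * x := by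
    intro x
    rw [← Subtype.val_inj, coe_nact, mul_inv_eq_iff_eq_mul]
    exact eq_comm
  set T := ((centralizer ({e} : Set G)).subgroupOf L).map e0.toMonoidHom with hT
  have hTmem : ∀ x, x ∈ T ↔ α x = x := by
    intro x
    obtain ⟨y, rfl⟩ := e0.surjective x
    rw [hα1, e0.injective.eq_iff, hfix, hT]
    constructor
    · rintro ⟨y', hy', h1⟩
      have h3 : y' = y := e0.injective h1
      rw [h3] at hy'
      exact mem_centralizer_singleton_iff.1 (mem_subgroupOf.1 hy')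
    · intro h1
      exact ⟨y, mem_subgroupOf.2 (mem_centralizer_singleton_iff.2 h1), rfl⟩
  obtain ⟨hc, hcard⟩ := FixTorus.main h2 (α := α) (by
      intro x
      obtain ⟨y, rfl⟩ := e0.surjective x
      rw [hα1, hα1, hnn]) (by
      intro x hx hxα
      obtain ⟨y, rfl⟩ := e0.surjective x
      rw [hα1, e0.injective.eq_iff, hfix] at hxα
      rw [← map_mul, ← hez] at hx
      exact hno y y.2 (congrArg Subtype.val (e0.injective hx)) hxα) T hTmem
  have hequiv : (L ⊓ centralizer {e} : Subgroup G) ≃* ((centralizer {e}).subgroupOf L) :=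
    { toFun := fun x => ⟨⟨x.1, (Subgroup.mem_inf.1 x.2).1⟩, (Subgroup.mem_inf.1 x.2).2⟩
      invFun := fun x => ⟨x.1.1, Subgroup.mem_inf.2 ⟨x.1.2, x.2⟩⟩
      left_inv := fun x => rfl
      right_inv := fun x => rfl
      map_mul' := fun x y => rfl }
  have hequiv2 : (L ⊓ centralizer {e} : Subgroup G) ≃* T :=
    hequiv.trans (Subgroup.equivMapOfInjective _ e0.toMonoidHom e0.injective)
  refine ⟨isCyclic_of_surjective hequiv2.symm hequiv2.symm.surjective, ?_⟩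
  rw [Nat.card_congr hequiv2.toEquiv]
  rw [Nat.card_eq_fintype_card (α := F)] at hcard
  rcases hN with ⟨h1, -, h3⟩ | ⟨h1, -, h3⟩
  · rcases hcard with ⟨-, h4⟩ | ⟨h4, -⟩
    · rw [h4, pow_one, h3]
    · omega
  · rcases hcard with ⟨h4, -⟩ | ⟨-, h4⟩
    · omega
    · rw [h4, pow_one, h3]

end cyc

section pre

variable {G : Type*} [Group G] [Finite G] {P : Sylow 2 G} {k : ℕ} {f : D k → D k → G} {w : G}
  {F : Type*} [Field F] [Fintype F] {L₁ L₂ : Subgroup G}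

theorem x0_comm_inv : (x0 k)⁻¹ = (r (-((2 ^ k : ℕ) : ZMod (4 * 2 ^ k))) : D k) := by
  rw [x0, DihedralGroup.inv_r]

theorem sr_x0 (i : ZMod (4 * 2 ^ k)) : (sr i : D k) * x0 k * (sr i)⁻¹ = (x0 k)⁻¹ := by
  have h1 := x0_sr (k := k) i
  have hc := c_comm (sr i : D k)
  rw [x0_inv]
  have h2 : x0 k * sr i = sr i * c k * x0 k := by rw [← h1]; group
  have h3 : (sr i : D k) * x0 k = c k * x0 k * sr i := by
    rw [mul_assoc, h2, ← mul_assoc, ← mul_assoc, hc, mul_assoc (sr i) (c k) (c k), c_mul_c, mul_one]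
  rw [h3, mul_inv_cancel_right]

/-- **`Pre` in case I.** -/
theorem pre (h : DWr (P : Subgroup G) k f w) (hI : CaseI f w) (hL : LCent f w F L₁ L₂)
    (hq : Odd (Fintype.card F)) {a b : G} (ha : RhoS f 0 a) (hb : RhoS f 1 b) {ε : ℤ} {N : ℕ}
    (hn : Nums F ε N 1) (hN : NN F ε N) :
    Pre F ε N 1 (f (c k) (c k)) (f (sr 0) (sr 1)) (a * (w * b * w⁻¹)) (f (x0 k) (x0 k)⁻¹) (f (x0 k) (x0 k))
      L₁ L₂ (⊥ : Subgroup G) := by
  have hij : pa (0 : ZMod (4 * 2 ^ k)) ≠ pa (1 : ZMod (4 * 2 ^ k)) := by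
    rw [map_zero, map_one]; decide
  set z := f (c k) (c k) with hz
  set e := f (sr 0) (sr 1) with he
  set n1 := f (x0 k) (x0 k)⁻¹ with hn1
  set n2 := f (x0 k) (x0 k) with hn2
  set b' := w * b * w⁻¹ with hb'
  have hee : e * e = 1 := by rw [he, h.f_mul, sr_mul_self, sr_mul_self, f_one h]
  have hzz : z * z = 1 := by rw [hz, h.f_mul, c_mul_c, f_one h]
  have hz1 : z ≠ 1 := z_ne_one h
  have hze : z * e = e * z := z_comm h (f_mem h _ _)
  have hzL1 : z ∈ L₁ := z_mem1 h hL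
  have hzL2 : z ∈ L₂ := z_mem2 h hL
  -- the action of `ρ`
  have cw : ∀ x : G, b' * x * b'⁻¹ = w * (b * (w⁻¹ * x * w) * b⁻¹) * w⁻¹ := by
    intro x; rw [hb']; group
  have A1 : a * f 1 (c k) * a⁻¹ = f 1 (c k) := rho_fix_c ha
  have A2 : a * f 1 (sr 1) * a⁻¹ = f 1 (sr 1) := rho_fix_ne ha hij
  have A3 : a * f 1 (sr 1 * c k) * a⁻¹ = f 1 (sr 1 * c k) := by
    have e : f 1 (sr 1 * c k) = f 1 (sr 1) * f 1 (c k) := by rw [h.f_mul, one_mul]
    rw [e, cj_mul, A1, A2]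
  have B1 : b' * f (c k) 1 * b'⁻¹ = f (c k) 1 := by
    rw [cw, w_conj' h, rho_fix_c hb, w_conj h]
  have B2 : b' * f (sr 0) 1 * b'⁻¹ = f (sr 0) 1 := by
    rw [cw, w_conj' h, rho_fix_ne hb hij.symm, w_conj h]
  have B3 : b' * f (sr 0 * c k) 1 * b'⁻¹ = f (sr 0 * c k) 1 := by
    have e : f (sr 0 * c k) 1 = f (sr 0) 1 * f (c k) 1 := by rw [h.f_mul, one_mul]
    rw [e, cj_mul, B1, B2]
  have B4 : b' * f 1 (c k) * b'⁻¹ = f 1 (sr 1) := by
    rw [cw, w_conj' h, hb.t_s, w_conj h]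
  have B5 : b' * f 1 (sr 1) * b'⁻¹ = f 1 (sr 1 * c k) := by
    rw [cw, w_conj' h, hb.s_sc, w_conj h]
  have R : ∀ x : G, (a * b') * x * (a * b')⁻¹ = a * (b' * x * b'⁻¹) * a⁻¹ := by intro x; group
  have Rz : (a * b') * z * (a * b')⁻¹ = e := by
    rw [R, hz, f_split h, cj_mul b', B1, B4, cj_mul, ha.t_s, A2, ← f_split h]
  have Re : (a * b') * e * (a * b')⁻¹ = z * e := by
    have h1 : z * e = f (sr 0 * c k) (sr 1 * c k) := by rw [hz, he, h.f_mul, c_comm, c_comm (sr 1)]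
    rw [h1, R, he, f_split h (sr 0), cj_mul b', B2, B5, cj_mul, ha.s_sc, A3, ← f_split h]
  have hc12 : n1 * n2 = f (c k) 1 := by
    rw [hn1, hn2, h.f_mul, x0_mul_x0, inv_mul_cancel]
  have Rt : (a * b') * f (c k) 1 * (a * b')⁻¹ = f (sr 0) 1 := by rw [R, B1, ha.t_s]
  have Rs : (a * b') * f (sr 0) 1 * (a * b')⁻¹ = f (sr 0 * c k) 1 := by rw [R, B2, ha.s_sc]
  have Rsc : (a * b') * f (sr 0 * c k) 1 * (a * b')⁻¹ = f (c k) 1 := by rw [R, B3, ha.sc_t]
  have hcs : f (c k) 1 * f (sr 0) 1 = f (sr 0 * c k) 1 := by rw [h.f_mul, c_comm, one_mul]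
  -- `n1`
  have hn1L : n1 ∈ L₁ := by
    rw [hn1, x0_comm_inv]; exact hL.q₁x _
  have hn2L : n2 ∈ L₂ := hL.q₂x _
  have hn1sq : n1 * n1 = z := by
    rw [hn1, h.f_mul, x0_mul_x0, ← mul_inv_rev, x0_mul_x0, c_inv]
  have hn2sq : n2 * n2 = z := by rw [hn2, h.f_mul, x0_mul_x0]
  have hn1e : e * n1 * e⁻¹ = n1 * z := by
    have h1 : (sr 1 : D k) * (x0 k)⁻¹ * (sr 1)⁻¹ = x0 k := by
      have : (sr 1 : D k) * (x0 k)⁻¹ * (sr 1)⁻¹ = (sr 1 * x0 k * (sr 1)⁻¹)⁻¹ := by group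
      rw [this, sr_x0, inv_inv]
    have hx1 : (x0 k)⁻¹ = x0 k * c k := by rw [x0_inv, c_comm]
    have hx2 : (x0 k)⁻¹ * c k = x0 k := by rw [hx1, mul_assoc, c_mul_c, mul_one]
    rw [he, hn1, f_conj h, sr_x0, h1, hz, h.f_mul, hx2, hx1]
  have hn2e : e * n2 * e⁻¹ = n2 * z := by
    rw [he, hn2, f_conj h, sr_x0, sr_x0, hz, h.f_mul, x0_inv, c_comm]
  obtain ⟨hE1, hE2⟩ := e_norm h hL 0 1
  obtain ⟨e0⟩ := hL.iso₁
  obtain ⟨hcyc, hcard⟩ := cyc_card e0 hq hE1 hee hzL1 hzz hz1 (fun x hx hxx => noFour h hI hL hij hx hxx) hN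
  have hact : ¬ ∀ l ∈ L₁, e * l = l * e := by
    intro h1
    rw [h1 n1 hn1L, mul_inv_cancel_right] at hn1e
    exact hz1 (left_eq_mul.1 hn1e)
  have hn1inv : ∀ t ∈ L₁, t * e = e * t → n1 * t * n1⁻¹ = t⁻¹ := by
    obtain ⟨a0, ha0, ha0e, hord⟩ := exists_a hn hcyc hcard
    have S := exists_side e0 hn (mem_normalizer_iff_cg.2 hE1) hee hact hcyc hcard hzL1 hzz hz1 ha0 ha0e hord
    obtain ⟨n0, hn0L, hn0sq, hn0inv, hn0e⟩ := S.exists_n
    intro t ht hte
    -- `s = n1 n0⁻¹` commutes with `e`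
    have hse : (n1 * n0⁻¹) * e = e * (n1 * n0⁻¹) := by
      have h1 : e * (n1 * n0⁻¹) * e⁻¹ = n1 * n0⁻¹ := by
        have : e * (n1 * n0⁻¹) * e⁻¹ = (e * n1 * e⁻¹) * (e * n0 * e⁻¹)⁻¹ := by group
        rw [this, hn1e, hn0e]; group
      calc (n1 * n0⁻¹) * e = (e * (n1 * n0⁻¹) * e⁻¹) * e := by rw [h1]
        _ = e * (n1 * n0⁻¹) := by group
    have hsL : n1 * n0⁻¹ ∈ (L₁ ⊓ centralizer {e} : Subgroup G) :=
      mem_inf.2 ⟨mul_mem hn1L (inv_mem hn0L), mem_centralizer_singleton_iff.2 hse⟩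
    have htL : t⁻¹ ∈ (L₁ ⊓ centralizer {e} : Subgroup G) :=
      inv_mem (mem_inf.2 ⟨ht, mem_centralizer_singleton_iff.2 hte⟩)
    have hcomm : (n1 * n0⁻¹) * t⁻¹ = t⁻¹ * (n1 * n0⁻¹) := by
      have := hcyc
      let _ : CommGroup (L₁ ⊓ centralizer {e} : Subgroup G) := IsCyclic.commGroup
      have h1 := mul_comm (⟨_, hsL⟩ : (L₁ ⊓ centralizer {e} : Subgroup G)) ⟨_, htL⟩
      exact congrArg Subtype.val h1
    calc n1 * t * n1⁻¹ = (n1 * n0⁻¹) * (n0 * t * n0⁻¹) * (n1 * n0⁻¹)⁻¹ := by group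
      _ = (n1 * n0⁻¹) * t⁻¹ * (n1 * n0⁻¹)⁻¹ := by rw [hn0inv t ht hte]
      _ = t⁻¹ := by rw [hcomm, mul_inv_cancel_right]
  have hswap := swap1 hL (f := f) (w := w) 0 1 (Or.inl rfl)
  refine
    { nums := hn
      zz := hzz
      z_ne := hz1
      ee := hee
      e_ne := ?_
      e_ne_z := ?_
      ze := hze
      iso1 := hL.iso₁
      z_mem := hzL1
      comm := hL.comm
      perm := perm hL
      e_norm := hE1
      T_cyc := hcyc
      T_card := hcard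
      e_act := hact
      n1_mem := hn1L
      n1_sq := hn1sq
      n1_inv := hn1inv
      n1_e := hn1e
      n2_mem := hn2L
      n2_sq := hn2sq
      n2_inv := ?_
      n2_e := hn2e
      ρ_z := Rz
      ρ_e := Re
      swap := ?_
      U_z := ?_
      U_e := ?_
      U_ρ := ?_
      U_T1 := ?_
      U_T2 := ?_
      w_rot := ?_
      c_rot := ?_
      Z := ?_
      two := two h hL
      f := Or.inl rfl }
  · intro h1
    exact sr_ne_one _ ((f_eq_one_iff h).1 h1).1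
  · intro h1
    exact sr_ne_c _ ((f_eq_iff h).1 h1).1
  · -- `n2` inverts
    intro t ht hte
    set s := f (sr 0) 1 with hs
    have hss : s * s = 1 := by rw [hs, h.f_mul, sr_mul_self, one_mul, f_one h]
    have hsinv : s⁻¹ = s := inv_eq_of_mul_eq_one_left hss
    have hse : s * e = e * s := by
      rw [hs, he, h.f_mul, h.f_mul, one_mul, mul_one]
    have ht' : s * t * s⁻¹ ∈ L₁ := by rw [← hswap.2]; exact conj_mem_cg ht
    have hte' : (s * t * s⁻¹) * e = e * (s * t * s⁻¹) := by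
      rw [hsinv]
      calc s * t * s * e = s * t * (s * e) := by group
        _ = s * (t * e) * s := by rw [hse]; group
        _ = (s * e) * t * s := by rw [hte]; group
        _ = e * (s * t * s) := by rw [hse]; group
    have h1 := hn1inv _ ht' hte'
    have h2 : s * n2 * s⁻¹ = n1⁻¹ := by
      rw [hs, hn2, f_conj h, sr_x0, hn1, f_inv h, inv_inv, one_mul, inv_one, mul_one]
    have h4 : n1⁻¹ * (s * t * s⁻¹) * n1 = (s * t * s⁻¹)⁻¹ := by
      have h5 : (s * t * s⁻¹) = n1⁻¹ * (s * t * s⁻¹)⁻¹ * n1 := by rw [← h1]; group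
      calc n1⁻¹ * (s * t * s⁻¹) * n1 = (n1⁻¹ * (s * t * s⁻¹)⁻¹ * n1)⁻¹ := by group
        _ = _ := by rw [← h5]
    have h6 : s * (n2 * t * n2⁻¹) * s⁻¹ = s * t⁻¹ * s⁻¹ := by
      calc s * (n2 * t * n2⁻¹) * s⁻¹ = (s * n2 * s⁻¹) * (s * t * s⁻¹) * (s * n2 * s⁻¹)⁻¹ := by group
        _ = n1⁻¹ * (s * t * s⁻¹) * n1 := by rw [h2, inv_inv]
        _ = (s * t * s⁻¹)⁻¹ := h4
        _ = s * t⁻¹ * s⁻¹ := by group
    exact mul_left_cancel (mul_right_cancel h6)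
  · rw [hc12, Rt]; exact hswap.1
  · rintro u hu
    rw [mem_bot.1 hu, one_mul, mul_one]
  · rintro u hu
    rw [mem_bot.1 hu, one_mul, mul_one]
  · exact Subgroup.map_bot _
  · rintro u hu t - -
    rw [mem_bot.1 hu, one_mul, mul_one]
  · rintro u hu t - -
    rw [mem_bot.1 hu, one_mul, mul_one]
  · rw [mem_bot, hc12, Rt, Rs, hcs, mul_inv_cancel]
  · have h1 : (a * b')⁻¹ * f (c k) 1 * (a * b') = f (sr 0 * c k) 1 := by rw [← Rsc]; group
    rw [mem_bot, hc12, Rt, h1, hcs, mul_inv_cancel]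
  · intro x h1 h2
    have hodd : ∀ o ∈ centralizerPPrimeCore 2 (f (c k) (c k)), o * e = e * o := by
      intro o ho
      have i1 := hL.inv₁ 0 1 (Or.inl rfl)
      have i2 := hL.inv₂ 1 1 (Or.inl rfl)
      have h4 : e * o * e⁻¹ = o := by
        rw [he, f_split h]
        have : f (sr 0) 1 * f 1 (sr 1) * o * (f (sr 0) 1 * f 1 (sr 1))⁻¹ =
            f (sr 0) 1 * (f 1 (sr 1) * o * (f 1 (sr 1))⁻¹) * (f (sr 0) 1)⁻¹ := by group
        rw [this, i2 o ho, i1 _ (inv_mem ho), inv_inv]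
      calc o * e = (e * o * e⁻¹) * e := by rw [h4]
        _ = e * o := by group
    have hodd2 : ∀ o ∈ centralizerPPrimeCore 2 (f (c k) (c k)), o * o = 1 → o = 1 := by
      intro o ho hoo
      by_contra ho1
      have h5 : orderOf o = 2 := orderOf_eq_prime (by rw [pow_two]; exact hoo) ho1
      have h6 : orderOf o ∣ Nat.card (centralizerPPrimeCore 2 (f (c k) (c k))) := by
        rw [← Subgroup.orderOf_mk o ho]; exact orderOf_dvd_natCard _
      rw [h5] at h6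
      exact Cfsg.Agent.Dichotomy.CoreTools.core_card (p := 2) (f (c k) (c k)) h6
    rcases hL.cent x h1 h2 with h4 | h4
    · exact ⟨hodd x h4, fun h5 => Or.inl (hodd2 x h4 h5)⟩
    · have hxz : x * z = z * x := h1 z hzL1
      have hx : x = (x * z) * z := by rw [mul_assoc, hzz, mul_one]
      refine ⟨?_, fun h5 => Or.inr ?_⟩
      · have h6 := hodd _ h4
        rw [hx, mul_assoc, hze, ← mul_assoc, h6, mul_assoc]
      · have h6 : (x * z) * (x * z) = 1 := by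
          calc (x * z) * (x * z) = x * (z * x) * z := by group
            _ = (x * x) * (z * z) := by rw [← hxz]; group
            _ = 1 := by rw [h5, hzz, one_mul]
        have h7 := hodd2 _ h4 h6
        rw [hx, h7, one_mul]

/-- **The input in case I.** -/
theorem exists_inp [IsSimpleGroup G] (h : DWr (P : Subgroup G) k f w) (hI : CaseI f w) (hL : LCent f w F L₁ L₂)
    (hq : Odd (Fintype.card F)) (h3 : 3 < Fintype.card F)
    {X : Type*} [Group X] {F₂ : Type*} [Field F₂] [Fintype F₂] (hF₂ : Fintype.card F₂ = Fintype.card F ^ 2)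
    {q' : ↥(centralizer ({f (c k) 1} : Set G)) →* X} {K : Subgroup X}
    (hT : Cfsg.Agent.LFourA.CzCt.CTL (f (c k) 1) F₂ q' K) (hP : Cfsg.Agent.LFourA.CzCt.TPos f q' K) :
    ∃ (ε : ℤ) (N : ℕ) (ρ : G),
      Inp F ε N 1 (f (c k) (c k)) (f (sr 0) (sr 1)) ρ (f (x0 k) (x0 k)⁻¹) (f (x0 k) (x0 k)) L₁ L₂ (⊥ : Subgroup G) ∧
      L₁ ⊔ L₂ ⊔ cg ρ L₁ = ⊤ := by
  obtain ⟨a, ha⟩ := hI.rho 0
  obtain ⟨b, hb⟩ := hI.rho 1
  obtain ⟨ε, N, hn, hN⟩ := exists_nums hq h3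
  have hij : pa (0 : ZMod (4 * 2 ^ k)) ≠ pa (1 : ZMod (4 * 2 ^ k)) := by
    rw [map_zero, map_one]; decide
  have H := pre h hI hL hq ha hb hn hN
  have hodd : Odd (Fintype.card F₂) := by rw [hF₂]; exact hq.pow
  have h9 : 9 < Fintype.card F₂ := by rw [hF₂]; nlinarith
  have hcl : ∀ M : Subgroup G, centralizer ({f (c k) (c k)} : Set G) ≤ M → a * (w * b * w⁻¹) ∈ M → M = ⊤ :=
    fun M hz hM => CloseA.eq_top h hI hodd h9 hT hP ha hb hij hz hM
  exact ⟨ε, N, _, H.toInp hcl, H.sup_eq_top hcl⟩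

end pre

end Cfsg.Agent.LFourR.InpA
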