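import Cfsg.Agent.LFourR.QThree
import Cfsg.Agent.LargeExtra.W2.PlusExport
import Cfsg.Agent.LFour.Concl

/-!
# The end `q = 3` from the interface `CZL`
-/

set_option autoImplicit false

universe u

namespace Cfsg.Agent.LFourR.QThreeEnd

open Subgroup Cfsg Cfsg.Agent.LFourR.QThreeSL Cfsg.Agent.LFourR.QThree Cfsg.Agent.LFourA.CzCt
  Cfsg.Agent.LargeExtra.W2

variable {G X : Type*} [Group G] [Group X]

/-- `Amb` from `CZ` with trivial odd core. -/
theorem exists_hom {z : G} (hz : orderOf z = 2) {p : ↥(centralizer ({z} : Set G)) →* X} {K₁ K₂ : Subgroup X}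
    (h : CZ z p K₁ K₂) (hO : centralizerPPrimeCore 2 z = ⊥) :
    ∃ f : X →* G, Function.Injective f ∧ Amb z (K₁.map f) (K₂.map f) := by
  have hinj : Function.Injective p := by
    rw [injective_iff_map_eq_one]
    intro a ha
    have h1 := (h.ker a).1 ha
    rw [hO, Subgroup.mem_bot] at h1
    exact Subtype.ext h1
  let e : ↥(centralizer ({z} : Set G)) ≃* X := MulEquiv.ofBijective p ⟨hinj, h.surj⟩
  let f : X →* G := (centralizer ({z} : Set G)).subtype.comp e.symm.toMonoidHom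
  have hf : Function.Injective f := fun a b hab => e.symm.injective (Subtype.ext hab)
  have hfp : ∀ c : ↥(centralizer ({z} : Set G)), f (p c) = c := by
    intro c
    show ((e.symm (e c) : ↥(centralizer ({z} : Set G))) : G) = c
    rw [e.symm_apply_apply]
  have hfz : f (p (self z)) = z := hfp _
  have hz2 : z * z = 1 := by rw [← pow_two, ← hz, pow_orderOf_eq_one]
  have hz1 : z ≠ 1 := by
    rintro rfl
    simp at hz
  refine ⟨f, hf, hz2, hz1, ⟨_, h.z₁, hfz⟩, ⟨_, h.z₂, hfz⟩, ?_, ?_, ?_, ?_⟩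
  · rintro _ ⟨a, ha, rfl⟩ _ ⟨b, hb, rfl⟩
    rw [← map_mul, ← map_mul, h.comm a ha b hb]
  · rintro _ ⟨a, ha, rfl⟩ ⟨b, hb, hab⟩
    have := hf hab
    subst this
    rcases h.inf _ ha hb with h1 | h1
    · left; rw [h1, map_one]
    · right; rw [h1, hfz]
  · intro g hg
    obtain ⟨c, rfl⟩ : ∃ c, g = f c := ⟨p ⟨g, mem_centralizer_singleton_iff.2 hg⟩, (hfp ⟨g, mem_centralizer_singleton_iff.2 hg⟩).symm⟩
    rcases h.norm c with ⟨n1, n2⟩ | ⟨n1, n2⟩
    · left
      constructor <;> rintro _ ⟨a, ha, rfl⟩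
      · exact ⟨_, n1 a ha, by rw [map_mul, map_mul, map_inv]⟩
      · exact ⟨_, n2 a ha, by rw [map_mul, map_mul, map_inv]⟩
    · right
      constructor <;> rintro _ ⟨a, ha, rfl⟩
      · exact ⟨_, n1 a ha, by rw [map_mul, map_mul, map_inv]⟩
      · exact ⟨_, n2 a ha, by rw [map_mul, map_mul, map_inv]⟩
  · intro g hg h1 h2
    obtain ⟨c, rfl⟩ : ∃ c, g = f c := ⟨p ⟨g, mem_centralizer_singleton_iff.2 hg⟩, (hfp ⟨g, mem_centralizer_singleton_iff.2 hg⟩).symm⟩
    rcases h.cent c (fun a ha => hf (by rw [map_mul, map_mul]; exact h1 _ ⟨a, ha, rfl⟩))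
      (fun a ha => hf (by rw [map_mul, map_mul]; exact h2 _ ⟨a, ha, rfl⟩)) with h3 | h3
    · left; rw [h3, map_one]
    · right; rw [h3, hfz]

/-- coordinates of the image of a subgroup isomorphic to `SL(2,3)`. -/
theorem exists_tetG {F : Type*} [Field F] [Fintype F] (h3 : Fintype.card F = 3) {K : Subgroup X}
    (e : Nonempty (K ≃* Matrix.SpecialLinearGroup (Fin 2) F)) {f : X →* G} (hf : Function.Injective f) :
    ∃ i j x : G, TetG (K.map f) i j x := by
  obtain ⟨e⟩ := e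
  have e1 : K.map f ≃* K := (K.equivMapOfInjective f hf).symm
  obtain ⟨i, j, x, h⟩ := exists_tet h3 (e1.trans e)
  exact ⟨i, j, x, i.2, j.2, x.2, h⟩

/-- **`Case9aa`** from `C(z)` with `K₁ ≅ K₂ ≅ SL(2,3)` and trivial odd core. -/
theorem exists_aa [Finite G] [IsSimpleGroup G] (hnc : ¬ IsMulCommutative G) {z : G} (hz : orderOf z = 2)
    {F : Type*} [Field F] [Fintype F] (h3 : Fintype.card F = 3) {p : ↥(centralizer ({z} : Set G)) →* X}
    {K₁ K₂ : Subgroup X} (h : CZL z F p K₁ K₂) (hO : centralizerPPrimeCore 2 z = ⊥)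
    (h7 : 2 ^ 7 ∣ Nat.card (Subgroup.centralizer ({z} : Set G))) :
    ∃ (Q : Subgroup G) (i j k l x₁ x₂ y s : G), Case9aa Q z i j k l x₁ x₂ y s := by
  obtain ⟨f, hf, A⟩ := exists_hom hz h.toCZ hO
  obtain ⟨i, j, x, t⟩ := exists_tetG h3 h.e₁ hf
  obtain ⟨k, l, y, t'⟩ := exists_tetG h3 h.e₂ hf
  exact exists_case9aa hnc A t t' h7

/-- The two recognition theorems of S1759 for `C / Q ≅ S₃ × S₃` (hypotheses; proved with S1759). -/
structure RecAA (G : Type*) [Group G] : Prop where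
  aa : ∀ (Q : Subgroup G) (z i j k l x₁ x₂ y s : G), Case9aa Q z i j k l x₁ x₂ y s →
    (∀ g : G, g * z * g⁻¹ ∈ Q → g * z * g⁻¹ = z) →
    ∃ (F : Type) (_ : Field F) (_ : Fintype F), Fintype.card F = 3 ∧
      Nonempty (G ≃* Matrix.ProjectiveSpecialLinearGroup (Fin 4) F)
  aa' : ∀ (Q : Subgroup G) (z i j k l x₁ x₂ y s g : G), Case9aa Q z i j k l x₁ x₂ y s →
    g * z * g⁻¹ ∈ Q → g * z * g⁻¹ ≠ z →
    ∃ (F : Type) (_ : Field F) (_ : Fintype F), Fintype.card F = 9 ∧ Nonempty (G ≃* Cfsg.PSU 4 F 3)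

theorem concl_of_aa {G : Type u} [Group G] (R : RecAA G) {Q : Subgroup G} {z i j k l x₁ x₂ y s : G}
    (h : Case9aa Q z i j k l x₁ x₂ y s) : LFour.Concl G := by
  by_cases h1 : ∀ g : G, g * z * g⁻¹ ∈ Q → g * z * g⁻¹ = z
  · obtain ⟨F, i1, i2, hF, e⟩ := R.aa Q z i j k l x₁ x₂ y s h h1
    exact Or.inl ⟨F, i1, i2, by rw [hF]; exact ⟨1, rfl⟩, e⟩
  · push Not at h1
    obtain ⟨g, hg, hne⟩ := h1
    obtain ⟨F, i1, i2, hF, e⟩ := R.aa' Q z i j k l x₁ x₂ y s g h hg hne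
    exact Or.inr (Or.inl ⟨F, i1, i2, 3, by rw [hF]; norm_num, ⟨1, rfl⟩, e⟩)

/-- **[q3], general form** (`z` an involution with `2⁷ ∣ |C(z)|`). -/
theorem concl {G : Type u} [Group G] [Finite G] [IsSimpleGroup G] (R : RecAA G) (hnc : ¬ IsMulCommutative G)
    {z : G} (hz : orderOf z = 2)
    {F : Type*} [Field F] [Fintype F] (h3 : Fintype.card F = 3) {p : ↥(centralizer ({z} : Set G)) →* X}
    {K₁ K₂ : Subgroup X} (h : CZL z F p K₁ K₂) (hO : centralizerPPrimeCore 2 z = ⊥)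
    (h7 : 2 ^ 7 ∣ Nat.card (Subgroup.centralizer ({z} : Set G))) : LFour.Concl G := by
  obtain ⟨Q, i, j, k, l, x₁, x₂, y, s, h1⟩ := exists_aa hnc hz h3 h hO h7
  exact concl_of_aa R h1

open Cfsg.Agent.LFourA.Model Cfsg.Agent.LFourA.Base in
/-- **[q3] for type A** (Sylow 2-subgroup `D wr 2`). -/
theorem concl_dwr {G : Type u} [Group G] [Finite G] [IsSimpleGroup G] (R : RecAA G)
    {P : Subgroup G} {k : ℕ} {f : D k → D k → G} {w : G} (hS : DWr P k f w)
    {F : Type*} [Field F] [Fintype F] (h3 : Fintype.card F = 3)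
    {p : ↥(centralizer ({f (c k) (c k)} : Set G)) →* X}
    {K₁ K₂ : Subgroup X} (h : CZL (f (c k) (c k)) F p K₁ K₂)
    (hO : centralizerPPrimeCore 2 (f (c k) (c k)) = ⊥) : LFour.Concl G := by
  have hle : P ≤ centralizer ({f (c k) (c k)} : Set G) := by
    intro g hg
    rw [mem_centralizer_singleton_iff]
    rcases mem_cases hS hg with ⟨a, b, rfl⟩ | ⟨a, b, rfl⟩
    · rw [hS.f_mul, hS.f_mul, c_comm, c_comm]
    · rw [fw_mul_f hS, ← mul_assoc, hS.f_mul, c_comm, c_comm]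
  refine concl R ?_ ?_ h3 h hO ?_
  · intro hc
    have h1 : f (c k) 1 * w = w * f (c k) 1 := hc.is_comm.comm _ _
    rw [hS.w_f] at h1
    have h2 := mul_right_cancel h1
    rw [f_eq_iff hS] at h2
    exact c_ne_one h2.1
  · refine orderOf_eq_prime ?_ ?_
    · rw [pow_two, hS.f_mul, c_mul_c, f_one hS]
    · intro h1
      exact c_ne_one (hS.f_inj _ _ h1).1
  · have h1 := Subgroup.card_dvd_of_le hle
    rw [card_S hS] at h1
    exact (Dvd.intro _ rfl : (2 : ℕ) ^ 7 ∣ 128 * 4 ^ k).trans h1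

end Cfsg.Agent.LFourR.QThreeEnd
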