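import Cfsg.Agent.LFourA.FThree
import Cfsg.Agent.LFourA.CzCt
import Cfsg.Agent.LFourA.KlT
import Cfsg.Agent.Lib.TwoClassEnd
import Cfsg.Agent.SignalizersComponents.CoprimeGen

/-!
# Closing argument in case I

`G` has a Sylow 2-subgroup of type `D wr 2` with the fusion pattern `CaseI`, `t = f c 1`, `z = f c c`.
A subgroup `M` containing `C_G(z)` and an element `a * (w * b * w⁻¹)` with `Rho f i a`, `Rho f j b`, `i`, `j` of different
parity, is `G`.
-/

set_option autoImplicit false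

namespace Cfsg.Agent.LFourR.CloseA

open Subgroup Cfsg DihedralGroup Cfsg.Agent.LFourA.Model Cfsg.Agent.LFourA.Base Cfsg.Agent.LFourA.Defs
open Cfsg.Agent.LFourA.Facts Cfsg.Agent.LFourA.CzCt

variable {G : Type*} [Group G] {S : Subgroup G} {k : ℕ} {f : D k → D k → G} {w : G}

section fusion

variable (h : DWr S k f w)

include h

/-- the standard `Rho` -/
abbrev RhoS (f : D k → D k → G) (i : ZMod (4 * 2 ^ k)) (a : G) : Prop := Rho f i a (chi (1 + pa i) (pa i))

omit h in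
theorem chi_ne {i j : ZMod (4 * 2 ^ k)} (hij : pa i ≠ pa j) : chi (1 + pa i) (pa i) (sr j : D k) = 1 := by
  rw [chi_sr]
  have h1 : 1 + pa i + (1 + pa i + pa i) * pa j = 0 := by
    generalize pa i = x at hij ⊢
    generalize pa j = y at hij ⊢
    revert x y; decide
  rw [h1, cc_zero]

omit h in
theorem chi_eq {i j : ZMod (4 * 2 ^ k)} (hij : pa i = pa j) : chi (1 + pa i) (pa i) (sr j : D k) = c k := by
  rw [chi_sr]
  have h1 : 1 + pa i + (1 + pa i + pa i) * pa j = 1 := by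
    generalize pa i = x at hij ⊢
    generalize pa j = y at hij ⊢
    revert x y; decide
  rw [h1, cc_one]

omit h in
/-- conjugation -/
theorem cj_mul (g x y : G) : g * (x * y) * g⁻¹ = (g * x * g⁻¹) * (g * y * g⁻¹) := by group

theorem f_split (a b : D k) : f a b = f a 1 * f 1 b := by rw [h.f_mul, mul_one, one_mul]

omit h in
theorem rho_fix_ne {i j : ZMod (4 * 2 ^ k)} {a : G} (ha : RhoS f i a) (hij : pa i ≠ pa j) :
    a * f 1 (sr j) * a⁻¹ = f 1 (sr j) := by
  have h1 := ha.fix (sr j)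
  rw [chi_ne hij] at h1
  rw [h1, mul_inv_cancel_right]

omit h in
theorem rho_fix_c {i : ZMod (4 * 2 ^ k)} {a : G} (ha : RhoS f i a) : a * f 1 (c k) * a⁻¹ = f 1 (c k) := by
  rw [ha.comm, mul_inv_cancel_right]

theorem rho_fix_eq {i j : ZMod (4 * 2 ^ k)} {a : G} (ha : RhoS f i a) (hij : pa i = pa j) :
    a * f 1 (sr j) * a⁻¹ = f (sr i * c k) (sr j) := by
  have h1 := ha.fix (sr j)
  rw [chi_eq hij] at h1
  have h2 : a * f (c k) (sr j) * a⁻¹ = f (c k) (sr j) := by rw [h1, mul_inv_cancel_right]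
  have h3 : f 1 (sr j) = f (c k) 1 * f (c k) (sr j) := by
    rw [h.f_mul, c_mul_c, one_mul]
  rw [h3, cj_mul, h2, ha.t_s, h.f_mul, one_mul]

/-- images under `ρ = a b'` of the elements `f p q`. -/
theorem rho_mem [Finite G] {i j : ZMod (4 * 2 ^ k)} {a b : G} (ha : RhoS f i a) (hb : RhoS f j b)
    (hij : pa i ≠ pa j) {M : Subgroup G} (hz : centralizer ({f (c k) (c k)} : Set G) ≤ M)
    (hS : S ≤ M) (hM : a * (w * b * w⁻¹) ∈ M) : a ∈ M ∧ b ∈ M := by
  set b' := w * b * w⁻¹ with hb'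
  -- action of `a`
  have A1 : a * f 1 (c k) * a⁻¹ = f 1 (c k) := rho_fix_c ha
  have A2 : a * f 1 (sr j) * a⁻¹ = f 1 (sr j) := rho_fix_ne ha hij
  have A3 : a * f 1 (sr j * c k) * a⁻¹ = f 1 (sr j * c k) := by
    have e : f 1 (sr j * c k) = f 1 (sr j) * f 1 (c k) := by rw [h.f_mul, one_mul]
    rw [e, cj_mul, A1, A2]
  -- action of `b'`
  have cw : ∀ x : G, b' * x * b'⁻¹ = w * (b * (w⁻¹ * x * w) * b⁻¹) * w⁻¹ := by
    intro x; rw [hb']; group
  have B1 : b' * f (c k) 1 * b'⁻¹ = f (c k) 1 := by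
    rw [cw, w_conj' h, rho_fix_c hb, w_conj h]
  have B2 : b' * f (sr i) 1 * b'⁻¹ = f (sr i) 1 := by
    rw [cw, w_conj' h, rho_fix_ne hb hij.symm, w_conj h]
  have B3 : b' * f (sr i * c k) 1 * b'⁻¹ = f (sr i * c k) 1 := by
    have e : f (sr i * c k) 1 = f (sr i) 1 * f (c k) 1 := by rw [h.f_mul, one_mul]
    rw [e, cj_mul, B1, B2]
  have B4 : b' * f 1 (c k) * b'⁻¹ = f 1 (sr j) := by
    rw [cw, w_conj' h, hb.t_s, w_conj h]
  have B5 : b' * f 1 (sr j) * b'⁻¹ = f 1 (sr j * c k) := by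
    rw [cw, w_conj' h, hb.s_sc, w_conj h]
  have B6 : b' * f 1 (sr j * c k) * b'⁻¹ = f 1 (c k) := by
    rw [cw, w_conj' h, hb.sc_t, w_conj h]
  -- action of `ρ = a b'`
  have R : ∀ x : G, (a * b') * x * (a * b')⁻¹ = a * (b' * x * b'⁻¹) * a⁻¹ := by intro x; group
  have R1 : (a * b') * f (sr i * c k) (sr j * c k) * (a * b')⁻¹ = f (c k) (c k) := by
    rw [R, f_split h (sr i * c k), cj_mul b', B3, B6, cj_mul, ha.sc_t, A1, ← f_split h]
  have R2 : (a * b') * f (sr i) (sr j * c k) * (a * b')⁻¹ = f (sr i * c k) (c k) := by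
    rw [R, f_split h (sr i), cj_mul b', B2, B6, cj_mul, ha.s_sc, A1, ← f_split h]
  -- `σ = f x₀ 1`
  set s := f (x0 k) 1 with hs
  have hsM : s ∈ M := hS (f_mem h _ _)
  have S1 : s * f (sr i) (sr j * c k) * s⁻¹ = f (sr i * c k) (sr j * c k) := by
    rw [hs, f_conj h, x0_sr, one_mul, inv_one, mul_one]
  have S2 : s * f (sr i * c k) (c k) * s⁻¹ = f (sr i) (c k) := by
    rw [hs, f_conj h]
    have e : x0 k * (sr i * c k) * (x0 k)⁻¹ = sr i := by
      have e1 : x0 k * (sr i * c k) * (x0 k)⁻¹ = (x0 k * sr i * (x0 k)⁻¹) * (x0 k * c k * (x0 k)⁻¹) := by group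
      rw [e1, x0_sr, ← c_comm (x0 k), mul_inv_cancel_right, mul_assoc, c_mul_c, mul_one]
    rw [e, one_mul, inv_one, mul_one]
  -- `m = [σ, ρ]`
  set m := s * (a * b') * s⁻¹ * (a * b')⁻¹ with hm
  have hmM : m ∈ M := mul_mem (mul_mem (mul_mem hsM hM) (inv_mem hsM)) (inv_mem hM)
  have hmz : m * f (c k) (c k) * m⁻¹ = f (sr i) (c k) := by
    have e1 : m * f (c k) (c k) * m⁻¹ =
        s * ((a * b') * (s⁻¹ * ((a * b')⁻¹ * f (c k) (c k) * (a * b')) * s) * (a * b')⁻¹) * s⁻¹ := by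
      rw [hm]; group
    have e2 : (a * b')⁻¹ * f (c k) (c k) * (a * b') = f (sr i * c k) (sr j * c k) := by
      rw [← R1]; group
    have e3 : s⁻¹ * f (sr i * c k) (sr j * c k) * s = f (sr i) (sr j * c k) := by
      rw [← S1]; group
    rw [e1, e2, e3, R2, S2]
  have haz : a * f (c k) (c k) * a⁻¹ = f (sr i) (c k) := by
    rw [f_split h, cj_mul, ha.t_s, A1, ← f_split h]
  have ham : a⁻¹ * m ∈ M := by
    apply hz
    rw [mem_centralizer_singleton_iff]
    have e : (a⁻¹ * m) * f (c k) (c k) * (a⁻¹ * m)⁻¹ = f (c k) (c k) := by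
      have e1 : (a⁻¹ * m) * f (c k) (c k) * (a⁻¹ * m)⁻¹ = a⁻¹ * (m * f (c k) (c k) * m⁻¹) * a := by group
      rw [e1, hmz, ← haz]; group
    calc a⁻¹ * m * f (c k) (c k) = ((a⁻¹ * m) * f (c k) (c k) * (a⁻¹ * m)⁻¹) * (a⁻¹ * m) := by group
      _ = f (c k) (c k) * (a⁻¹ * m) := by rw [e]
  have haM : a ∈ M := by
    have e : a = m * (a⁻¹ * m)⁻¹ := by group
    rw [e]; exact mul_mem hmM (inv_mem ham)
  refine ⟨haM, ?_⟩
  have hbM : b' ∈ M := by
    have e : b' = a⁻¹ * (a * b') := by group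
    rw [e]; exact mul_mem (inv_mem haM) hM
  have hwM : w ∈ M := hS (w_mem h)
  have e : b = w⁻¹ * b' * w := by rw [hb']; group
  rw [e]; exact mul_mem (mul_mem (inv_mem hwM) hbM) hwM

/-- transport of `Rho` by a rotation -/
theorem rho_conj {i i' : ZMod (4 * 2 ^ k)} {a : G} (ha : RhoS f i a) (hii : pa i = pa i') :
    ∃ g : D k, RhoS f i' (f g 1 * a * (f g 1)⁻¹) := by
  obtain ⟨l, hl⟩ := LFourA.FThree.exists_conj_sr hii
  set g : D k := r l with hg
  refine ⟨g, ?_⟩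
  have C1 : ∀ x y : G, (f g 1 * x * (f g 1)⁻¹) * (f g 1 * y * (f g 1)⁻¹) * (f g 1 * x * (f g 1)⁻¹)⁻¹ =
      f g 1 * (x * y * x⁻¹) * (f g 1)⁻¹ := by intro x y; group
  have e0 : ∀ p q : D k, f g 1 * f p q * (f g 1)⁻¹ = f (g * p * g⁻¹) q := by
    intro p q
    rw [f_conj h, one_mul, inv_one, mul_one]
  have ec : g * c k * g⁻¹ = c k := by rw [← c_comm, mul_inv_cancel_right]
  have es : g * sr i * g⁻¹ = sr i' := hl
  have esc : g * (sr i * c k) * g⁻¹ = sr i' * c k := by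
    have : g * (sr i * c k) * g⁻¹ = (g * sr i * g⁻¹) * (g * c k * g⁻¹) := by group
    rw [this, es, ec]
  have E1 : f g 1 * f (c k) 1 * (f g 1)⁻¹ = f (c k) 1 := by rw [e0, ec]
  have E2 : f g 1 * f (sr i) 1 * (f g 1)⁻¹ = f (sr i') 1 := by rw [e0, es]
  have E3 : f g 1 * f (sr i * c k) 1 * (f g 1)⁻¹ = f (sr i' * c k) 1 := by rw [e0, esc]
  have E4 : ∀ p, (p = 1 ∨ p = c k) → ∀ q, f g 1 * f p q * (f g 1)⁻¹ = f p q := by
    rintro p (rfl | rfl) q
    · rw [e0, mul_one, mul_inv_cancel]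
    · rw [e0, ec]
  have comm_of : ∀ x y : G, a * y = y * a → f g 1 * y * (f g 1)⁻¹ = y →
      (f g 1 * a * (f g 1)⁻¹) * y = y * (f g 1 * a * (f g 1)⁻¹) := by
    intro _ y h1 h2
    have h3 : (f g 1)⁻¹ * y * f g 1 = y := by
      conv_lhs => rw [← h2]
      group
    calc (f g 1 * a * (f g 1)⁻¹) * y = f g 1 * (a * ((f g 1)⁻¹ * y * f g 1)) * (f g 1)⁻¹ := by group
      _ = f g 1 * (y * a) * (f g 1)⁻¹ := by rw [h3, h1]
      _ = (f g 1 * y * (f g 1)⁻¹) * (f g 1 * a * (f g 1)⁻¹) := by group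
      _ = _ := by rw [h2]
  refine ⟨?_, ?_, ?_, ?_, ?_, ?_, ?_⟩
  · exact comm_of 1 _ ha.comm (E4 1 (Or.inl rfl) _)
  · have := C1 a (f (c k) 1)
    rw [E1, ha.t_s, E2] at this
    exact this
  · have := C1 a (f (sr i) 1)
    rw [E2, ha.s_sc, E3] at this
    exact this
  · have := C1 a (f (sr i * c k) 1)
    rw [E3, ha.sc_t, E1] at this
    exact this
  · obtain ⟨m, hm⟩ := ha.ord
    exact ⟨m, by rw [conj_pow, hm, mul_one, mul_inv_cancel]⟩
  · exact chi_cases _ _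
  · intro b
    have h1 := ha.fix b
    rw [hii] at h1
    exact comm_of 1 _ h1 (E4 _ (chi_cases _ _ _) _)

/-- `M`-conjugacy -/
def CM (M : Subgroup G) (x y : G) : Prop := ∃ m ∈ M, m * x * m⁻¹ = y

omit h in
theorem CM.refl {M : Subgroup G} (x : G) : CM M x x := ⟨1, one_mem _, by group⟩

omit h in
theorem CM.symm {M : Subgroup G} {x y : G} (hxy : CM M x y) : CM M y x := by
  obtain ⟨m, hm, rfl⟩ := hxy
  exact ⟨m⁻¹, inv_mem hm, by group⟩

omit h in
theorem CM.trans {M : Subgroup G} {x y z : G} (h1 : CM M x y) (h2 : CM M y z) : CM M x z := by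
  obtain ⟨m, hm, rfl⟩ := h1
  obtain ⟨n, hn, rfl⟩ := h2
  exact ⟨n * m, mul_mem hn hm, by group⟩

/-- every involution of `S` is `M`-conjugate to `z` or to `t` -/
theorem fus (hc : CaseI f w) {M : Subgroup G} (hz : centralizer ({f (c k) (c k)} : Set G) ≤ M) (hS : S ≤ M)
    (hρ : ∀ i : ZMod (4 * 2 ^ k), ∃ a ∈ M, RhoS f i a) {v : G} (hv : v ∈ S) (hv2 : v * v = 1) (hv1 : v ≠ 1) :
    CM M (f (c k) (c k)) v ∨ CM M (f (c k) 1) v := by
  have hwM : w ∈ M := hS (w_mem h)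
  have sw : ∀ p q : D k, CM M (f p q) (f q p) := fun p q => ⟨w, hwM, w_conj h p q⟩
  -- basic fusion
  have t1 : ∀ i : ZMod (4 * 2 ^ k), CM M (f (c k) 1) (f (sr i) 1) := by
    intro i
    obtain ⟨a, haM, ha⟩ := hρ i
    exact ⟨a, haM, ha.t_s⟩
  have t2 : ∀ i : ZMod (4 * 2 ^ k), CM M (f (c k) 1) (f 1 (sr i)) := fun i => (t1 i).trans (sw _ _)
  have z1 : ∀ i : ZMod (4 * 2 ^ k), CM M (f (c k) (c k)) (f (sr i) (c k)) := by
    intro i
    obtain ⟨a, haM, ha⟩ := hρ i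
    exact ⟨a, haM, by rw [f_split h, cj_mul, ha.t_s, rho_fix_c ha, ← f_split h]⟩
  have z2 : ∀ i : ZMod (4 * 2 ^ k), CM M (f (c k) (c k)) (f (c k) (sr i)) := fun i => (z1 i).trans (sw _ _)
  have z3 : ∀ i j : ZMod (4 * 2 ^ k), pa i ≠ pa j → CM M (f (c k) (c k)) (f (sr i) (sr j)) := by
    intro i j hij
    obtain ⟨a, haM, ha⟩ := hρ i
    refine (z2 j).trans ⟨a, haM, ?_⟩
    rw [f_split h, cj_mul, ha.t_s, rho_fix_ne ha hij, ← f_split h]
  have t3 : ∀ i j : ZMod (4 * 2 ^ k), pa i = pa j → CM M (f (c k) 1) (f (sr i) (sr j)) := by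
    intro i j hij
    obtain ⟨i', hi', hp⟩ := LFourA.FThree.pa_src i
    obtain ⟨a, haM, ha⟩ := hρ i'
    refine (t2 j).trans ⟨a, haM, ?_⟩
    rw [rho_fix_eq h ha (hp.trans hij), ← hi', mul_assoc, c_mul_c, mul_one]
  rcases mem_cases h hv with ⟨p, q, rfl⟩ | ⟨p, q, rfl⟩
  · obtain ⟨hp, hq⟩ := (f_sq_one_iff h).1 hv2
    rcases eq_of_sq_one hp with rfl | rfl | ⟨i, rfl⟩
    · rcases eq_of_sq_one hq with rfl | rfl | ⟨j, rfl⟩
      · exact absurd (f_one h) hv1
      · exact Or.inr (sw _ _)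
      · exact Or.inr (t2 j)
    · rcases eq_of_sq_one hq with rfl | rfl | ⟨j, rfl⟩
      · exact Or.inr (CM.refl _)
      · exact Or.inl (CM.refl _)
      · exact Or.inl (z2 j)
    · rcases eq_of_sq_one hq with rfl | rfl | ⟨j, rfl⟩
      · exact Or.inr (t1 i)
      · exact Or.inl (z1 i)
      · by_cases hij : pa i = pa j
        · exact Or.inr (t3 i j hij)
        · exact Or.inl (z3 i j hij)
  · have hq := (fw_sq_one_iff h).1 hv2
    subst hq
    right
    obtain ⟨g, hg1, hg2⟩ := hc.w_t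
    have hgM : g ∈ M := by
      apply hz
      rw [mem_centralizer_singleton_iff]
      calc g * f (c k) (c k) = (g * f (c k) (c k) * g⁻¹) * g := by group
        _ = f (c k) (c k) * g := by rw [hg2]
    have h1 : CM M (f (c k) 1) w := ⟨g⁻¹, inv_mem hgM, by rw [← hg1]; group⟩
    refine h1.trans ⟨f p 1, hS (f_mem h _ _), ?_⟩
    exact (fw_eq_conj_w h p).symm

theorem exists_rho {i j : ZMod (4 * 2 ^ k)} {a b : G} (ha : RhoS f i a) (hb : RhoS f j b) (hij : pa i ≠ pa j)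
    {M : Subgroup G} (hS : S ≤ M) (haM : a ∈ M) (hbM : b ∈ M) (i' : ZMod (4 * 2 ^ k)) :
    ∃ a ∈ M, RhoS f i' a := by
  have h2 : ∀ x y z : ZMod 2, x ≠ y → z = x ∨ z = y := by decide
  rcases h2 _ _ (pa i') hij with e | e
  · obtain ⟨g, hg⟩ := rho_conj h ha e.symm
    exact ⟨_, mul_mem (mul_mem (hS (f_mem h _ _)) haM) (inv_mem (hS (f_mem h _ _))), hg⟩
  · obtain ⟨g, hg⟩ := rho_conj h hb e.symm
    exact ⟨_, mul_mem (mul_mem (hS (f_mem h _ _)) hbM) (inv_mem (hS (f_mem h _ _))), hg⟩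

end fusion

section gen

theorem uv_sq {u v : G} (hu : u * u = 1) (hv : v * v = 1) (huv : u * v = v * u) : u * v * (u * v) = 1 := by
  calc u * v * (u * v) = u * (v * u) * v := by simp only [mul_assoc]
    _ = (u * u) * (v * v) := by rw [← huv]; simp only [mul_assoc]
    _ = 1 := by rw [hu, hv, one_mul]

/-- the four-group `{1, u, v, uv}` -/
def four {u v : G} (hu : u * u = 1) (hv : v * v = 1) (huv : u * v = v * u) : Subgroup G where
  carrier := {g | g = 1 ∨ g = u ∨ g = v ∨ g = u * v}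
  one_mem' := Or.inl rfl
  mul_mem' := by
    rintro _ _ (rfl | rfl | rfl | rfl) (rfl | rfl | rfl | rfl)
    · exact Or.inl (one_mul _)
    · exact Or.inr (Or.inl (one_mul _))
    · exact Or.inr (Or.inr (Or.inl (one_mul _)))
    · exact Or.inr (Or.inr (Or.inr (one_mul _)))
    · exact Or.inr (Or.inl (mul_one _))
    · exact Or.inl hu
    · exact Or.inr (Or.inr (Or.inr rfl))
    · exact Or.inr (Or.inr (Or.inl (by rw [← mul_assoc, hu, one_mul])))
    · exact Or.inr (Or.inr (Or.inl (mul_one _)))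
    · exact Or.inr (Or.inr (Or.inr huv.symm))
    · exact Or.inl hv
    · exact Or.inr (Or.inl (by rw [huv, ← mul_assoc, hv, one_mul]))
    · exact Or.inr (Or.inr (Or.inr (mul_one _)))
    · exact Or.inr (Or.inr (Or.inl (by rw [huv, mul_assoc, hu, mul_one])))
    · exact Or.inr (Or.inl (by rw [mul_assoc, hv, mul_one]))
    · exact Or.inl (uv_sq hu hv huv)
  inv_mem' := by
    rintro _ (rfl | rfl | rfl | rfl)
    · exact Or.inl inv_one
    · exact Or.inr (Or.inl (inv_eq_of_mul_eq_one_left hu))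
    · exact Or.inr (Or.inr (Or.inl (inv_eq_of_mul_eq_one_left hv)))
    · refine Or.inr (Or.inr (Or.inr ?_))
      rw [mul_inv_rev, inv_eq_of_mul_eq_one_left hu, inv_eq_of_mul_eq_one_left hv, huv]

theorem le_of_pair [Finite G] {u v : G} (hu : u * u = 1) (hv : v * v = 1) (huv : u * v = v * u) (hu1 : u ≠ 1)
    (hv1 : v ≠ 1) (hne : u ≠ v) {Z M : Subgroup G} (hZ : ¬ 2 ∣ Nat.card Z) (hZu : u ∈ normalizer (Z : Set G))
    (hZv : v ∈ normalizer (Z : Set G)) (h1 : centralizer ({u} : Set G) ≤ M) (h2 : centralizer ({v} : Set G) ≤ M)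
    (h3 : centralizer ({u * v} : Set G) ≤ M) : Z ≤ M := by
  have : Fact (Nat.Prime 2) := ⟨Nat.prime_two⟩
  have hA : IsElementaryAbelian 2 (four hu hv huv) := by
    have hsq : ∀ a ∈ four hu hv huv, a * a = 1 := by
      rintro _ (rfl | rfl | rfl | rfl)
      · exact one_mul _
      · exact hu
      · exact hv
      · exact uv_sq hu hv huv
    have hsq' : ∀ a : four hu hv huv, a * a = 1 := fun a => Subtype.ext (hsq a a.2)
    refine ⟨⟨⟨fun a b => ?_⟩⟩, fun a ha => ?_⟩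
    · have e1 := hsq' (a * b)
      have ea : a⁻¹ = a := inv_eq_of_mul_eq_one_left (hsq' a)
      have eb : b⁻¹ = b := inv_eq_of_mul_eq_one_left (hsq' b)
      have e2 : (a * b)⁻¹ = a * b := inv_eq_of_mul_eq_one_left e1
      rw [mul_inv_rev, ea, eb] at e2
      exact e2.symm
    · rw [pow_two]; exact hsq a ha
  have hcard : 2 ^ 2 ≤ Nat.card (four hu hv huv) := by
    have huv1 : u * v ≠ 1 := fun e => hne (by
      have := mul_eq_one_iff_eq_inv.1 e
      rwa [inv_eq_of_mul_eq_one_left hv] at this)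
    let g : Fin 4 → four hu hv huv := ![⟨1, Or.inl rfl⟩, ⟨u, Or.inr (Or.inl rfl)⟩, ⟨v, Or.inr (Or.inr (Or.inl rfl))⟩,
      ⟨u * v, Or.inr (Or.inr (Or.inr rfl))⟩]
    have hg : Function.Injective g := by
      have e1 : u ≠ u * v := fun e => hv1 (left_eq_mul.1 e)
      have e2 : v ≠ u * v := fun e => hu1 (right_eq_mul.1 e)
      intro a b hab
      have hab' := congrArg Subtype.val hab
      fin_cases a <;> fin_cases b <;> first | rfl | (exfalso; revert hab'; simp [g, hu1, hv1, hne, huv1, e1, e2,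
        hu1.symm, hv1.symm, hne.symm, huv1.symm, e1.symm, e2.symm])
    have := Nat.card_le_card_of_injective g hg
    simpa using this
  refine (SignalizersComponents.CoprimeGen.le_iSup_centralizer_ne_one hA hcard hZ ?_).trans (iSup_le ?_)
  · rintro _ (rfl | rfl | rfl | rfl)
    · exact one_mem _
    · exact hZu
    · exact hZv
    · exact mul_mem hZu hZv
  · rintro ⟨a, ha, ha1⟩
    refine inf_le_right.trans ?_
    rcases ha with rfl | rfl | rfl | rfl
    · exact absurd rfl ha1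
    · exact h1
    · exact h2
    · exact h3

end gen


/-- **Closing in case I.** -/
theorem eq_top [Finite G] {P : Sylow 2 G} (h : DWr (P : Subgroup G) k f w) (hc : CaseI f w)
    {X : Type*} [Group X] {F : Type*} [Field F] [Fintype F] (hodd : Odd (Fintype.card F)) (h9 : 9 < Fintype.card F)
    {q : ↥(centralizer ({f (c k) 1} : Set G)) →* X} {K : Subgroup X} (hT : CTL (f (c k) 1) F q K) (hP : TPos f q K)
    {i j : ZMod (4 * 2 ^ k)} {a b : G} (ha : RhoS f i a) (hb : RhoS f j b) (hij : pa i ≠ pa j)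
    {M : Subgroup G} (hz : centralizer ({f (c k) (c k)} : Set G) ≤ M) (hM : a * (w * b * w⁻¹) ∈ M) : M = ⊤ := by
  have hS : (P : Subgroup G) ≤ M := by
    intro g hg
    apply hz
    rw [mem_centralizer_singleton_iff]
    exact (z_comm h hg).symm
  obtain ⟨haM, hbM⟩ := rho_mem h ha hb hij hz hS hM
  have hρ := exists_rho h ha hb hij hS haM hbM
  have hwM : w ∈ M := hS (w_mem h)
  have cent_le : ∀ x y : G, CM M x y → centralizer ({x} : Set G) ≤ M → centralizer ({y} : Set G) ≤ M := by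
    rintro x _ ⟨m, hm, rfl⟩ hx
    exact Lib.TwoClassEnd.centralizer_conj_le hm hx
  -- `e = f (sr i) (sr j)`
  have he : ∀ i j : ZMod (4 * 2 ^ k), pa i ≠ pa j → CM M (f (c k) (c k)) (f (sr i) (sr j)) := by
    intro i j hij
    obtain ⟨a, haM, ha⟩ := hρ i
    obtain ⟨b, hbM, hb⟩ := hρ j
    refine ⟨a * (w * b * w⁻¹), mul_mem haM (mul_mem (mul_mem hwM hbM) (inv_mem hwM)), ?_⟩
    have e1 : a * (w * b * w⁻¹) * f (c k) (c k) * (a * (w * b * w⁻¹))⁻¹ =
        a * (w * (b * (w⁻¹ * f (c k) (c k) * w) * b⁻¹) * w⁻¹) * a⁻¹ := by group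
    rw [e1, w_conj' h, f_split h, cj_mul b, hb.t_s, rho_fix_c hb, ← f_split h, w_conj h, f_split h (c k), cj_mul,
      ha.t_s, rho_fix_ne ha hij, ← f_split h]
  -- the core of `C(t)`
  have hO : centralizerPPrimeCore 2 (f (c k) 1) ≤ M := by
    obtain ⟨i', hi', hpi⟩ := LFourA.FThree.pa_src i
    obtain ⟨j', hj', hpj⟩ := LFourA.FThree.pa_src j
    have hnorm : ∀ x, x * f (c k) 1 = f (c k) 1 * x →
        x ∈ normalizer (centralizerPPrimeCore 2 (f (c k) 1) : Set G) := by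
      intro x hx
      have hx' : x⁻¹ * f (c k) 1 = f (c k) 1 * x⁻¹ := by
        rw [inv_mul_eq_iff_eq_mul, ← mul_assoc, hx, mul_inv_cancel_right]
      rw [mem_normalizer_iff]
      intro y
      refine ⟨fun hy => StandardComponent.CentCore.core_conj_mem hx hy, fun hy => ?_⟩
      have h1 := StandardComponent.CentCore.core_conj_mem hx' hy
      have h2 : x⁻¹ * (x * y * x⁻¹) * x⁻¹⁻¹ = y := by group
      rwa [h2] at h1
    have hcard : ¬ 2 ∣ Nat.card (centralizerPPrimeCore 2 (f (c k) 1)) :=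
      (StandardComponent.CentCore.core_odd (f (c k) 1)).not_two_dvd_nat
    refine le_of_pair (u := f (c k) (c k)) (v := f (sr i) (sr j)) ?_ ?_ ?_ ?_ ?_ ?_ hcard ?_ ?_ hz
      (cent_le _ _ (he i j hij) hz) ?_
    · rw [f_sq_one_iff h]; exact ⟨c_mul_c, c_mul_c⟩
    · rw [f_sq_one_iff h]; exact ⟨sr_mul_self i, sr_mul_self j⟩
    · rw [f_comm_iff h]; exact ⟨c_comm _, c_comm _⟩
    · exact z_ne_one h
    · intro e
      exact sr_ne_one i ((f_eq_one_iff h).1 e).1
    · intro e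
      exact sr_ne_c i ((f_eq_iff h).1 e).1.symm
    · apply hnorm
      rw [f_comm_iff h]
      exact ⟨rfl, by rw [mul_one, one_mul]⟩
    · apply hnorm
      rw [f_comm_iff h]
      exact ⟨(c_comm _).symm, by rw [mul_one, one_mul]⟩
    · rw [h.f_mul, c_comm, c_comm, hi', hj']
      exact cent_le _ _ (he i' j' (by rw [hpi, hpj]; exact hij)) hz
  -- the centralizer of `t`
  have ht : centralizer ({f (c k) 1} : Set G) ≤ M := by
    refine LFourA.KlT.centralizer_le hodd (by omega) (by omega) (by omega) hT (t' := f 1 (c k)) (v := f 1 (sr j))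
      (hP.d₂ _) ?_ (t'_ne_one h) hO ?_ ?_ ?_ ?_ (fun h9' => absurd h9' (by omega))
    · rw [f_sq_one_iff h]; exact ⟨one_mul _, c_mul_c⟩
    · intro x hx1 hx2
      apply hz
      rw [mem_centralizer_singleton_iff, f_split h, ← mul_assoc, hx1, mul_assoc, hx2, mul_assoc]
    · refine ⟨w * b * w⁻¹, mul_mem (mul_mem hwM hbM) (inv_mem hwM), ?_, ?_⟩
      · have e1 : (w * b * w⁻¹) * f (c k) 1 = w * (b * (w⁻¹ * f (c k) 1 * w)) * w⁻¹ := by group
        rw [e1, w_conj' h, hb.comm]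
        have e2 : w * (f 1 (c k) * b) * w⁻¹ = (w * f 1 (c k) * w⁻¹) * (w * b * w⁻¹) := by group
        rw [e2, w_conj h]
      · have e1 : (w * b * w⁻¹) * f 1 (c k) * (w * b * w⁻¹)⁻¹ = w * (b * (w⁻¹ * f 1 (c k) * w) * b⁻¹) * w⁻¹ := by group
        rw [e1, w_conj' h, hb.t_s, w_conj h]
    · rw [f_comm_iff h]; exact ⟨rfl, (c_comm _).symm⟩
    · intro e
      exact sr_ne_c j ((f_eq_iff h).1 e).2
  -- the end
  have hzo : orderOf (f (c k) (c k)) = 2 := by
    apply orderOf_eq_prime _ (z_ne_one h)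
    rw [pow_two, f_sq_one_iff h]; exact ⟨c_mul_c, c_mul_c⟩
  have hto : orderOf (f (c k) 1) = 2 := by
    apply orderOf_eq_prime _ (t_ne_one h)
    rw [pow_two, f_sq_one_iff h]; exact ⟨c_mul_c, one_mul _⟩
  refine Lib.TwoClassEnd.eq_top P ?_ {f (c k) (c k), f (c k) 1} ?_ ?_ hto hzo hc.tz
  · -- `N(S) ≤ C(z)`
    intro g hg
    apply hz
    rw [mem_centralizer_singleton_iff]
    have hzS : f (c k) (c k) ∈ (P : Subgroup G) := f_mem h _ _
    have h1 : g * f (c k) (c k) * g⁻¹ ∈ (P : Subgroup G) := (mem_normalizer_iff.1 hg _).1 hzS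
    have h2 : g * f (c k) (c k) * g⁻¹ = f (c k) (c k) := by
      rcases eq_of_central_S h h1 (by
        intro x hx
        have hx' : g⁻¹ * x * g ∈ (P : Subgroup G) := by
          have := (mem_normalizer_iff.1 (inv_mem hg) x).1 hx
          simpa using this
        have h3 := z_comm h hx'
        calc g * f (c k) (c k) * g⁻¹ * x = g * (f (c k) (c k) * (g⁻¹ * x * g)) * g⁻¹ := by group
          _ = g * ((g⁻¹ * x * g) * f (c k) (c k)) * g⁻¹ := by rw [h3]
          _ = x * (g * f (c k) (c k) * g⁻¹) := by group) with h4 | h4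
      · exfalso
        apply z_ne_one h
        have h5 : f (c k) (c k) = g⁻¹ * (g * f (c k) (c k) * g⁻¹) * g := by group
        rw [h5, h4]; group
      · exact h4
    calc g * f (c k) (c k) = (g * f (c k) (c k) * g⁻¹) * g := by group
      _ = _ := by rw [h2]
  · rintro x (rfl | rfl)
    · exact hz
    · exact ht
  · intro v hv hv2
    have hv1 : v ≠ 1 := by
      rintro rfl
      rw [orderOf_one] at hv2; omega
    have hvv : v * v = 1 := by
      rw [← pow_two, ← hv2]; exact pow_orderOf_eq_one v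
    rcases fus h hc hz hS hρ hv hvv hv1 with ⟨m, hm, e⟩ | ⟨m, hm, e⟩
    · exact ⟨_, Or.inl rfl, m, hm, e⟩
    · exact ⟨_, Or.inr rfl, m, hm, e⟩

end Cfsg.Agent.LFourR.CloseA
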