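import Mathlib
import Cfsg.Agent.Lib.PSL2Outer
import Cfsg.Agent.LFourA.FieldInv
import Cfsg.Agent.LFourR.Mat2

/-!
# Involutory automorphisms of `SL(2, F)` without fixed elements of order four
-/

set_option autoImplicit false

namespace Cfsg.Agent.LFourR.FixTorus

open Matrix Cfsg.Agent.Lib.SL2Mat Cfsg.Agent.Lib.AutSL2 Cfsg.Agent.Lib.AutSL2Out
open Cfsg.Agent.Lib.PSL2Circle Cfsg.Agent.Lib.PSL2Inv Cfsg.Agent.Lib.PSL2Torus Cfsg.Agent.Lib.PSL2Outer
open Cfsg.Agent.LFourA.FieldInv Cfsg.Agent.LFourR.Mat2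

variable {F : Type*} [Field F]

/-- The fixed points in `SL(2, F)` of the conjugation by a matrix of trace `0` and nonsquare determinant. -/
theorem fixed_cyclic [Finite F] (h2 : (2 : F) ≠ 0) (g : GL (Fin 2) F) (htr : g.1 1 1 = - g.1 0 0)
    (hnsq : ¬ IsSquare g.1.det) (A : Subgroup (Matrix.SpecialLinearGroup (Fin 2) F))
    (hmemA : ∀ x, x ∈ A ↔ conjGL g x = x) :
    IsCyclic A ∧ ((Nat.card F % 4 = 1 ∧ Nat.card A = Nat.card F + 1) ∨
        (Nat.card F % 4 = 3 ∧ Nat.card A = Nat.card F - 1)) := by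
  set P := g.1 0 0 with hP
  set Q := g.1 0 1 with hQ
  set R := g.1 1 0 with hR
  set d := g.1.det with hdd
  have hdet : d = -(P ^ 2 + Q * R) := by
    rw [hdd, det_fin_two, htr, ← hP, ← hQ, ← hR]; ring
  have hd0 : d ≠ 0 := (Matrix.GeneralLinearGroup.det g).ne_zero
  let cm : Conic F (-d) → Matrix.SpecialLinearGroup (Fin 2) F := fun p =>
    mk (p.re + p.im * P) (p.im * Q) (p.im * R) (p.re - p.im * P) (by
      linear_combination p.eqn - p.im ^ 2 * hdet)
  have cval : ∀ q : Conic F (-d), (cm q).1 = q.re • (1 : Matrix (Fin 2) (Fin 2) F) + q.im • g.1 := by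
    intro q
    ext a b
    fin_cases a <;> fin_cases b
    · change q.re + q.im * P = _
      simp [hP]
    · change q.im * Q = _
      simp [hQ]
    · change q.im * R = _
      simp [hR]
    · change q.re - q.im * P = _
      simp [htr]
      ring
  have cmem : ∀ q, cm q ∈ A := by
    intro q
    rw [hmemA, conj_eq_iff, cval]
    simp only [Matrix.mul_add, Matrix.add_mul, Matrix.mul_smul, Matrix.smul_mul, Matrix.mul_one,
      Matrix.one_mul]
  have cinj : ∀ p q, cm p = cm q → p = q := by
    intro p q h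
    have a00 := congrArg (fun x => ent x 0 0) h
    have a01 := congrArg (fun x => ent x 0 1) h
    have a10 := congrArg (fun x => ent x 1 0) h
    have a11 := congrArg (fun x => ent x 1 1) h
    change p.re + p.im * P = q.re + q.im * P at a00
    change p.im * Q = q.im * Q at a01
    change p.im * R = q.im * R at a10
    change p.re - p.im * P = q.re - q.im * P at a11
    have ha : p.re = q.re := mul_left_cancel₀ h2 (by linear_combination a00 + a11)
    have hb : p.im = q.im := by
      have h3 : (p.im - q.im) * P = 0 := by rw [ha] at a00; linear_combination a00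
      have h4 : (p.im - q.im) * Q = 0 := by linear_combination a01
      have h5 : (p.im - q.im) * d = 0 := by
        linear_combination -P * h3 - R * h4 + (p.im - q.im) * hdet
      rcases mul_eq_zero.1 h5 with h6 | h6
      · exact sub_eq_zero.1 h6
      · exact absurd h6 hd0
    exact Conic.ext ha hb
  have csurj : ∀ x ∈ A, ∃ q, cm q = x := by
    intro x hx
    rw [hmemA, conj_eq_iff] at hx
    have b00 := congrFun (congrFun hx 0) 0
    have b01 := congrFun (congrFun hx 0) 1
    have b10 := congrFun (congrFun hx 1) 0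
    rw [Matrix.mul_apply, Fin.sum_univ_two, Matrix.mul_apply, Fin.sum_univ_two] at b00 b01 b10
    rw [htr, ← hP, ← hQ] at b01
    rw [htr, ← hP, ← hR] at b10
    rw [← hQ, ← hR] at b00
    obtain ⟨a, b, e1, e2, e3, e4⟩ := exists_lin h2 (P := P) (Q := Q) (R := R) rfl
      (by intro h; apply hd0; rw [hdet, h, neg_zero])
      (A := x.1 0 0) (B := x.1 0 1) (C := x.1 1 0) (D := x.1 1 1)
      (by linear_combination -b00) (by linear_combination -b01) (by linear_combination -b10)
    have hdx := det_eq x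
    change x.1 0 0 * x.1 1 1 - x.1 0 1 * x.1 1 0 = 1 at hdx
    refine ⟨⟨a, b, ?_⟩, ext_ent ?_ ?_ ?_ ?_⟩
    · rw [e1, e2, e3, e4] at hdx
      linear_combination hdx + b ^ 2 * hdet
    · exact e1.symm
    · exact e2.symm
    · exact e3.symm
    · exact e4.symm
  have hcardA : Nat.card A = Nat.card (Conic F (-d)) := by
    symm
    refine Nat.card_congr (Equiv.ofBijective (fun p => (⟨cm p, cmem p⟩ : A)) ⟨?_, ?_⟩)
    · intro p q h
      exact cinj p q (congrArg Subtype.val h)
    · rintro ⟨x, hx⟩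
      obtain ⟨q, hq⟩ := csurj x hx
      exact ⟨q, Subtype.ext hq⟩
  -- cyclic
  have hAcyc : IsCyclic A := by
    obtain ⟨ι, hι⟩ : ∃ ι : AlgebraicClosure F, ι * ι = algebraMap F (AlgebraicClosure F) (-d) := by
      obtain ⟨ι, hι⟩ := IsAlgClosed.exists_eq_mul_self (algebraMap F (AlgebraicClosure F) (-d))
      exact ⟨ι, hι.symm⟩
    let φ := algebraMap F (AlgebraicClosure F)
    have hι' : ι * ι = φ (-d) := hι
    have hι0 : ι ≠ 0 := by
      rintro rfl
      rw [mul_zero] at hι'
      have : -d = 0 := φ.injective (by rw [← hι', map_zero])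
      exact hd0 (neg_eq_zero.1 this)
    have h2' : (2 : AlgebraicClosure F) ≠ 0 := by
      intro h
      apply h2
      apply φ.injective
      rw [map_ofNat, map_zero, h]
    let re : Matrix.SpecialLinearGroup (Fin 2) F → F := fun x => (ent x 0 0 + ent x 1 1) / 2
    let im : Matrix.SpecialLinearGroup (Fin 2) F → F := fun x =>
      (((ent x 0 0 - ent x 1 1) / 2 * P + ent x 0 1 * R)) / (-d)
    have hre : ∀ p : Conic F (-d), re (cm p) = p.re := by
      intro p
      change ((p.re + p.im * P) + (p.re - p.im * P)) / 2 = p.re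
      field_simp
      ring
    have him : ∀ p : Conic F (-d), im (cm p) = p.im := by
      intro p
      change ((((p.re + p.im * P) - (p.re - p.im * P)) / 2 * P + (p.im * Q) * R)) / (-d) = p.im
      rw [div_eq_iff (neg_ne_zero.2 hd0)]
      have e : ((p.re + p.im * P) - (p.re - p.im * P)) / 2 = p.im * P := by
        field_simp
        ring
      rw [e]
      linear_combination p.im * hdet
    let f0 : A → AlgebraicClosure F := fun x => φ (re x.1) + φ (im x.1) * ι
    have hf1 : f0 1 = 1 := by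
      have h1 : (1 : Matrix.SpecialLinearGroup (Fin 2) F) = cm ⟨1, 0, by simp⟩ := by
        refine ext_ent ?_ ?_ ?_ ?_
        · change (1 : F) = 1 + 0 * P
          ring
        · change (0 : F) = 0 * Q
          ring
        · change (0 : F) = 0 * R
          ring
        · change (1 : F) = 1 - 0 * P
          ring
      change φ (re 1) + φ (im 1) * ι = 1
      rw [h1, hre, him]
      simp
    have hfm : ∀ x y, f0 (x * y) = f0 x * f0 y := by
      rintro ⟨x, hx⟩ ⟨y, hy⟩
      obtain ⟨p, rfl⟩ := csurj x hx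
      obtain ⟨q, rfl⟩ := csurj y hy
      have hp := p.eqn
      have hq := q.eqn
      let r : Conic F (-d) := ⟨p.re * q.re + (-d) * (p.im * q.im), p.re * q.im + p.im * q.re, by
        linear_combination (q.re ^ 2 - (-d) * q.im ^ 2) * hp + hq⟩
      have hr : cm p * cm q = cm r := by
        refine ext_ent ?_ ?_ ?_ ?_
        · rw [ent_mul]
          change (p.re + p.im * P) * (q.re + q.im * P) + (p.im * Q) * (q.im * R) =
            (p.re * q.re + (-d) * (p.im * q.im)) + (p.re * q.im + p.im * q.re) * P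
          linear_combination p.im * q.im * hdet
        · rw [ent_mul]
          change (p.re + p.im * P) * (q.im * Q) + (p.im * Q) * (q.re - q.im * P) =
            (p.re * q.im + p.im * q.re) * Q
          ring
        · rw [ent_mul]
          change (p.im * R) * (q.re + q.im * P) + (p.re - p.im * P) * (q.im * R) =
            (p.re * q.im + p.im * q.re) * R
          ring
        · rw [ent_mul]
          change (p.im * R) * (q.im * Q) + (p.re - p.im * P) * (q.re - q.im * P) =
            (p.re * q.re + (-d) * (p.im * q.im)) - (p.re * q.im + p.im * q.re) * P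
          linear_combination p.im * q.im * hdet
      change φ (re (cm p * cm q)) + φ (im (cm p * cm q)) * ι =
        (φ (re (cm p)) + φ (im (cm p)) * ι) * (φ (re (cm q)) + φ (im (cm q)) * ι)
      rw [hr, hre, him, hre, him, hre, him]
      change φ (p.re * q.re + (-d) * (p.im * q.im)) + φ (p.re * q.im + p.im * q.re) * ι = _
      rw [map_add, map_add, map_mul, map_mul, map_mul, map_mul, map_mul]
      linear_combination -φ p.im * φ q.im * hι'
    let f : A →* AlgebraicClosure F := ⟨⟨f0, hf1⟩, hfm⟩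
    refine isCyclic_of_injective_ringHom f ?_
    have hker : ∀ x, f x = 1 → x = 1 := by
      rintro ⟨x, hx⟩ hfx
      obtain ⟨p, rfl⟩ := csurj x hx
      change φ (re (cm p)) + φ (im (cm p)) * ι = 1 at hfx
      rw [hre, him] at hfx
      have h1 : φ p.re ^ 2 - φ (-d) * φ p.im ^ 2 = 1 := by
        rw [← map_pow, ← map_pow, ← map_mul, ← map_sub, p.eqn, map_one]
      have h3 : φ p.re - φ p.im * ι = 1 := by
        have : (φ p.re + φ p.im * ι) * (φ p.re - φ p.im * ι) = 1 := by
          linear_combination h1 - φ p.im ^ 2 * hι'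
        rwa [hfx, one_mul] at this
      have h4 : φ p.re = 1 := by
        have : (2 : AlgebraicClosure F) * φ p.re = 2 * 1 := by linear_combination hfx + h3
        exact mul_left_cancel₀ h2' this
      have h5 : φ p.im = 0 := by
        have : (2 : AlgebraicClosure F) * (φ p.im * ι) = 0 := by linear_combination hfx - h3
        rcases mul_eq_zero.1 this with h | h
        · exact absurd h h2'
        · rcases mul_eq_zero.1 h with h | h
          · exact h
          · exact absurd h hι0
      have h6 : p.re = 1 := φ.injective (by rw [h4, map_one])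
      have h7 : p.im = 0 := φ.injective (by rw [h5, map_zero])
      apply Subtype.ext
      change cm p = 1
      refine ext_ent ?_ ?_ ?_ ?_
      · change p.re + p.im * P = 1
        rw [h6, h7]; ring
      · change p.im * Q = 0
        rw [h7]; ring
      · change p.im * R = 0
        rw [h7]; ring
      · change p.re - p.im * P = 1
        rw [h6, h7]; ring
    exact (injective_iff_map_eq_one f).2 hker
  refine ⟨hAcyc, ?_⟩
  rw [hcardA]
  exact card_conic h2 hnsq

theorem conj_neg_one (h : GL (Fin 2) F) : conjGL h (-1) = -1 := conjGL_neg_one h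

/-- An involutory automorphism of `SL(2,F)` fixing no square root of `-1` is induced by `GL(2,F)`. -/
theorem exists_form [Finite F] (h2 : (2 : F) ≠ 0) {α : MulAut (Matrix.SpecialLinearGroup (Fin 2) F)}
    (hα : ∀ x, α (α x) = x) (hno : ∀ x, x * x = -1 → α x ≠ x) :
    ∃ g : GL (Fin 2) F, ∀ x, α x = conjGL g x := by
  obtain ⟨g, σ, hgσ'⟩ := exists_gl_ringEquiv (MonoidHom.id (Matrix.SpecialLinearGroup (Fin 2) F))
    Function.surjective_id (by
      intro x hx
      rw [MonoidHom.mem_ker] at hx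
      rw [show x = 1 from hx]
      exact one_mem _) α
  have hgσ : ∀ x, α x = conjGL g (fieldAut σ x) := hgσ'
  have hsemi : ∀ (k : GL (Fin 2) F) (x), fieldAut σ (conjGL k x) =
      conjGL (Matrix.GeneralLinearGroup.map σ.toRingHom k) (fieldAut σ x) := by
    intro k x
    have := DFunLike.congr_fun (fieldAut_mul_conjGL σ k) x
    rwa [MulAut.mul_apply, MulAut.mul_apply] at this
  have hsq : ∀ x, conjGL (g * Matrix.GeneralLinearGroup.map σ.toRingHom g) (fieldAut (σ * σ) x) = x ∨
      conjGL (g * Matrix.GeneralLinearGroup.map σ.toRingHom g) (fieldAut (σ * σ) x) = -x := by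
    intro x
    left
    have h1 := hα x
    rw [hgσ, hgσ, hsemi] at h1
    have h5 : conjGL (g * Matrix.GeneralLinearGroup.map σ.toRingHom g) (fieldAut (σ * σ) x) =
        conjGL g (conjGL (Matrix.GeneralLinearGroup.map σ.toRingHom g) (fieldAut σ (fieldAut σ x))) := by
      rw [map_mul, map_mul]; rfl
    rw [h5]
    exact h1
  obtain ⟨hσ, c, hc, hgc⟩ := eq_one_of_map h2 hsq
  have hσ2 : ∀ a, σ (σ a) = a := fun a => DFunLike.congr_fun hσ a
  by_cases hσ1 : σ = 1
  · subst hσ1
    exact ⟨g, fun x => by rw [hgσ, map_one, MulAut.one_apply]⟩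
  exfalso
  have hσne : ∃ a, σ a ≠ a := by
    by_contra hcon
    push Not at hcon
    exact hσ1 (RingEquiv.ext hcon)
  have hmap : (Matrix.GeneralLinearGroup.map σ.toRingHom g).1 = g.1.map σ := rfl
  have hgc' : g.1 * g.1.map σ = c • (1 : Matrix (Fin 2) (Fin 2) F) := by
    rw [← hmap, ← Units.val_mul, hgc]
  -- `c` is fixed by `σ`
  have hgc2 : g.1.map σ * g.1 = σ c • (1 : Matrix (Fin 2) (Fin 2) F) := by
    have h1 := congrArg (fun M : Matrix (Fin 2) (Fin 2) F => σ.toRingHom.mapMatrix M) hgc'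
    simp only [map_mul] at h1
    have h3 : σ.toRingHom.mapMatrix (g.1.map σ) = g.1 := by
      ext i j
      exact hσ2 _
    have h4 : σ.toRingHom.mapMatrix (c • (1 : Matrix (Fin 2) (Fin 2) F)) =
        σ c • (1 : Matrix (Fin 2) (Fin 2) F) := by
      ext i j
      change σ (c * (1 : Matrix (Fin 2) (Fin 2) F) i j) = σ c * (1 : Matrix (Fin 2) (Fin 2) F) i j
      rw [map_mul]
      congr 1
      by_cases hij : i = j
      · rw [hij, Matrix.one_apply_eq, map_one]
      · rw [Matrix.one_apply_ne hij, map_zero]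
    rw [h3, h4] at h1
    exact h1
  have hcσ : σ c = c := by
    have h1 : g.1.map σ * (g.1 * g.1.map σ) = c • g.1.map σ := by
      rw [hgc', Matrix.mul_smul, Matrix.mul_one]
    rw [← Matrix.mul_assoc, hgc2, Matrix.smul_mul, Matrix.one_mul] at h1
    by_contra hne
    have h3 : (σ c - c) • g.1.map σ = 0 := by rw [sub_smul, h1, sub_self]
    have h4 : g.1.map σ = 0 := (smul_eq_zero.1 h3).resolve_left (sub_ne_zero.2 hne)
    rw [h4, Matrix.mul_zero] at hgc'
    have := congrFun (congrFun hgc' 0) 0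
    simp at this
    exact hc this.symm
  have hσid : σ.toRingHom ≠ RingHom.id F := by
    intro h
    obtain ⟨a, ha⟩ := hσne
    exact ha (DFunLike.congr_fun h a)
  obtain ⟨μ, hμ⟩ := Cfsg.Agent.ClassicalGeometry.InvolutiveNorm.exists_mul_sigma_eq
    (σ := σ.toRingHom) hσid hσ2 (a := c⁻¹) (by
      change σ c⁻¹ = c⁻¹
      rw [map_inv₀, hcσ])
  have hμ' : μ * σ μ = c⁻¹ := hμ
  have hμ0 : μ ≠ 0 := by
    rintro rfl
    rw [zero_mul] at hμ'
    exact inv_ne_zero hc hμ'.symm
  have hA : (μ • g.1) * (μ • g.1).map σ = 1 := by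
    have h1 : (μ • g.1).map σ = σ μ • g.1.map σ := by
      ext i j
      change σ (μ * g.1 i j) = σ μ * σ (g.1 i j)
      rw [map_mul]
    rw [h1, Matrix.smul_mul, Matrix.mul_smul, hgc', smul_smul, smul_smul, hμ',
      inv_mul_cancel₀ hc, one_smul]
  obtain ⟨B, hBu, hB⟩ := hilbert σ hσ2 hσne (μ • g.1) hA
  obtain ⟨h, rfl⟩ := hBu
  have key : ∀ x, α (conjGL h x) = conjGL h (fieldAut σ x) := by
    intro x
    rw [hgσ, hsemi]
    have h1 : conjGL g (conjGL (Matrix.GeneralLinearGroup.map σ.toRingHom h) (fieldAut σ x)) =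
        conjGL (g * Matrix.GeneralLinearGroup.map σ.toRingHom h) (fieldAut σ x) := by
      rw [map_mul]; rfl
    rw [h1]
    apply conjGL_smul (c := μ⁻¹)
    have h3 : (Matrix.GeneralLinearGroup.map σ.toRingHom h).1 = h.1.map σ := rfl
    have h5 : μ⁻¹ • h.1 = μ⁻¹ • (μ • g.1 * h.1.map σ) := by rw [hB]
    rw [Units.val_mul, h3, h5, Matrix.smul_mul, smul_smul, inv_mul_cancel₀ hμ0, one_smul]
  set w0 : Matrix.SpecialLinearGroup (Fin 2) F := mk 0 (-1) 1 0 (by ring) with hw0
  have hw0sq : w0 * w0 = -1 := by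
    refine ext_ent ?_ ?_ ?_ ?_
    · rw [ent_mul]; change (0 : F) * 0 + -1 * 1 = -1; ring
    · rw [ent_mul]; change (0 : F) * -1 + -1 * 0 = -0; ring
    · rw [ent_mul]; change (1 : F) * 0 + 0 * 1 = -0; ring
    · rw [ent_mul]; change (1 : F) * -1 + 0 * 0 = -1; ring
  have hw0σ : fieldAut σ w0 = w0 := by
    refine ext_ent ?_ ?_ ?_ ?_
    · change σ 0 = 0; exact map_zero σ
    · change σ (-1) = -1; rw [map_neg, map_one]
    · change σ 1 = 1; exact map_one σ
    · change σ 0 = 0; exact map_zero σ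
  refine hno (conjGL h w0) ?_ ?_
  · rw [← map_mul, hw0sq, conjGL_neg_one]
  · rw [key, hw0σ]

/-- **Involutory automorphisms of `SL(2,F)` without fixed elements of order four.** -/
theorem main [Finite F] (h2 : (2 : F) ≠ 0) {α : MulAut (Matrix.SpecialLinearGroup (Fin 2) F)}
    (hα : ∀ x, α (α x) = x) (hno : ∀ x, x * x = -1 → α x ≠ x)
    (T : Subgroup (Matrix.SpecialLinearGroup (Fin 2) F)) (hT : ∀ x, x ∈ T ↔ α x = x) :
    IsCyclic T ∧ ((Nat.card F % 4 = 1 ∧ Nat.card T = Nat.card F + 1) ∨
        (Nat.card F % 4 = 3 ∧ Nat.card T = Nat.card F - 1)) := by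
  obtain ⟨g, hg⟩ := exists_form h2 hα hno
  have hsc : ∀ x : Matrix.SpecialLinearGroup (Fin 2) F, conjGL (g * g) x = x := by
    intro x
    rw [map_mul, MulAut.mul_apply, ← hg, ← hg, hα]
  have hns : ¬ IsSc g.1 := by
    intro h
    set w0 : Matrix.SpecialLinearGroup (Fin 2) F := mk 0 (-1) 1 0 (by ring) with hw0
    have hw0sq : w0 * w0 = -1 := by
      refine ext_ent ?_ ?_ ?_ ?_
      · rw [ent_mul]; change (0 : F) * 0 + -1 * 1 = -1; ring
      · rw [ent_mul]; change (0 : F) * -1 + -1 * 0 = -0; ring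
      · rw [ent_mul]; change (1 : F) * 0 + 0 * 1 = -0; ring
      · rw [ent_mul]; change (1 : F) * -1 + 0 * 0 = -1; ring
    refine hno w0 hw0sq ?_
    rw [hg, conjGL_eq_one_of_isSc h, MulAut.one_apply]
  have htr0 : g.1.trace = 0 := by
    refine trace_eq_zero_of_sq hns ?_
    have h1 : IsSc (g * g).1 := isSc_of_conjGL_eq_one (MulEquiv.ext hsc)
    exact h1
  have htr : g.1 1 1 = - g.1 0 0 := by
    rw [Matrix.trace_fin_two] at htr0
    linear_combination htr0
  refine fixed_cyclic h2 g htr ?_ T (fun x => by rw [hT, hg])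
  rintro ⟨e, he⟩
  have hd0 : g.1.det ≠ 0 := (Matrix.GeneralLinearGroup.det g).ne_zero
  have he0 : e ≠ 0 := by
    rintro rfl
    rw [mul_zero] at he
    exact hd0 he
  have hdet : g.1.det = -(g.1 0 0 ^ 2 + g.1 0 1 * g.1 1 0) := by
    rw [det_fin_two, htr]; ring
  rw [hdet] at he
  have hee : e⁻¹ * e⁻¹ * (g.1 0 0 ^ 2 + g.1 0 1 * g.1 1 0) = -1 := by
    have : g.1 0 0 ^ 2 + g.1 0 1 * g.1 1 0 = -(e * e) := by linear_combination -he
    rw [this]; field_simp
  set s : Matrix.SpecialLinearGroup (Fin 2) F := mk (e⁻¹ * g.1 0 0) (e⁻¹ * g.1 0 1) (e⁻¹ * g.1 1 0) (e⁻¹ * -g.1 0 0)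
    (by linear_combination -hee) with hs
  have hsv : s.1 = e⁻¹ • g.1 := by
    ext a b
    fin_cases a <;> fin_cases b
    · rfl
    · rfl
    · rfl
    · change e⁻¹ * -g.1 0 0 = e⁻¹ * g.1 1 1
      rw [htr]
  refine hno s ?_ ?_
  · refine ext_ent ?_ ?_ ?_ ?_
    · rw [ent_mul]
      change e⁻¹ * g.1 0 0 * (e⁻¹ * g.1 0 0) + e⁻¹ * g.1 0 1 * (e⁻¹ * g.1 1 0) = -1
      linear_combination hee
    · rw [ent_mul]
      change e⁻¹ * g.1 0 0 * (e⁻¹ * g.1 0 1) + e⁻¹ * g.1 0 1 * (e⁻¹ * -g.1 0 0) = -0
      ring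
    · rw [ent_mul]
      change e⁻¹ * g.1 1 0 * (e⁻¹ * g.1 0 0) + e⁻¹ * -g.1 0 0 * (e⁻¹ * g.1 1 0) = -0
      ring
    · rw [ent_mul]
      change e⁻¹ * g.1 1 0 * (e⁻¹ * g.1 0 1) + e⁻¹ * -g.1 0 0 * (e⁻¹ * -g.1 0 0) = -1
      linear_combination hee
  · rw [hg, conj_eq_iff, hsv, Matrix.mul_smul, Matrix.smul_mul]

end Cfsg.Agent.LFourR.FixTorus
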