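import Mathlib
import Cfsg.Agent.LFourR.SideEx

/-!
Gluing data: a group `C = ι(S) T ⟨f⟩`, where `T` is central in `ι(S) T`, and `f` of index two.

Targets (see the board, S0510 [GLUE]):

(A) two gluing data with the same `S, α, ζ, t1` and an isomorphism `ψ : T ≃* T'` with `ψ (ι ζ) = ι' ζ`, `ψ u = u'`
    (`T`, `T'` contain `ι ζ`, `u`) have isomorphic groups.
(B) quotient by a normal subgroup `Z ≤ T` of odd order is again gluing data (with `mk ∘ ι`, `T.map mk`, `mk f`, `mk u`).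
(C) the two conclusions `quotGL`, `quotGU`.
-/

set_option autoImplicit false

namespace Cfsg.Agent.LFourR

open Subgroup

/-- `C = ι(S) T ∪ ι(S) T f` -/
structure Glue {S C : Type*} [Group S] [Group C] (ι : S →* C) (T : Subgroup C) (f : C) (α : MulAut S) (ζ t1 : S)
    (u : C) : Prop where
  inj : Function.Injective ι
  comm : ∀ x, ∀ t ∈ T, ι x * t = t * ι x
  inter : ∀ x, ι x ∈ T ↔ x = 1 ∨ x = ζ
  f_T : ∀ t ∈ T, f * t = t * f
  f_ι : ∀ x, f * ι x = ι (α x) * f
  f_sq : f * f = ι t1 * u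
  u_mem : u ∈ T
  cover : ∀ c, ∃ x, ∃ t ∈ T, c = ι x * t ∨ c = ι x * t * f
  f_not : ∀ x, ∀ t ∈ T, f ≠ ι x * t

/-- the data on the side of the simple group: `S = SL(2, F)`, `a` of order `N` fixed by `α`, `k = 1` or `2` -/
structure GlueSL {F : Type*} [Field F] [Fintype F] {C : Type*} [Group C] (ε : ℤ) (N k m : ℕ)
    (ι : Matrix.SpecialLinearGroup (Fin 2) F →* C) (T : Subgroup C) (f : C)
    (α : MulAut (Matrix.SpecialLinearGroup (Fin 2) F)) (a t1 : Matrix.SpecialLinearGroup (Fin 2) F) (u : C) : Prop where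
  nums : Nums F ε N k
  glue : Glue ι T f α (-1) t1 u
  ord : orderOf a = N
  fix : α a = a
  ne : α ≠ 1
  cyc : IsCyclic T
  card : Nat.card T = m * 2 ^ k
  dvd : m ∣ N
  cases : (k = 1 ∧ t1 = 1 ∧ u = 1) ∨ (k = 2 ∧ t1 * t1 = -1 ∧ u * u = ι (-1))

end Cfsg.Agent.LFourR
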