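import Cfsg.Agent.LFourR.GlueMod

/-!
# [GLUE] (C+): the model `GL₂(q)`
-/

set_option autoImplicit false

namespace Cfsg.Agent.LFourR.GlueGL

open Matrix Subgroup

variable {F : Type*} [Field F] [Fintype F]

/-- diagonal matrices -/
def dgl (a b : Fˣ) : GL (Fin 2) F where
  val := !![(a : F), 0; 0, (b : F)]
  inv := !![((a⁻¹ : Fˣ) : F), 0; 0, ((b⁻¹ : Fˣ) : F)]
  val_inv := by
    ext i j
    fin_cases i <;> fin_cases j <;> simp [Matrix.mul_apply, Fin.sum_univ_two]
  inv_val := by
    ext i j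
    fin_cases i <;> fin_cases j <;> simp [Matrix.mul_apply, Fin.sum_univ_two]

omit [Fintype F] in
theorem dgl_val (a b : Fˣ) : (dgl a b).1 = !![(a : F), 0; 0, (b : F)] := rfl

omit [Fintype F] in
theorem val_mul (a b : GL (Fin 2) F) : (a * b).1 = a.1 * b.1 := rfl

omit [Fintype F] in
theorem dgl_mul (a b c d : Fˣ) : dgl a b * dgl c d = dgl (a * c) (b * d) := by
  apply Units.ext
  rw [val_mul, dgl_val, dgl_val, dgl_val]
  ext i j
  fin_cases i <;> fin_cases j <;> simp [Matrix.mul_apply, Fin.sum_univ_two]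

omit [Fintype F] in
theorem dgl_one : dgl (1 : Fˣ) 1 = 1 := by
  apply Units.ext
  rw [dgl_val]
  change _ = (1 : Matrix (Fin 2) (Fin 2) F)
  ext i j
  fin_cases i <;> fin_cases j <;> simp

/-- scalars -/
def sc : Fˣ →* GL (Fin 2) F where
  toFun a := dgl a a
  map_one' := dgl_one
  map_mul' _ _ := (dgl_mul _ _ _ _).symm

/-- `diag(1, a)` -/
def d2 : Fˣ →* GL (Fin 2) F where
  toFun a := dgl 1 a
  map_one' := dgl_one
  map_mul' _ _ := by rw [dgl_mul, mul_one]

/-- `diag(a, a⁻¹)` -/
def tS : Fˣ →* Matrix.SpecialLinearGroup (Fin 2) F where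
  toFun a := ⟨!![(a : F), 0; 0, ((a⁻¹ : Fˣ) : F)], by rw [Matrix.det_fin_two_of]; simp⟩
  map_one' := by
    apply Subtype.ext
    change (!![((1 : Fˣ) : F), 0; 0, (((1 : Fˣ)⁻¹ : Fˣ) : F)] : Matrix (Fin 2) (Fin 2) F) = 1
    ext i j
    fin_cases i <;> fin_cases j <;> simp
  map_mul' a b := by
    apply Subtype.ext
    change (!![((a * b : Fˣ) : F), 0; 0, (((a * b)⁻¹ : Fˣ) : F)] : Matrix (Fin 2) (Fin 2) F) =
      !![(a : F), 0; 0, ((a⁻¹ : Fˣ) : F)] * !![(b : F), 0; 0, ((b⁻¹ : Fˣ) : F)]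
    ext i j
    fin_cases i <;> fin_cases j <;> simp [Matrix.mul_apply, Fin.sum_univ_two, mul_comm]

omit [Fintype F] in
theorem tS_val (a : Fˣ) : (tS a).1 = !![(a : F), 0; 0, ((a⁻¹ : Fˣ) : F)] := rfl

/-- `SL → GL` -/
def toGL : Matrix.SpecialLinearGroup (Fin 2) F →* GL (Fin 2) F := Matrix.SpecialLinearGroup.toGL

omit [Fintype F] in
theorem toGL_val (x : Matrix.SpecialLinearGroup (Fin 2) F) : (toGL x).1 = x.1 := rfl

omit [Fintype F] in
theorem neg_of_sq {a : Fˣ} (h : a * a = 1) (h1 : a ≠ 1) : (a : F) = -1 := by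
  have h2 : (a : F) * (a : F) = 1 := by
    have := congrArg (fun x : Fˣ => (x : F)) h
    exact this
  rcases mul_self_eq_one_iff.1 h2 with h3 | h3
  · exact absurd (Units.ext h3) h1
  · exact h3

/-- the Weyl element -/
def wl (F : Type*) [Field F] : Matrix.SpecialLinearGroup (Fin 2) F := ⟨!![0, 1; -1, 0], by rw [Matrix.det_fin_two_of]; simp⟩

omit [Fintype F] in
theorem wl_val : (wl F).1 = !![0, 1; -1, 0] := rfl

omit [Fintype F] in
theorem mod (h2 : (2 : F) ≠ 0) : Mod (toGL (F := F)) Matrix.GeneralLinearGroup.det sc d2 tS (-1) := by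
  refine
    { inj := ?_
      ker := ?_
      sc_comm := ?_
      D_sc := ?_
      D_d2 := ?_
      sq := ?_
      d2_comm := ?_
      t_inj := ?_
      sc_neg := ?_
      t_neg := ?_
      z_ne := ?_
      non := ?_ }
  · intro x y h
    exact Subtype.ext (congrArg Units.val h)
  · intro x
    constructor
    · intro hx
      have h3 : x.1.det = 1 := congrArg Units.val hx
      exact ⟨⟨x.1, h3⟩, Units.ext rfl⟩
    · rintro ⟨y, rfl⟩
      exact Units.ext y.2
  · intro a x
    apply Units.ext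
    rw [val_mul, val_mul]
    change (dgl a a).1 * x.1 = x.1 * (dgl a a).1
    rw [dgl_val]
    have : (!![(a : F), 0; 0, (a : F)] : Matrix (Fin 2) (Fin 2) F) = (a : F) • (1 : Matrix (Fin 2) (Fin 2) F) := by
      ext i j
      fin_cases i <;> fin_cases j <;> simp
    rw [this, Matrix.smul_mul, Matrix.mul_smul, Matrix.one_mul, Matrix.mul_one]
  · intro a
    apply Units.ext
    change (dgl a a).1.det = _
    rw [dgl_val, Matrix.det_fin_two_of]
    simp
  · intro a
    apply Units.ext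
    change (dgl 1 a).1.det = _
    rw [dgl_val, Matrix.det_fin_two_of]
    simp
  · intro a
    have h3 : toGL (tS a) * (d2 a * d2 a) = sc a := by
      apply Units.ext
      rw [val_mul, val_mul, toGL_val, tS_val]
      change _ * ((dgl 1 a).1 * (dgl 1 a).1) = (dgl a a).1
      rw [dgl_val, dgl_val]
      ext i j
      fin_cases i <;> fin_cases j <;> simp [Matrix.mul_apply, Fin.sum_univ_two]
    rw [map_inv, ← h3]
    group
  · intro a b
    apply Units.ext
    rw [val_mul, val_mul, toGL_val, tS_val]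
    change (dgl 1 a).1 * _ = _ * (dgl 1 a).1
    rw [dgl_val]
    ext i j
    fin_cases i <;> fin_cases j <;> simp [Matrix.mul_apply, Fin.sum_univ_two, mul_comm]
  · intro a b h
    have h3 := congrFun (congrFun (congrArg Subtype.val h) 0) 0
    exact Units.ext h3
  · intro a ha ha1
    apply Units.ext
    change (dgl a a).1 = (toGL (-1)).1
    rw [dgl_val, toGL_val, neg_of_sq ha ha1]
    ext i j
    fin_cases i <;> fin_cases j <;> simp
  · intro a ha ha1
    apply Subtype.ext
    have h4 : ((a⁻¹ : Fˣ) : F) = -1 := by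
      have : a⁻¹ = a := inv_eq_of_mul_eq_one_left ha
      rw [this]; exact neg_of_sq ha ha1
    rw [tS_val, h4, neg_of_sq ha ha1]
    ext i j
    fin_cases i <;> fin_cases j <;> simp
  · intro h
    have h3 := congrFun (congrFun (congrArg Subtype.val h) 0) 0
    simp only [Matrix.SpecialLinearGroup.coe_neg, Matrix.SpecialLinearGroup.coe_one, Matrix.neg_apply,
      Matrix.one_apply_eq] at h3
    apply h2
    linear_combination -h3
  · intro a ha
    refine ⟨wl F, fun h => ha ?_⟩
    have h5 := congrArg Units.val h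
    rw [val_mul, val_mul, toGL_val, wl_val] at h5
    change (dgl 1 a).1 * !![0, 1; -1, 0] = !![0, 1; -1, 0] * (dgl 1 a).1 at h5
    rw [dgl_val] at h5
    have h6 := congrFun (congrFun h5 0) 1
    simp [Matrix.mul_apply, Fin.sum_univ_two] at h6
    exact Units.ext (by rw [← h6]; rfl)

omit [Fintype F] in
theorem sc_le_center : (sc (F := F)).range ≤ center (GL (Fin 2) F) := by
  rintro _ ⟨a, rfl⟩
  rw [mem_center_iff]
  intro x
  apply Units.ext
  rw [val_mul, val_mul]
  change x.1 * (dgl a a).1 = (dgl a a).1 * x.1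
  rw [dgl_val]
  have : (!![(a : F), 0; 0, (a : F)] : Matrix (Fin 2) (Fin 2) F) = (a : F) • (1 : Matrix (Fin 2) (Fin 2) F) := by
    ext i j
    fin_cases i <;> fin_cases j <;> simp
  rw [this, Matrix.smul_mul, Matrix.mul_smul, Matrix.one_mul, Matrix.mul_one]

/-- **the model for `ε = +`** -/
theorem exists_model {N k : ℕ} (hn : Nums F 1 N k) (hk : k = 1 ∨ k = 2) :
    ∃ (ι : Matrix.SpecialLinearGroup (Fin 2) F →* GL (Fin 2) F) (f : GL (Fin 2) F)
      (α : MulAut (Matrix.SpecialLinearGroup (Fin 2) F)) (a t1 : Matrix.SpecialLinearGroup (Fin 2) F)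
      (u : GL (Fin 2) F), GlueSL 1 N k N ι sc.range f α a t1 u := by
  have h2 : (2 : F) ≠ 0 := AutTorus.two_ne_zero' hn.qodd
  have hcard : Nat.card Fˣ = N * 2 ^ k := by
    classical
    rw [Nat.card_eq_fintype_card, Fintype.card_units]
    have h := hn.q_eq
    have h1 : 1 ≤ Fintype.card F := by have := hn.q3; omega
    have h' : ((Fintype.card F - 1 : ℕ) : ℤ) = ((N * 2 ^ k : ℕ) : ℤ) := by
      rw [Nat.cast_sub h1]; push_cast; linarith
    exact_mod_cast h'
  exact ⟨_, (mod h2).exists_glueSL hn hk inferInstance hcard⟩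

end Cfsg.Agent.LFourR.GlueGL
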