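import Cfsg.Agent.LFourR.GlueMod
import Cfsg.Agent.LFourR.AssemMinus
import Cfsg.Agent.LThreeExt.SU3
import Cfsg.Agent.LieClassical.GUOrder
import Cfsg.Agent.S0281

/-!
# [GLUE] (C-): the model `GU₂(q)`
-/

set_option autoImplicit false

namespace Cfsg.Agent.LFourR.GlueGU

open Matrix Cfsg Cfsg.Agent.Phan Subgroup
open Cfsg.Agent.LieClassical.GUOrder (frob frob_apply mul_map_eq_one_iff two_le mkGU coe_mkGU detGU coe_detGU
  range_detGU)
open Cfsg.Agent.LThreeExt.SU3 (N1 tau mat_tau wel mat_wel)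

variable {K : Type*} [Field K] [Fintype K] {q : ℕ}

/-- the matrix of an element of `GU` -/
abbrev gmat (g : Cfsg.GU 2 K q) : Matrix (Fin 2) (Fin 2) K := ((g : GL (Fin 2) K) : Matrix (Fin 2) (Fin 2) K)

omit [Fintype K] in
theorem gmat_inj {g h : Cfsg.GU 2 K q} (e : gmat g = gmat h) : g = h := Subtype.ext (Units.ext e)

/-- `SU 2 → GU 2` -/
def toGU : Cfsg.SU 2 K q →* Cfsg.GU 2 K q where
  toFun g := ⟨((g : Matrix.SpecialLinearGroup (Fin 2) K) : GL (Fin 2) K), fun u v => g.2 u v⟩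
  map_one' := gmat_inj rfl
  map_mul' _ _ := gmat_inj rfl

omit [Fintype K] in
theorem gmat_toGU (g : Cfsg.SU 2 K q) : gmat (toGU g) = mat g := rfl

omit [Fintype K] in
theorem toGU_inj : Function.Injective (toGU : Cfsg.SU 2 K q →* Cfsg.GU 2 K q) := by
  intro a b h
  apply mat_inj
  rw [← gmat_toGU, h, gmat_toGU]

/-- diagonal elements -/
noncomputable def dgu (hK : Fintype.card K = q ^ 2) (a b : N1 K q) : Cfsg.GU 2 K q :=
  mkGU hK !![((a : Kˣ) : K), 0; 0, ((b : Kˣ) : K)] ((mul_map_eq_one_iff hK _).2 (by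
    have h1 := LThreeExt.SU3.N1.norm a
    have h2 := LThreeExt.SU3.N1.norm b
    have hq : q ≠ 0 := by have := two_le hK; omega
    ext i j
    fin_cases i <;> fin_cases j <;>
      simp [Matrix.mul_apply, Fin.sum_univ_two, frob_apply, hq, h1, h2]))

theorem gmat_dgu (hK : Fintype.card K = q ^ 2) (a b : N1 K q) :
    gmat (dgu hK a b) = !![((a : Kˣ) : K), 0; 0, ((b : Kˣ) : K)] := rfl

omit [Fintype K] in
theorem gmat_mul (a b : Cfsg.GU 2 K q) : gmat (a * b) = gmat a * gmat b := rfl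

theorem dgu_mul (hK : Fintype.card K = q ^ 2) (a b c d : N1 K q) :
    dgu hK a b * dgu hK c d = dgu hK (a * c) (b * d) := by
  apply gmat_inj
  rw [gmat_mul, gmat_dgu, gmat_dgu, gmat_dgu]
  ext i j
  fin_cases i <;> fin_cases j <;> simp [Matrix.mul_apply, Fin.sum_univ_two]

theorem dgu_one (hK : Fintype.card K = q ^ 2) : dgu hK 1 1 = 1 := by
  apply gmat_inj
  rw [gmat_dgu]
  change _ = (1 : Matrix (Fin 2) (Fin 2) K)
  ext i j
  fin_cases i <;> fin_cases j <;> simp

/-- scalars -/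
noncomputable def sc (hK : Fintype.card K = q ^ 2) : N1 K q →* Cfsg.GU 2 K q where
  toFun a := dgu hK a a
  map_one' := dgu_one hK
  map_mul' _ _ := (dgu_mul hK _ _ _ _).symm

/-- `diag(1, a)` -/
noncomputable def d2 (hK : Fintype.card K = q ^ 2) : N1 K q →* Cfsg.GU 2 K q where
  toFun a := dgu hK 1 a
  map_one' := dgu_one hK
  map_mul' _ _ := by rw [dgu_mul, mul_one]

/-- determinant -/
noncomputable def D (hK : Fintype.card K = q ^ 2) : Cfsg.GU 2 K q →* N1 K q :=
  (detGU 2 K q).codRestrict (N1 K q) (fun g => by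
    have h : detGU 2 K q g ∈ (detGU 2 K q).range := ⟨g, rfl⟩
    rwa [range_detGU hK (by norm_num)] at h)

theorem coe_D (hK : Fintype.card K = q ^ 2) (g : Cfsg.GU 2 K q) : (((D hK g : N1 K q) : Kˣ) : K) = (gmat g).det := rfl

omit [Fintype K] in
theorem N1_ext {a b : N1 K q} (h : ((a : Kˣ) : K) = ((b : Kˣ) : K)) : a = b := Subtype.ext (Units.ext h)

omit [Fintype K] in
theorem N1_neg {a : N1 K q} (h : a * a = 1) (h1 : a ≠ 1) : ((a : Kˣ) : K) = -1 := by
  have h2 : ((a : Kˣ) : K) * ((a : Kˣ) : K) = 1 := by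
    have := congrArg (fun x : N1 K q => ((x : Kˣ) : K)) h
    exact this
  rcases mul_self_eq_one_iff.1 h2 with h3 | h3
  · exact absurd (N1_ext h3) h1
  · exact h3

theorem mod (hK : Fintype.card K = q ^ 2) (hodd : Odd q) {F : Type*} [Field F] [Fintype F] (h2 : (2 : F) ≠ 0)
    (e : Cfsg.SU 2 K q ≃* Matrix.SpecialLinearGroup (Fin 2) F) :
    Mod (toGU.comp e.symm.toMonoidHom) (D hK) (sc hK) (d2 hK) (e.toMonoidHom.comp (tau hK)) (-1) := by
  have hne1 : (-1 : Matrix.SpecialLinearGroup (Fin 2) F) ≠ 1 := by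
    intro h
    have h3 := congrFun (congrFun (congrArg Subtype.val h) 0) 0
    simp only [Matrix.SpecialLinearGroup.coe_neg, Matrix.SpecialLinearGroup.coe_one, Matrix.neg_apply,
      Matrix.one_apply_eq] at h3
    apply h2
    linear_combination -h3
  have hneg : e.symm (-1) = negOne hK := by
    apply AssemMinus.negOne_of_sq hK hodd
    · rw [← map_mul, neg_mul_neg, one_mul, map_one]
    · intro h
      apply hne1
      rw [← e.apply_symm_apply (-1), h, map_one]
  refine
    { inj := ?_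
      ker := ?_
      sc_comm := ?_
      D_sc := ?_
      D_d2 := ?_
      sq := ?_
      d2_comm := ?_
      t_inj := ?_
      sc_neg := ?_
      t_neg := ?_
      z_ne := hne1
      non := ?_ }
  · rw [MonoidHom.coe_comp]
    exact toGU_inj.comp e.symm.injective
  · intro x
    constructor
    · intro hx
      have h3 : (gmat x).det = 1 := by rw [← coe_D hK x, hx]; rfl
      have h4 : ∀ u v : Fin 2 → K, hermForm 2 K q (gmat x *ᵥ u) (gmat x *ᵥ v) = hermForm 2 K q u v := fun u v => x.2 u v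
      refine ⟨e (mk (gmat x) h3 h4), ?_⟩
      apply gmat_inj
      change gmat (toGU (e.symm (e (mk (gmat x) h3 h4)))) = gmat x
      rw [e.symm_apply_apply]
      rfl
    · rintro ⟨y, rfl⟩
      apply N1_ext
      rw [coe_D]
      exact (e.symm y).1.2
  · intro a x
    apply gmat_inj
    rw [gmat_mul, gmat_mul]
    change gmat (dgu hK a a) * gmat x = gmat x * gmat (dgu hK a a)
    rw [gmat_dgu]
    have : (!![((a : Kˣ) : K), 0; 0, ((a : Kˣ) : K)] : Matrix (Fin 2) (Fin 2) K) =
        ((a : Kˣ) : K) • (1 : Matrix (Fin 2) (Fin 2) K) := by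
      ext i j
      fin_cases i <;> fin_cases j <;> simp
    rw [this, Matrix.smul_mul, Matrix.mul_smul, Matrix.one_mul, Matrix.mul_one]
  · intro a
    apply N1_ext
    rw [coe_D]
    change (gmat (dgu hK a a)).det = _
    rw [gmat_dgu, Matrix.det_fin_two_of]
    simp
  · intro a
    apply N1_ext
    rw [coe_D]
    change (gmat (dgu hK 1 a)).det = _
    rw [gmat_dgu, Matrix.det_fin_two_of]
    simp
  · intro a
    have h3 : toGU (tau hK a) * (d2 hK a * d2 hK a) = sc hK a := by
      apply gmat_inj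
      rw [gmat_mul, gmat_mul, gmat_toGU, mat_tau]
      change _ * (gmat (dgu hK 1 a) * gmat (dgu hK 1 a)) = gmat (dgu hK a a)
      rw [gmat_dgu, gmat_dgu]
      ext i j
      fin_cases i <;> fin_cases j <;> simp [Matrix.mul_apply, Fin.sum_univ_two]
    have h4 : toGU.comp e.symm.toMonoidHom ((e.toMonoidHom.comp (tau hK)) a) = toGU (tau hK a) := by
      change toGU (e.symm (e (tau hK a))) = _
      rw [e.symm_apply_apply]
    rw [map_inv, h4, ← h3]
    group
  · intro a b
    have h4 : toGU.comp e.symm.toMonoidHom ((e.toMonoidHom.comp (tau hK)) b) = toGU (tau hK b) := by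
      change toGU (e.symm (e (tau hK b))) = _
      rw [e.symm_apply_apply]
    rw [h4]
    apply gmat_inj
    rw [gmat_mul, gmat_mul, gmat_toGU, mat_tau]
    change gmat (dgu hK 1 a) * _ = _ * gmat (dgu hK 1 a)
    rw [gmat_dgu]
    ext i j
    fin_cases i <;> fin_cases j <;> simp [Matrix.mul_apply, Fin.sum_univ_two, mul_comm]
  · rw [MonoidHom.coe_comp]
    exact e.injective.comp (LThreeExt.SU3.tau_inj hK)
  · intro a ha ha1
    apply gmat_inj
    change gmat (dgu hK a a) = gmat (toGU (e.symm (-1)))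
    rw [gmat_dgu, hneg, gmat_toGU, mat_negOne, N1_neg ha ha1]
    ext i j
    fin_cases i <;> fin_cases j <;> simp
  · intro a ha ha1
    have h3 : tau hK a = negOne hK := by
      apply AssemMinus.negOne_of_sq hK hodd
      · rw [← map_mul, ha, map_one]
      · intro h
        exact ha1 (LThreeExt.SU3.tau_inj hK (by rw [h, map_one]))
    change e (tau hK a) = -1
    rw [h3, ← hneg, e.apply_symm_apply]
  · intro a ha
    refine ⟨e (wel hK), fun h => ha ?_⟩
    have h4 : toGU.comp e.symm.toMonoidHom (e (wel hK)) = toGU (wel hK) := by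
      change toGU (e.symm (e (wel hK))) = _
      rw [e.symm_apply_apply]
    rw [h4] at h
    have h5 := congrArg gmat h
    rw [gmat_mul, gmat_mul, gmat_toGU, mat_wel] at h5
    change gmat (dgu hK 1 a) * _ = _ * gmat (dgu hK 1 a) at h5
    rw [gmat_dgu] at h5
    have h6 := congrFun (congrFun h5 0) 1
    simp [Matrix.mul_apply, Fin.sum_univ_two] at h6
    exact N1_ext (by rw [← h6]; rfl)

theorem sc_le_center (hK : Fintype.card K = q ^ 2) : (sc hK).range ≤ center (Cfsg.GU 2 K q) := by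
  rintro _ ⟨a, rfl⟩
  rw [mem_center_iff]
  intro x
  apply gmat_inj
  rw [gmat_mul, gmat_mul]
  change gmat x * gmat (dgu hK a a) = gmat (dgu hK a a) * gmat x
  rw [gmat_dgu]
  have : (!![((a : Kˣ) : K), 0; 0, ((a : Kˣ) : K)] : Matrix (Fin 2) (Fin 2) K) =
      ((a : Kˣ) : K) • (1 : Matrix (Fin 2) (Fin 2) K) := by
    ext i j
    fin_cases i <;> fin_cases j <;> simp
  rw [this, Matrix.smul_mul, Matrix.mul_smul, Matrix.one_mul, Matrix.mul_one]

/-- **the model for `ε = -`** -/
theorem exists_model (hK : Fintype.card K = q ^ 2) {F : Type*} [Field F] [Fintype F] (hF : Fintype.card F = q)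
    {N k : ℕ} (hn : Nums F (-1) N k) (hk : k = 1 ∨ k = 2) :
    ∃ (ι : Matrix.SpecialLinearGroup (Fin 2) F →* Cfsg.GU 2 K q) (f : Cfsg.GU 2 K q)
      (α : MulAut (Matrix.SpecialLinearGroup (Fin 2) F)) (a t1 : Matrix.SpecialLinearGroup (Fin 2) F)
      (u : Cfsg.GU 2 K q), GlueSL (-1) N k N ι (sc hK).range f α a t1 u := by
  obtain ⟨e⟩ := Cfsg.Agent.S0281.result hK hF
  have hodd : Odd q := hF ▸ hn.qodd
  have h2 : (2 : F) ≠ 0 := AutTorus.two_ne_zero' hn.qodd
  have hcard : Nat.card (N1 K q) = N * 2 ^ k := by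
    rw [LThreeExt.SU3.card_N1 hK]
    have h := hn.q_eq
    rw [hF] at h
    have h' : ((q + 1 : ℕ) : ℤ) = ((N * 2 ^ k : ℕ) : ℤ) := by push_cast; linarith
    exact_mod_cast h'
  exact ⟨_, (mod hK hodd h2 e).exists_glueSL hn hk inferInstance hcard⟩

end Cfsg.Agent.LFourR.GlueGU
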