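import Cfsg.Agent.LFourR.AutTorus2

/-!
# [GLUE] (K2): the automorphism of order four
-/

set_option autoImplicit false

namespace Cfsg.Agent.LFourR.AutTorus

open Matrix Cfsg.Agent.Lib.SL2Mat Cfsg.Agent.Lib.AutSL2 Cfsg.Agent.Lib.AutSL2Out
open Cfsg.Agent.LFourR.FieldPart (val_mul val_one val_pow)
open Cfsg.Agent.LFourR.Mat2

variable {F : Type*} [Field F] [Fintype F]
variable {a : Matrix.SpecialLinearGroup (Fin 2) F} {N k : ℕ} {ε : ℤ}

omit [Fintype F] in
theorem trace_zero_of_sq {t : Matrix.SpecialLinearGroup (Fin 2) F} (ht : t * t = -1) :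
    t.1.trace = 0 := by
  have h3 := congrArg Subtype.val ht
  rw [val_mul, val_neg, val_one, Cfsg.Agent.ClassicalGeometry.NonsplitTorus.mul_self_eq, t.2, one_smul,
    sub_eq_neg_self] at h3
  by_contra h
  have h4 : t.1 = 0 := (smul_eq_zero.1 h3).resolve_left h
  have h5 := t.2
  rw [h4] at h5
  simp at h5

/-- normal form -/
theorem Ar.four_form (H : Ar F a N k ε) {α : MulAut (Matrix.SpecialLinearGroup (Fin 2) F)} (hα : α a = a)
    {t : Matrix.SpecialLinearGroup (Fin 2) F} (hαt : α * α = MulAut.conj t) (ht : t * t = -1) :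
    ∃ g : GL (Fin 2) F, α = conjGL g ∧ ¬ IsSc g.1 ∧ g.1.trace = 1 ∧ g.1.det = 2⁻¹ ∧
      (t.1 = (2 : F) • (g.1 * g.1) ∨ t.1 = (-2 : F) • (g.1 * g.1)) := by
  have h2 := two_ne_zero' (F := F) H.qodd
  obtain ⟨g0, rfl, x, y, hg0⟩ := H.fix_form α hα
  have htr := trace_zero_of_sq ht
  -- `g0 * g0 = c • t`
  have hsc : IsSc ((Matrix.SpecialLinearGroup.toGL t)⁻¹ * (g0 * g0)).1 := by
    apply isSc_of_conjGL_eq_one
    rw [map_mul, map_mul, hαt, map_inv]
    have : conjGL (Matrix.SpecialLinearGroup.toGL t) = MulAut.conj t := MulEquiv.ext (conjGL_toGL t)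
    rw [this, inv_mul_cancel]
  obtain ⟨c, hc⟩ := hsc
  have hc' : g0.1 * g0.1 = c • t.1 := by
    have h3 : (Matrix.SpecialLinearGroup.toGL t * ((Matrix.SpecialLinearGroup.toGL t)⁻¹ * (g0 * g0))).1 =
        t.1 * (c • (1 : Matrix (Fin 2) (Fin 2) F)) := by
      rw [Units.val_mul, hc]; rfl
    rw [mul_inv_cancel_left] at h3
    rw [Matrix.mul_smul, Matrix.mul_one] at h3
    exact h3
  have hδ : g0.1.det ≠ 0 := (Matrix.GeneralLinearGroup.det g0).ne_zero
  have hτ : g0.1.trace ^ 2 = 2 * g0.1.det := by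
    have h3 : (g0.1 * g0.1).trace = 0 := by rw [hc', trace_smul, htr, smul_zero]
    rw [Cfsg.Agent.ClassicalGeometry.NonsplitTorus.mul_self_eq, trace_sub, trace_smul, trace_smul, trace_one] at h3
    simp at h3
    linear_combination h3
  have hτ0 : g0.1.trace ≠ 0 := by
    intro h
    rw [h] at hτ
    exact (mul_ne_zero h2 hδ) (by rw [← hτ]; ring)
  have hcd : c ^ 2 = g0.1.det ^ 2 := by
    have h3 := congrArg Matrix.det hc'
    rw [det_mul, det_smul, t.2, Fintype.card_fin, mul_one] at h3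
    rw [← h3]; ring
  have hc0 : c ≠ 0 := by
    rintro rfl
    have : g0.1.det ^ 2 = 0 := by rw [← hcd]; ring
    exact hδ (pow_eq_zero_iff (two_ne_zero)|>.1 this)
  have hns0 : ¬ IsSc g0.1 := by
    rintro ⟨d, hd⟩
    have h3 : t.1 = (c⁻¹ * (d * d)) • (1 : Matrix (Fin 2) (Fin 2) F) := by
      rw [← smul_smul, ← inv_smul_smul₀ hc0 t.1, ← hc', hd]
      simp only [Matrix.smul_mul, Matrix.mul_smul, Matrix.one_mul, smul_smul]
    rw [h3, trace_smul, trace_one] at htr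
    have h4 : c⁻¹ * (d * d) = 0 := by
      simp only [smul_eq_mul, Fintype.card_fin, Nat.cast_ofNat] at htr
      exact (mul_eq_zero.1 htr).resolve_right h2
    rw [h4, zero_smul] at h3
    have h5 := t.2
    rw [h3] at h5
    simp at h5
  set g : GL (Fin 2) F := GeneralLinearGroup.mkOfDetNeZero (g0.1.trace⁻¹ • g0.1) (by
    rw [det_smul, Fintype.card_fin]; exact mul_ne_zero (pow_ne_zero _ (inv_ne_zero hτ0)) hδ) with hg
  have hgv : g.1 = g0.1.trace⁻¹ • g0.1 := rfl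
  refine ⟨g, ?_, ?_, ?_, ?_, ?_⟩
  · apply MulEquiv.ext
    intro z
    rw [eq_comm, conjGL_eq_iff, hgv, Matrix.smul_mul, Matrix.mul_smul]
    congr 1
    exact (conjGL_eq_iff g0 z (conjGL g0 z)).1 rfl
  · rw [hgv]; exact not_isSc_smul hns0 (inv_ne_zero hτ0)
  · rw [hgv, trace_smul, smul_eq_mul, inv_mul_cancel₀ hτ0]
  · rw [hgv, det_smul, Fintype.card_fin, inv_pow, hτ]
    field_simp
  · have h3 : g.1 * g.1 = (g0.1.trace⁻¹ ^ 2 * c) • t.1 := by
      rw [hgv, Matrix.smul_mul, Matrix.mul_smul, hc', smul_smul, smul_smul, pow_two]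
    rw [h3, smul_smul, smul_smul, inv_pow, hτ]
    rcases sq_eq_sq_iff_eq_or_eq_neg.1 hcd with h4 | h4
    · left
      rw [h4]
      have : (2 : F) * ((2 * g0.1.det)⁻¹ * g0.1.det) = 1 := by field_simp
      rw [this, one_smul]
    · right
      rw [h4]
      have : (-2 : F) * ((2 * g0.1.det)⁻¹ * -g0.1.det) = 1 := by field_simp
      rw [this, one_smul]

/-- **(K2)** -/
theorem Ar.conj_four (H : Ar F a N k ε) {α : MulAut (Matrix.SpecialLinearGroup (Fin 2) F)} (hα : α a = a)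
    {t : Matrix.SpecialLinearGroup (Fin 2) F} (hαt : α * α = MulAut.conj t) (ht : t * t = -1)
    {a' : Matrix.SpecialLinearGroup (Fin 2) F} {N' k' : ℕ} {ε' : ℤ} (H' : Ar F a' N' k' ε')
    {α' : MulAut (Matrix.SpecialLinearGroup (Fin 2) F)} (hα' : α' a' = a')
    {t' : Matrix.SpecialLinearGroup (Fin 2) F} (hαt' : α' * α' = MulAut.conj t') (ht' : t' * t' = -1) :
    ∃ β : MulAut (Matrix.SpecialLinearGroup (Fin 2) F), β * α' * β⁻¹ = α ∧ (β t' = t ∨ β t' = -t) := by
  obtain ⟨g, rfl, hns, htr, hd, hg⟩ := H.four_form hα hαt ht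
  obtain ⟨g', rfl, hns', htr', hd', hg'⟩ := H'.four_form hα' hαt' ht'
  obtain ⟨P, hP⟩ := exists_conj_of_same hns hns' (by rw [hd, hd']) (by rw [htr, htr'])
  have hP' : g * P = P * g' := Units.ext hP
  refine ⟨conjGL P, ?_, ?_⟩
  · rw [← map_inv, ← map_mul, ← map_mul, ← hP', mul_inv_cancel_right]
  · have key : P.1 * (g'.1 * g'.1) = (g.1 * g.1) * P.1 := by
      rw [← Matrix.mul_assoc, ← hP, Matrix.mul_assoc, ← hP, ← Matrix.mul_assoc]
    rcases hg with hg | hg <;> rcases hg' with hg' | hg'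
    · left
      rw [conjGL_eq_iff, hg, hg', Matrix.mul_smul, Matrix.smul_mul, key]
    · right
      rw [conjGL_eq_iff, val_neg, hg, hg', Matrix.mul_smul, Matrix.neg_mul, Matrix.smul_mul, key, neg_smul]
    · right
      rw [conjGL_eq_iff, val_neg, hg, hg', Matrix.mul_smul, Matrix.neg_mul, Matrix.smul_mul, key, neg_smul, neg_neg]
    · left
      rw [conjGL_eq_iff, hg, hg', Matrix.mul_smul, Matrix.smul_mul, key]

end Cfsg.Agent.LFourR.AutTorus
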