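import Cfsg.Agent.LFourR.GlueIso
import Cfsg.Agent.LFourR.GlueKTwo
import Cfsg.Agent.LFourR.GlueGU
import Cfsg.Agent.LFourR.GlueGLMod
import Cfsg.Agent.OddCyclic.L2Borel

/-!
# [GLUE]: the end

* `quotGL` : `GlueSL 1 N k m ι T f α a t1 u` on `C` ⟹ `C ≅ GL(2, F) / Z`, `Z` central of odd order;
* `quotGU` : `GlueSL (-1) N k m ι T f α a t1 u` on `C` ⟹ `C ≅ GU(2, q) / Z`, `Z` central of odd order.
-/

set_option autoImplicit false

namespace Cfsg.Agent.LFourR.GlueEnd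

open Subgroup

variable {F : Type*} [Field F] [Fintype F] {C M : Type*} [Group C] [Group M]

theorem neg_one_ne (hq : Odd (Fintype.card F)) : (-1 : Matrix.SpecialLinearGroup (Fin 2) F) ≠ 1 := by
  intro h
  have h3 := congrFun (congrFun (congrArg Subtype.val h) 0) 0
  simp only [Matrix.SpecialLinearGroup.coe_neg, Matrix.SpecialLinearGroup.coe_one, Matrix.neg_apply,
    Matrix.one_apply_eq] at h3
  apply AutTorus.two_ne_zero' (F := F) hq
  linear_combination -h3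

theorem aut_neg_one (hq : Odd (Fintype.card F)) (β : MulAut (Matrix.SpecialLinearGroup (Fin 2) F)) :
    β (-1) = -1 := by
  have h1 : ∀ y, β (-1) * y = y * β (-1) := by
    intro y
    obtain ⟨x, rfl⟩ := β.surjective y
    rw [← map_mul, ← map_mul, neg_one_mul, mul_neg_one]
  rcases sl_center _ h1 with h | h
  · exact absurd (β.injective (h.trans (map_one β).symm)) (neg_one_ne hq)
  · exact h

/-- `α² = conj t1` -/
theorem aut_sq {S : Type*} [Group S] {ι : S →* C} {T : Subgroup C} {f : C} {α : MulAut S} {ζ t1 : S} {u : C}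
    (H : Glue ι T f α ζ t1 u) : α * α = MulAut.conj t1 := by
  apply MulEquiv.ext
  intro x
  apply H.inj
  change ι (α (α x)) = ι (t1 * x * t1⁻¹)
  have h1 : f * f * ι x = ι (α (α x)) * (f * f) := by
    rw [mul_assoc, H.f_ι, ← mul_assoc, H.f_ι, mul_assoc]
  have h2 : u * ι x = ι x * u := (H.comm x u H.u_mem).symm
  rw [H.f_sq] at h1
  have h3 : ι (α (α x)) * ι t1 = ι t1 * ι x := by
    have h4 : ι (α (α x)) * ι t1 * u = ι t1 * ι x * u := by
      calc ι (α (α x)) * ι t1 * u = ι (α (α x)) * (ι t1 * u) := by group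
        _ = ι t1 * u * ι x := h1.symm
        _ = ι t1 * (u * ι x) := by group
        _ = ι t1 * ι x * u := by rw [h2]; group
    exact mul_right_cancel h4
  rw [map_mul, map_mul, map_inv, ← h3]; group

/-- two cyclic groups of the same order: an isomorphism with given values at an element `u` with `u * u = ζ`,
`ζ` an involution. -/
theorem exists_iso {T T' : Type*} [Group T] [Group T'] [Finite T] [Finite T'] (hT : IsCyclic T) (hT' : IsCyclic T')
    (hc : Nat.card T = Nat.card T') {u : T} {u' : T'} {ζ : T} {ζ' : T'} (hζ : ζ * ζ = 1) (hζ' : ζ' * ζ' = 1)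
    (hζ1 : ζ ≠ 1) (hζ1' : ζ' ≠ 1) (h : (u = 1 ∧ u' = 1) ∨ (u * u = ζ ∧ u' * u' = ζ')) :
    ∃ ψ : T ≃* T', ψ ζ = ζ' ∧ ψ u = u' := by
  have ψ0 : T ≃* T' := mulEquivOfCyclicCardEq hc
  have hinj : ∀ ψ : T ≃* T', ψ ζ = ζ' := fun ψ => Cfsg.Agent.OddCyclic.L2Borel.invol_unique
    (by rw [← map_mul, hζ, map_one]) hζ' (fun e => hζ1 (ψ.injective (e.trans (map_one ψ).symm))) hζ1'
  rcases h with ⟨rfl, rfl⟩ | ⟨h1, h2⟩
  · exact ⟨ψ0, hinj ψ0, map_one _⟩
  · have hcomm : ∀ x y : T', x * y = y * x := fun x y => (IsCyclic.commGroup (α := T')).mul_comm x y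
    have h3 : ψ0 u * ψ0 u = u' * u' := by rw [← map_mul, h1, h2, hinj]
    have h4 : (ψ0 u * u'⁻¹) * (ψ0 u * u'⁻¹) = 1 := by
      calc (ψ0 u * u'⁻¹) * (ψ0 u * u'⁻¹) = ψ0 u * (u'⁻¹ * ψ0 u) * u'⁻¹ := by group
        _ = ψ0 u * (ψ0 u * u'⁻¹) * u'⁻¹ := by rw [hcomm u'⁻¹]
        _ = (ψ0 u * ψ0 u) * (u' * u')⁻¹ := by group
        _ = 1 := by rw [h3, mul_inv_cancel]
    by_cases h5 : ψ0 u * u'⁻¹ = 1
    · exact ⟨ψ0, hinj ψ0, mul_inv_eq_one.1 h5⟩
    · have h6 : ψ0 u * u'⁻¹ = ζ' := Cfsg.Agent.OddCyclic.L2Borel.invol_unique h4 hζ' h5 hζ1'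
      have h7 : ψ0 u = u'⁻¹ := by
        have : ψ0 u = ζ' * u' := by rw [← h6]; group
        rw [this]
        have h8 : ζ' * u' * u' = 1 := by rw [mul_assoc, h2, hζ']
        exact eq_inv_of_mul_eq_one_left h8
      let inv' : T' ≃* T' :=
        { toFun := fun x => x⁻¹, invFun := fun x => x⁻¹, left_inv := fun x => inv_inv x,
          right_inv := fun x => inv_inv x, map_mul' := fun x y => by rw [mul_inv_rev, hcomm] }
      refine ⟨ψ0.trans inv', hinj _, ?_⟩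
      change (ψ0 u)⁻¹ = u'
      rw [h7, inv_inv]

/-- **the common end** -/
theorem common [Finite C] [Finite M] {ε : ℤ} {N k m : ℕ} {ι : Matrix.SpecialLinearGroup (Fin 2) F →* C}
    {T : Subgroup C} {f : C} {α : MulAut (Matrix.SpecialLinearGroup (Fin 2) F)}
    {a t1 : Matrix.SpecialLinearGroup (Fin 2) F} {u : C} (H : GlueSL ε N k m ι T f α a t1 u)
    {ι0 : Matrix.SpecialLinearGroup (Fin 2) F →* M} {T0 : Subgroup M} {f0 : M}
    {α0 : MulAut (Matrix.SpecialLinearGroup (Fin 2) F)} {a0 t10 : Matrix.SpecialLinearGroup (Fin 2) F} {u0 : M}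
    (H0 : GlueSL ε N k N ι0 T0 f0 α0 a0 t10 u0) (hT0 : T0 ≤ center M) :
    ∃ (Z : Subgroup M) (_ : Z.Normal), Z ≤ center M ∧ Odd (Nat.card Z) ∧ Nonempty (C ≃* M ⧸ Z) := by
  have hq := H.nums.qodd
  have hne := neg_one_ne (F := F) hq
  have hnn : (-1 : Matrix.SpecialLinearGroup (Fin 2) F) * -1 = 1 := by rw [neg_mul_neg, one_mul]
  have hAr : AutTorus.Ar F a N k ε := ⟨H.nums.eps, H.ord, H.nums.odd, H.nums.one_lt, H.nums.qodd, H.nums.q_eq, H.nums.ns⟩
  have hAr0 : AutTorus.Ar F a0 N k ε :=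
    ⟨H.nums.eps, H0.ord, H.nums.odd, H.nums.one_lt, H.nums.qodd, H.nums.q_eq, H.nums.ns⟩
  -- the automorphism
  have hβ : ∃ β : MulAut (Matrix.SpecialLinearGroup (Fin 2) F), β * α0 * β⁻¹ = α ∧ (β t10 = t1 ∨ β t10 = -t1) := by
    rcases H.cases with ⟨hk, ht1, -⟩ | ⟨hk, ht1, -⟩
    · rcases H0.cases with ⟨-, ht10, -⟩ | ⟨hk0, -, -⟩
      · have hs : α * α = 1 := by rw [aut_sq H.glue, ht1, map_one]
        have hs0 : α0 * α0 = 1 := by rw [aut_sq H0.glue, ht10, map_one]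
        obtain ⟨s, hs⟩ := hAr.conj_of_type ⟨hs, H.ne, H.fix⟩ hAr0 ⟨hs0, H0.ne, H0.fix⟩
        exact ⟨_, hs, Or.inl (by rw [ht10, ht1, map_one])⟩
      · omega
    · rcases H0.cases with ⟨hk0, -, -⟩ | ⟨-, ht10, -⟩
      · omega
      · exact hAr.conj_four H.fix (aut_sq H.glue) ht1 hAr0 H0.fix (aut_sq H0.glue) ht10
  obtain ⟨β, hβα, hβt⟩ := hβ
  have G0 := GlueIso.change H0.glue β (aut_neg_one hq β)
  rw [hβα] at G0
  -- the kernel
  have hcycT0 := H0.cyc
  obtain ⟨r, hr⟩ := H.dvd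
  have hr0 : Odd r := by
    rcases Nat.even_or_odd r with h | h
    · exfalso
      have := H.nums.odd
      rw [hr] at this
      exact absurd (h.mul_left m) (Nat.not_even_iff_odd.2 this)
    · exact h
  have hN0 : 0 < N := by have := H.nums.one_lt; omega
  have hm0 : 0 < m := by
    rcases Nat.eq_zero_or_pos m with h | h
    · rw [h, zero_mul] at hr; omega
    · exact h
  obtain ⟨g, hg⟩ := hcycT0.exists_generator
  have hgo : orderOf g = N * 2 ^ k := by
    rw [← H0.card, ← Nat.card_zpowers, (Subgroup.eq_top_iff' _).2 hg, Subgroup.card_top]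
  have hgo' : orderOf (g : M) = N * 2 ^ k := by rw [Subgroup.orderOf_coe, hgo]
  set Z : Subgroup M := zpowers ((g : M) ^ (m * 2 ^ k)) with hZ
  have hZT : Z ≤ T0 := by
    rw [hZ, zpowers_le]
    exact pow_mem g.2 _
  have hZc : Z ≤ center M := hZT.trans hT0
  have hZn : Z.Normal := ⟨fun z hz y => by
    have h1 := mem_center_iff.1 (hZc hz) y
    rw [h1, mul_inv_cancel_right]; exact hz⟩
  have hZcard : Nat.card Z = r := by
    rw [hZ, Nat.card_zpowers, orderOf_pow' _ (by positivity), hgo', hr]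
    have : m * r * 2 ^ k = m * 2 ^ k * r := by ring
    rw [this, Nat.gcd_eq_right (dvd_mul_right _ _), Nat.mul_div_cancel_left _ (by positivity)]
  have hZodd : ¬ 2 ∣ Nat.card Z := by
    rw [hZcard]
    intro h
    exact absurd (even_iff_two_dvd.2 h) (Nat.not_even_iff_odd.2 hr0)
  have G1 := GlueIso.quot G0 hnn hne Z hZT hZodd
  refine ⟨Z, hZn, hZc, by rw [hZcard]; exact hr0, ?_⟩
  -- the twisted data
  have hH : ∃ t2 u2, t2 = β t10 ∧ Glue ι T f α (-1) t2 u2 ∧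
      ((k = 1 ∧ u2 = 1) ∨ (k = 2 ∧ u2 * u2 = ι (-1))) := by
    rcases hβt with h | h
    · refine ⟨t1, u, h.symm, H.glue, ?_⟩
      rcases H.cases with ⟨h1, -, h2⟩ | ⟨h1, -, h2⟩
      · exact Or.inl ⟨h1, h2⟩
      · exact Or.inr ⟨h1, h2⟩
    · rcases H.cases with ⟨h1, h2, h3⟩ | ⟨h1, -, h2⟩
      · exfalso
        rcases H0.cases with ⟨-, h4, -⟩ | ⟨h4, -, -⟩
        · rw [h4, map_one, h2] at h
          exact hne h.symm
        · omega
      · refine ⟨t1 * -1, ι (-1) * u, by rw [h, mul_neg_one], GlueIso.twist H.glue hnn, Or.inr ⟨h1, ?_⟩⟩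
        have h3 : ι (-1) * u = u * ι (-1) := H.glue.comm _ _ H.glue.u_mem
        calc ι (-1) * u * (ι (-1) * u) = ι (-1) * (u * ι (-1)) * u := by group
          _ = ι (-1) * (ι (-1) * u) * u := by rw [h3]
          _ = (ι (-1) * ι (-1)) * (u * u) := by group
          _ = ι (-1) := by rw [← map_mul, hnn, map_one, one_mul, h2]
  obtain ⟨t2, u2, rfl, G2, hu2⟩ := hH
  -- the isomorphism of the `T`'s
  have hcyc' : IsCyclic (T0.map (QuotientGroup.mk' Z)) := by
    have : Function.Surjective ((QuotientGroup.mk' Z).subgroupMap T0) := MonoidHom.subgroupMap_surjective _ _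
    exact isCyclic_of_surjective _ this
  have hcard' : Nat.card (T0.map (QuotientGroup.mk' Z)) = m * 2 ^ k := by
    have h1 : r * Nat.card (T0.map (QuotientGroup.mk' Z)) = N * 2 ^ k := by
      rw [← H0.card, ← hZcard, ← Subgroup.relIndex_ker, QuotientGroup.ker_mk', ← Subgroup.relIndex_bot_left,
        Subgroup.relIndex_mul_relIndex _ _ _ bot_le hZT, Subgroup.relIndex_bot_left]
    have h2 : r * Nat.card (T0.map (QuotientGroup.mk' Z)) = r * (m * 2 ^ k) := by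
      rw [h1, hr]; ring
    exact Nat.eq_of_mul_eq_mul_left hr0.pos h2
  have hcyc := H.cyc
  obtain ⟨ψ, hψζ, hψu⟩ := exists_iso (T := T) (T' := T0.map (QuotientGroup.mk' Z)) hcyc hcyc'
    (by rw [H.card, hcard']) (u := ⟨u2, G2.u_mem⟩) (u' := ⟨_, G1.u_mem⟩) (ζ := ⟨ι (-1), GlueIso.zeta_mem G2⟩)
    (ζ' := ⟨_, GlueIso.zeta_mem G1⟩) (Subtype.ext (by
      change ι (-1) * ι (-1) = 1
      rw [← map_mul, hnn, map_one])) (Subtype.ext (by
      change ((QuotientGroup.mk' Z).comp (ι0.comp β.symm.toMonoidHom)) (-1) *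
        ((QuotientGroup.mk' Z).comp (ι0.comp β.symm.toMonoidHom)) (-1) = 1
      rw [← map_mul, hnn, map_one]))
    (fun h => hne (G2.inj (by rw [map_one]; exact congrArg Subtype.val h)))
    (fun h => hne (G1.inj (by rw [map_one]; exact congrArg Subtype.val h)))
    (by
      rcases hu2 with ⟨h1, h2⟩ | ⟨h1, h2⟩
      · left
        rcases H0.cases with ⟨-, -, h4⟩ | ⟨h4, -, -⟩
        · refine ⟨Subtype.ext h2, Subtype.ext ?_⟩
          change QuotientGroup.mk' Z u0 = 1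
          rw [h4, map_one]
        · omega
      · right
        rcases H0.cases with ⟨h4, -, -⟩ | ⟨-, -, h4⟩
        · omega
        · refine ⟨Subtype.ext h2, Subtype.ext ?_⟩
          change QuotientGroup.mk' Z u0 * QuotientGroup.mk' Z u0 = QuotientGroup.mk' Z (ι0 (β.symm (-1)))
          have h5 : β.symm (-1) = -1 := aut_neg_one hq β⁻¹
          rw [← map_mul, h4, h5])
  exact GlueIso.nonempty_equiv G2 G1 hnn ψ (congrArg Subtype.val hψζ) (congrArg Subtype.val hψu)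

/-- **(C+)** -/
theorem quotGL [Finite C] {N k m : ℕ} {ι : Matrix.SpecialLinearGroup (Fin 2) F →* C}
    {T : Subgroup C} {f : C} {α : MulAut (Matrix.SpecialLinearGroup (Fin 2) F)}
    {a t1 : Matrix.SpecialLinearGroup (Fin 2) F} {u : C} (H : GlueSL 1 N k m ι T f α a t1 u) :
    ∃ (Z : Subgroup (Matrix.GeneralLinearGroup (Fin 2) F)) (_ : Z.Normal),
      Z ≤ center (Matrix.GeneralLinearGroup (Fin 2) F) ∧ Odd (Nat.card Z) ∧
        Nonempty (C ≃* Matrix.GeneralLinearGroup (Fin 2) F ⧸ Z) := by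
  have hk : k = 1 ∨ k = 2 := by
    rcases H.cases with ⟨h, -, -⟩ | ⟨h, -, -⟩
    · exact Or.inl h
    · exact Or.inr h
  obtain ⟨ι0, f0, α0, a0, t10, u0, H0⟩ := GlueGL.exists_model H.nums hk
  exact common H H0 GlueGL.sc_le_center

/-- **(C-)** -/
theorem quotGU [Finite C] {K : Type*} [Field K] [Fintype K] {q : ℕ} (hF : Fintype.card F = q)
    (hK : Fintype.card K = q ^ 2) {N k m : ℕ} {ι : Matrix.SpecialLinearGroup (Fin 2) F →* C}
    {T : Subgroup C} {f : C} {α : MulAut (Matrix.SpecialLinearGroup (Fin 2) F)}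
    {a t1 : Matrix.SpecialLinearGroup (Fin 2) F} {u : C} (H : GlueSL (-1) N k m ι T f α a t1 u) :
    ∃ (Z : Subgroup (Cfsg.GU 2 K q)) (_ : Z.Normal),
      Z ≤ center (Cfsg.GU 2 K q) ∧ Odd (Nat.card Z) ∧ Nonempty (C ≃* Cfsg.GU 2 K q ⧸ Z) := by
  have hk : k = 1 ∨ k = 2 := by
    rcases H.cases with ⟨h, -, -⟩ | ⟨h, -, -⟩
    · exact Or.inl h
    · exact Or.inr h
  obtain ⟨ι0, f0, α0, a0, t10, u0, H0⟩ := GlueGU.exists_model hK hF H.nums hk
  exact common H H0 (GlueGU.sc_le_center hK)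

end Cfsg.Agent.LFourR.GlueEnd
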