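import Cfsg.Agent.LFourR.GlueDef

/-!
# [GLUE] (A), (A'), (B)
-/

set_option autoImplicit false

namespace Cfsg.Agent.LFourR.GlueIso

open Subgroup

section A

variable {S C C' : Type*} [Group S] [Group C] [Group C'] {ι : S →* C} {T : Subgroup C} {f : C} {α : MulAut S}
  {ζ t1 : S} {u : C} {ι' : S →* C'} {T' : Subgroup C'} {f' : C'} {u' : C'}

/-- the graph of the isomorphism -/
def rel (ι : S →* C) (T : Subgroup C) (f : C) (ι' : S →* C') (f' : C') (ψ : T →* C') (p : C × C') : Prop :=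
  ∃ x : S, ∃ t : T, (p.1 = ι x * t ∧ p.2 = ι' x * ψ t) ∨ (p.1 = ι x * t * f ∧ p.2 = ι' x * ψ t * f')

theorem zeta_mem (H : Glue ι T f α ζ t1 u) : ι ζ ∈ T := (H.inter ζ).2 (Or.inr rfl)

theorem mul1 (H : Glue ι T f α ζ t1 u) (x y : S) {t s : C} (ht : t ∈ T) :
    ι x * t * (ι y * s) = ι (x * y) * (t * s) := by
  have h := H.comm y t ht
  calc ι x * t * (ι y * s) = ι x * (t * ι y) * s := by group
    _ = ι x * (ι y * t) * s := by rw [← h]
    _ = _ := by rw [map_mul]; group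

theorem mul2 (H : Glue ι T f α ζ t1 u) (x y : S) {t s : C} (ht : t ∈ T) (hs : s ∈ T) :
    ι x * t * f * (ι y * s) = ι (x * α y) * (t * s) * f := by
  have h := H.comm (α y) t ht
  calc ι x * t * f * (ι y * s) = ι x * t * (f * ι y) * s := by group
    _ = ι x * t * (ι (α y) * f) * s := by rw [H.f_ι]
    _ = ι x * (t * ι (α y)) * (f * s) := by group
    _ = ι x * (ι (α y) * t) * (s * f) := by rw [← h, H.f_T s hs]
    _ = _ := by rw [map_mul]; group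

theorem mul3 (H : Glue ι T f α ζ t1 u) (x y : S) {t s : C} (ht : t ∈ T) (hs : s ∈ T) :
    ι x * t * f * (ι y * s * f) = ι (x * α y * t1) * (t * s * u) := by
  rw [← mul_assoc, mul2 H x y ht hs]
  have h := H.comm t1 (t * s) (mul_mem ht hs)
  calc ι (x * α y) * (t * s) * f * f = ι (x * α y) * (t * s) * (f * f) := by group
    _ = ι (x * α y) * ((t * s) * ι t1) * u := by rw [H.f_sq]; group
    _ = ι (x * α y) * (ι t1 * (t * s)) * u := by rw [← h]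
    _ = _ := by rw [map_mul ι (x * α y) t1]; group

theorem rel_mul (H : Glue ι T f α ζ t1 u) (H' : Glue ι' T' f' α ζ t1 u') (ψ : T →* C') (hψ : ∀ t, ψ t ∈ T')
    (hu : ψ ⟨u, H.u_mem⟩ = u') {p r : C × C'} (hp : rel ι T f ι' f' ψ p) (hr : rel ι T f ι' f' ψ r) :
    rel ι T f ι' f' ψ (p * r) := by
  obtain ⟨a, b⟩ := p
  obtain ⟨c, d⟩ := r
  obtain ⟨x, t, h⟩ := hp
  obtain ⟨y, s, h'⟩ := hr
  simp only at h h'
  rcases h with ⟨rfl, rfl⟩ | ⟨rfl, rfl⟩ <;> rcases h' with ⟨rfl, rfl⟩ | ⟨rfl, rfl⟩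
  · refine ⟨x * y, t * s, Or.inl ⟨mul1 H x y t.2, ?_⟩⟩
    rw [map_mul ψ]
    exact mul1 H' x y (hψ t)
  · refine ⟨x * y, t * s, Or.inr ⟨?_, ?_⟩⟩
    · change ι x * t * (ι y * s * f) = _
      rw [← mul_assoc, mul1 H x y t.2]; rfl
    · change ι' x * ψ t * (ι' y * ψ s * f') = _
      rw [← mul_assoc, mul1 H' x y (hψ t), map_mul ψ]
  · refine ⟨x * α y, t * s, Or.inr ⟨mul2 H x y t.2 s.2, ?_⟩⟩
    rw [map_mul ψ]
    exact mul2 H' x y (hψ t) (hψ s)
  · refine ⟨x * α y * t1, t * s * ⟨u, H.u_mem⟩, Or.inl ⟨mul3 H x y t.2 s.2, ?_⟩⟩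
    rw [map_mul ψ, map_mul ψ, hu]
    exact mul3 H' x y (hψ t) (hψ s)

theorem rel_inv (H : Glue ι T f α ζ t1 u) (H' : Glue ι' T' f' α ζ t1 u') (ψ : T →* C') (hψ : ∀ t, ψ t ∈ T')
    (hu : ψ ⟨u, H.u_mem⟩ = u') {p : C × C'} (hp : rel ι T f ι' f' ψ p) : rel ι T f ι' f' ψ p⁻¹ := by
  have key : ∀ x : S, ∀ t : T, rel ι T f ι' f' ψ (ι x * t, ι' x * ψ t)⁻¹ := by
    intro x t
    refine ⟨x⁻¹, t⁻¹, Or.inl ⟨?_, ?_⟩⟩
    · change (ι x * t)⁻¹ = _
      rw [H.comm x t t.2]; simp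
    · change (ι' x * ψ t)⁻¹ = _
      rw [H'.comm x _ (hψ t)]; simp
  have hp' := hp
  obtain ⟨a, b⟩ := p
  obtain ⟨x, t, h⟩ := hp
  simp only at h
  rcases h with ⟨rfl, rfl⟩ | ⟨rfl, rfl⟩
  · exact key x t
  · have e : ((ι x * t * f, ι' x * ψ t * f') : C × C')⁻¹ =
        (ι (x * α x * t1) * ((t * t * ⟨u, H.u_mem⟩ : T) : C), ι' (x * α x * t1) * ψ (t * t * ⟨u, H.u_mem⟩))⁻¹ *
          (ι x * t * f, ι' x * ψ t * f') := by
      have e1 : ((ι (x * α x * t1) * ((t * t * ⟨u, H.u_mem⟩ : T) : C),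
          ι' (x * α x * t1) * ψ (t * t * ⟨u, H.u_mem⟩)) : C × C') =
            (ι x * t * f, ι' x * ψ t * f') * (ι x * t * f, ι' x * ψ t * f') := by
        apply Prod.ext
        · exact (mul3 H x x t.2 t.2).symm
        · change _ = ι' x * ψ t * f' * (ι' x * ψ t * f')
          rw [map_mul ψ, map_mul ψ, hu]
          exact (mul3 H' x x (hψ t) (hψ t)).symm
      rw [e1]; group
    rw [e]
    exact rel_mul H H' ψ hψ hu (key _ _) hp'

/-- the graph, as a subgroup -/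
def graph (H : Glue ι T f α ζ t1 u) (H' : Glue ι' T' f' α ζ t1 u') (ψ : T →* C') (hψ : ∀ t, ψ t ∈ T')
    (hu : ψ ⟨u, H.u_mem⟩ = u') : Subgroup (C × C') where
  carrier := {p | rel ι T f ι' f' ψ p}
  one_mem' := ⟨1, 1, Or.inl ⟨by simp, by simp⟩⟩
  mul_mem' hp hr := rel_mul H H' ψ hψ hu hp hr
  inv_mem' hp := rel_inv H H' ψ hψ hu hp

theorem rel_one_left (H : Glue ι T f α ζ t1 u) (hζ : ζ * ζ = 1) (ψ : T →* C') (hψζ : ψ ⟨ι ζ, zeta_mem H⟩ = ι' ζ)
    {c' : C'} (h : rel ι T f ι' f' ψ (1, c')) : c' = 1 := by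
  obtain ⟨x, t, h⟩ := h
  simp only at h
  rcases h with ⟨h1, h2⟩ | ⟨h1, -⟩
  · have h3 : ι x ∈ T := by
      rw [eq_inv_of_mul_eq_one_left h1.symm]
      exact inv_mem t.2
    rcases (H.inter x).1 h3 with rfl | rfl
    · have h4 : t = 1 := Subtype.ext (by simpa using h1.symm)
      rw [h2, h4, map_one, map_one, one_mul]
    · have h4 : t = ⟨ι x, zeta_mem H⟩ := by
        apply Subtype.ext
        have h5 : ι x * ι x = 1 := by rw [← map_mul, hζ, map_one]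
        exact mul_left_cancel (h1.symm.trans h5.symm)
      rw [h2, h4, hψζ, ← map_mul, hζ, map_one]
  · exfalso
    have h3 : ι x * t * f = 1 := h1.symm
    have h4 : f = ι x⁻¹ * (t : C)⁻¹ := by
      rw [eq_inv_of_mul_eq_one_right h3, H.comm x t t.2]; simp
    exact H.f_not x⁻¹ _ (inv_mem t.2) h4

/-- symmetric form -/
theorem rel_symm {ψ : T ≃* T'} {p : C × C'} (h : rel ι T f ι' f' (T'.subtype.comp ψ.toMonoidHom) p) :
    rel ι' T' f' ι f (T.subtype.comp ψ.symm.toMonoidHom) p.swap := by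
  obtain ⟨x, t, h⟩ := h
  refine ⟨x, ψ t, ?_⟩
  have e : (T.subtype.comp ψ.symm.toMonoidHom) (ψ t) = t := by
    change ((ψ.symm (ψ t) : T) : C) = t
    rw [ψ.symm_apply_apply]
  rw [e]
  rcases h with ⟨h1, h2⟩ | ⟨h1, h2⟩
  · exact Or.inl ⟨h2, h1⟩
  · exact Or.inr ⟨h2, h1⟩

/-- **(A)** -/
theorem nonempty_equiv (H : Glue ι T f α ζ t1 u) (H' : Glue ι' T' f' α ζ t1 u') (hζ : ζ * ζ = 1) (ψ : T ≃* T')
    (hψζ : ((ψ ⟨ι ζ, zeta_mem H⟩ : T') : C') = ι' ζ) (hu : ((ψ ⟨u, H.u_mem⟩ : T') : C') = u') :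
    Nonempty (C ≃* C') := by
  set Ψ : T →* C' := T'.subtype.comp ψ.toMonoidHom with hΨ
  set Ψ' : T' →* C := T.subtype.comp ψ.symm.toMonoidHom with hΨ'
  set R := graph H H' Ψ (fun t => (ψ t).2) hu with hR
  have hmem : ∀ p : C × C', p ∈ R ↔ rel ι T f ι' f' Ψ p := fun p => Iff.rfl
  have hψζ' : Ψ' ⟨ι' ζ, zeta_mem H'⟩ = ι ζ := by
    have h1 : (⟨ι' ζ, zeta_mem H'⟩ : T') = ψ ⟨ι ζ, zeta_mem H⟩ := Subtype.ext hψζ.symm
    rw [h1]
    change ((ψ.symm (ψ ⟨ι ζ, zeta_mem H⟩) : T) : C) = _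
    rw [ψ.symm_apply_apply]
  have inj1 : Function.Injective ((MonoidHom.fst C C').comp R.subtype) := by
    rw [injective_iff_map_eq_one]
    rintro ⟨⟨a, b⟩, hab⟩ h
    change a = 1 at h
    subst h
    have := rel_one_left H hζ Ψ hψζ ((hmem _).1 hab)
    subst this
    rfl
  have inj2 : Function.Injective ((MonoidHom.snd C C').comp R.subtype) := by
    rw [injective_iff_map_eq_one]
    rintro ⟨⟨a, b⟩, hab⟩ h
    change b = 1 at h
    subst h
    have := rel_one_left (ι' := ι) (f' := f) H' hζ Ψ' hψζ' (rel_symm ((hmem _).1 hab))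
    subst this
    rfl
  have sur1 : Function.Surjective ((MonoidHom.fst C C').comp R.subtype) := by
    intro c
    obtain ⟨x, t, ht, h | h⟩ := H.cover c
    · exact ⟨⟨(c, ι' x * Ψ ⟨t, ht⟩), (hmem _).2 ⟨x, ⟨t, ht⟩, Or.inl ⟨h, rfl⟩⟩⟩, rfl⟩
    · exact ⟨⟨(c, ι' x * Ψ ⟨t, ht⟩ * f'), (hmem _).2 ⟨x, ⟨t, ht⟩, Or.inr ⟨h, rfl⟩⟩⟩, rfl⟩
  have sur2 : Function.Surjective ((MonoidHom.snd C C').comp R.subtype) := by
    intro c
    obtain ⟨x, t, ht, h | h⟩ := H'.cover c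
    · refine ⟨⟨(ι x * ψ.symm ⟨t, ht⟩, c), (hmem _).2 ⟨x, ψ.symm ⟨t, ht⟩, Or.inl ⟨rfl, ?_⟩⟩⟩, rfl⟩
      change c = ι' x * ((ψ (ψ.symm ⟨t, ht⟩) : T') : C')
      rw [ψ.apply_symm_apply]; exact h
    · refine ⟨⟨(ι x * ψ.symm ⟨t, ht⟩ * f, c), (hmem _).2 ⟨x, ψ.symm ⟨t, ht⟩, Or.inr ⟨rfl, ?_⟩⟩⟩, rfl⟩
      change c = ι' x * ((ψ (ψ.symm ⟨t, ht⟩) : T') : C') * f'
      rw [ψ.apply_symm_apply]; exact h
  exact ⟨(MulEquiv.ofBijective _ ⟨inj1, sur1⟩).symm.trans (MulEquiv.ofBijective _ ⟨inj2, sur2⟩)⟩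

/-- **(A')**, first part: change of `S` by an automorphism -/
theorem change (H : Glue ι T f α ζ t1 u) (β : MulAut S) (hβ : β ζ = ζ) :
    Glue (ι.comp β.symm.toMonoidHom) T f (β * α * β⁻¹) ζ (β t1) u where
  inj := H.inj.comp β.symm.injective
  comm x t ht := H.comm _ t ht
  inter x := by
    change ι (β.symm x) ∈ T ↔ _
    rw [H.inter]
    constructor
    · rintro (h | h)
      · left; rw [← β.apply_symm_apply x, h, map_one]
      · right; rw [← β.apply_symm_apply x, h, hβ]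
    · rintro (rfl | rfl)
      · left; exact map_one _
      · right; nth_rw 1 [← hβ]; exact β.symm_apply_apply _
  f_T := H.f_T
  f_ι x := by
    change f * ι (β.symm x) = ι (β.symm (β (α (β.symm x)))) * f
    rw [β.symm_apply_apply, H.f_ι]
  f_sq := by
    change f * f = ι (β.symm (β t1)) * u
    rw [β.symm_apply_apply, H.f_sq]
  u_mem := H.u_mem
  cover c := by
    obtain ⟨x, t, ht, h⟩ := H.cover c
    refine ⟨β x, t, ht, ?_⟩
    change c = ι (β.symm (β x)) * t ∨ c = ι (β.symm (β x)) * t * f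
    rw [β.symm_apply_apply]; exact h
  f_not x t ht := H.f_not _ t ht

/-- **(A')**, second part: `(t1, u) → (t1 ζ, (ι ζ) u)` -/
theorem twist (H : Glue ι T f α ζ t1 u) (hζ : ζ * ζ = 1) : Glue ι T f α ζ (t1 * ζ) (ι ζ * u) where
  inj := H.inj
  comm := H.comm
  inter := H.inter
  f_T := H.f_T
  f_ι := H.f_ι
  f_sq := by
    rw [H.f_sq, map_mul]
    have h : ι ζ * ι ζ = 1 := by rw [← map_mul, hζ, map_one]
    calc ι t1 * u = ι t1 * (ι ζ * ι ζ) * u := by rw [h, mul_one]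
      _ = _ := by group
  u_mem := mul_mem (zeta_mem H) H.u_mem
  cover := H.cover
  f_not := H.f_not

/-- **(B)** quotient by a normal subgroup of odd order of `T` -/
theorem quot (H : Glue ι T f α ζ t1 u) (hζ : ζ * ζ = 1) (hζ1 : ζ ≠ 1) (Z : Subgroup C) [Z.Normal] (hZ : Z ≤ T)
    (hodd : ¬ 2 ∣ Nat.card Z) :
    Glue ((QuotientGroup.mk' Z).comp ι) (T.map (QuotientGroup.mk' Z)) (QuotientGroup.mk' Z f) α ζ t1
      (QuotientGroup.mk' Z u) where
  inj := by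
    rw [injective_iff_map_eq_one]
    intro x hx
    have h1 : ι x ∈ Z := (QuotientGroup.eq_one_iff _).1 hx
    rcases (H.inter x).1 (hZ h1) with h | rfl
    · exact h
    · exfalso
      apply hodd
      have h2 : orderOf (⟨ι x, h1⟩ : Z) = 2 := by
        rw [orderOf_eq_prime_iff]
        refine ⟨Subtype.ext ?_, fun h => hζ1 (H.inj ?_)⟩
        · change ι x ^ 2 = 1
          rw [pow_two, ← map_mul, hζ, map_one]
        · rw [map_one]; exact congrArg Subtype.val h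
      rw [← h2]
      exact orderOf_dvd_natCard _
  comm := by
    rintro x _ ⟨t, ht, rfl⟩
    change QuotientGroup.mk' Z (ι x) * _ = _ * QuotientGroup.mk' Z (ι x)
    rw [← map_mul, ← map_mul, H.comm x t ht]
  inter := by
    intro x
    rw [← H.inter]
    constructor
    · rintro ⟨t, ht, h⟩
      have h1 : t⁻¹ * ι x ∈ Z := (QuotientGroup.eq (s := Z)).1 h
      have h2 := mul_mem ht (hZ h1)
      rwa [mul_inv_cancel_left] at h2
    · intro h
      exact ⟨ι x, h, rfl⟩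
  f_T := by
    rintro _ ⟨t, ht, rfl⟩
    rw [← map_mul, ← map_mul, H.f_T t ht]
  f_ι := by
    intro x
    change _ * QuotientGroup.mk' Z (ι x) = QuotientGroup.mk' Z (ι (α x)) * _
    rw [← map_mul, ← map_mul, H.f_ι]
  f_sq := by
    change _ = QuotientGroup.mk' Z (ι t1) * _
    rw [← map_mul, ← map_mul, H.f_sq]
  u_mem := ⟨u, H.u_mem, rfl⟩
  cover := by
    intro c
    obtain ⟨c, rfl⟩ := QuotientGroup.mk'_surjective Z c
    obtain ⟨x, t, ht, h | h⟩ := H.cover c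
    · exact ⟨x, _, ⟨t, ht, rfl⟩, Or.inl (by rw [h, map_mul]; rfl)⟩
    · exact ⟨x, _, ⟨t, ht, rfl⟩, Or.inr (by rw [h, map_mul, map_mul]; rfl)⟩
  f_not := by
    rintro x _ ⟨t, ht, rfl⟩ h
    have h0 : QuotientGroup.mk' Z (ι x * t) = QuotientGroup.mk' Z f := by rw [h, map_mul]; rfl
    have h1 : (ι x * t)⁻¹ * f ∈ Z := (QuotientGroup.eq (s := Z)).1 h0
    refine H.f_not x (t * ((ι x * t)⁻¹ * f)) (mul_mem ht (hZ h1)) ?_
    group

end A

end Cfsg.Agent.LFourR.GlueIso
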