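import Cfsg.Agent.LFourR.GlueDef

/-!
# [GLUE] (C): the abstract model

`Mod ι D sc d2 t ζ` : the common features of `GL₂(q) = SL₂(q) · scalars · ⟨diag(1,i)⟩` and `GU₂(q)`.
`Mod.exists_glueSL` : it gives an instance of `GlueSL ε N k N`.
-/

set_option autoImplicit false

namespace Cfsg.Agent.LFourR

open Subgroup

/-- `M = GL₂` or `GU₂`, `A` the group of determinants, `sc` the scalars, `d2 a = diag(1, a)`, `t a = diag(a, a⁻¹)` -/
structure Mod {S M A : Type*} [Group S] [Group M] [CommGroup A] (ι : S →* M) (D : M →* A) (sc d2 : A →* M)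
    (t : A →* S) (ζ : S) : Prop where
  inj : Function.Injective ι
  ker : ∀ x, D x = 1 ↔ ∃ y, ι y = x
  sc_comm : ∀ a x, sc a * x = x * sc a
  D_sc : ∀ a, D (sc a) = a * a
  D_d2 : ∀ a, D (d2 a) = a
  sq : ∀ a, d2 a * d2 a = ι (t a)⁻¹ * sc a
  d2_comm : ∀ a b, d2 a * ι (t b) = ι (t b) * d2 a
  t_inj : Function.Injective t
  sc_neg : ∀ a, a * a = 1 → a ≠ 1 → sc a = ι ζ
  t_neg : ∀ a, a * a = 1 → a ≠ 1 → t a = ζ
  z_ne : ζ ≠ 1
  non : ∀ a, a ≠ 1 → ∃ x, d2 a * ι x ≠ ι x * d2 a

/-- conjugation by `f` on the kernel of `D` -/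
theorem Mod.exists_aut {S M A : Type*} [Group S] [Group M] [CommGroup A] {ι : S →* M} {D : M →* A} {sc d2 : A →* M}
    {t : A →* S} {ζ : S} (H : Mod ι D sc d2 t ζ) (f : M) : ∃ α : MulAut S, ∀ x, f * ι x = ι (α x) * f := by
  have h1 : ∀ g : M, ∀ x, ∃ y, ι y = g * ι x * g⁻¹ := by
    intro g x
    rw [← H.ker, map_mul, map_mul, map_inv, (H.ker (ι x)).2 ⟨x, rfl⟩, mul_one, mul_inv_cancel]
  choose φ hφ using h1
  refine ⟨{ toFun := φ f, invFun := φ f⁻¹, left_inv := ?_, right_inv := ?_, map_mul' := ?_ }, ?_⟩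
  · intro x
    apply H.inj
    rw [hφ, hφ]; group
  · intro x
    apply H.inj
    rw [hφ, hφ]; group
  · intro x y
    apply H.inj
    rw [map_mul, hφ, hφ, hφ, map_mul]; group
  · intro x
    change f * ι x = ι (φ f x) * f
    rw [hφ]; group

/-- in a cyclic group of order `N 2^k`, `N` odd, `k ≥ 1`: an element of order `2^k` is a non-square, and every element is
a square or a square times it. -/
theorem cyc_square {A : Type*} [CommGroup A] [Finite A] (hA : IsCyclic A) {N k : ℕ} (hN : Odd N) (hk : 1 ≤ k)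
    (hcard : Nat.card A = N * 2 ^ k) :
    ∃ i : A, orderOf i = 2 ^ k ∧ (∀ b, i ≠ b * b) ∧ ∀ x : A, ∃ b, x = b * b ∨ x = b * b * i := by
  obtain ⟨g, hg⟩ := hA.exists_generator
  have hgo : orderOf g = N * 2 ^ k := by
    rw [← hcard, ← Nat.card_zpowers, (Subgroup.eq_top_iff' _).2 hg, Subgroup.card_top]
  have hN0 : 0 < N := hN.pos
  have hio : orderOf (g ^ N) = 2 ^ k := by
    rw [orderOf_pow' _ hN0.ne', hgo, Nat.gcd_eq_right (dvd_mul_right _ _), Nat.mul_div_cancel_left _ hN0]
  have hpos : 0 < orderOf g := by rw [hgo]; positivity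
  refine ⟨g ^ N, hio, ?_, ?_⟩
  · intro b hb
    have h1 : b ^ (N * 2 ^ k) = 1 := by rw [← hcard]; exact pow_card_eq_one'
    have h2 : (g ^ N) ^ (N * 2 ^ (k - 1)) = 1 := by
      rw [hb, ← pow_two, ← pow_mul]
      have : 2 * (N * 2 ^ (k - 1)) = N * 2 ^ k := by
        obtain ⟨j, rfl⟩ : ∃ j, k = j + 1 := ⟨k - 1, by omega⟩
        simp [pow_succ]; ring
      rw [this, h1]
    have h3 := orderOf_dvd_of_pow_eq_one h2
    rw [hio] at h3
    have h4 : (2 : ℕ) ^ k ∣ 2 ^ (k - 1) := by
      refine Nat.Coprime.dvd_of_dvd_mul_left ?_ h3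
      exact Nat.Coprime.pow_left _ ((Nat.coprime_two_left).2 hN)
    have h5 := (Nat.pow_dvd_pow_iff_le_right (by norm_num : 1 < 2)).1 h4
    omega
  · intro x
    obtain ⟨n, hn⟩ := mem_zpowers_iff.1 (hg x)
    rcases Int.even_or_odd n with ⟨m, hm⟩ | ⟨m, hm⟩
    · exact ⟨g ^ m, Or.inl (by rw [← hn, hm, zpow_add])⟩
    · obtain ⟨j, hj⟩ := hN
      refine ⟨g ^ (m - j), Or.inr ?_⟩
      rw [← zpow_natCast, ← zpow_add, ← zpow_add, ← hn]
      congr 1
      rw [hm, hj]; push_cast; ring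

theorem Mod.exists_glueSL {F : Type*} [Field F] [Fintype F] {M A : Type*} [Group M] [CommGroup A] [Finite A]
    {ι : Matrix.SpecialLinearGroup (Fin 2) F →* M} {D : M →* A} {sc d2 : A →* M}
    {t : A →* Matrix.SpecialLinearGroup (Fin 2) F} (H : Mod ι D sc d2 t (-1)) {ε : ℤ} {N k : ℕ}
    (hn : Nums F ε N k) (hk : k = 1 ∨ k = 2) (hA : IsCyclic A) (hcard : Nat.card A = N * 2 ^ k) :
    ∃ (f : M) (α : MulAut (Matrix.SpecialLinearGroup (Fin 2) F)) (a t1 : Matrix.SpecialLinearGroup (Fin 2) F)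
      (u : M), GlueSL ε N k N ι sc.range f α a t1 u := by
  obtain ⟨i, hi, hins, hsq⟩ := cyc_square hA hn.odd (by omega) hcard
  obtain ⟨α, hα⟩ := H.exists_aut (d2 i)
  obtain ⟨g, hg⟩ := hA.exists_generator
  have hgo : orderOf g = N * 2 ^ k := by
    rw [← hcard, ← Nat.card_zpowers, (Subgroup.eq_top_iff' _).2 hg, Subgroup.card_top]
  have hlo : orderOf (g ^ (2 ^ k)) = N := by
    rw [orderOf_pow' _ (by positivity), hgo, Nat.gcd_eq_right (dvd_mul_left _ _), Nat.mul_div_cancel _ (by positivity)]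
  have hi1 : i ≠ 1 := by
    rintro rfl
    rw [orderOf_one] at hi
    have : (2 : ℕ) ≤ 2 ^ k := by
      rcases hk with rfl | rfl <;> norm_num
    omega
  have scinj : Function.Injective sc := by
    rw [injective_iff_map_eq_one]
    intro a ha
    by_contra h
    have h1 := H.D_sc a
    rw [ha, map_one] at h1
    have h2 := H.sc_neg a h1.symm h
    rw [ha] at h2
    exact H.z_ne (H.inj (by rw [map_one]; exact h2.symm))
  have hν : ∃ ν : A, ν * ν = 1 ∧ ν ≠ 1 := by
    rcases hk with rfl | rfl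
    · exact ⟨i, by rw [← pow_two, ← show orderOf i = 2 by simpa using hi, pow_orderOf_eq_one], hi1⟩
    · refine ⟨i * i, ?_, ?_⟩
      · rw [show i * i * (i * i) = i ^ 4 by simp only [pow_succ, pow_zero, one_mul, mul_assoc], ← show orderOf i = 4 by simpa using hi, pow_orderOf_eq_one]
      · intro h
        have := orderOf_dvd_of_pow_eq_one (x := i) (n := 2) (by rw [pow_two, h])
        rw [hi] at this
        norm_num at this
  have hTU : ∀ x, ι x ∈ sc.range ↔ x = 1 ∨ x = -1 := by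
    intro x
    constructor
    · rintro ⟨b, hb⟩
      have h1 := H.D_sc b
      rw [hb, (H.ker _).2 ⟨x, rfl⟩] at h1
      by_cases h : b = 1
      · left
        apply H.inj
        rw [← hb, h, map_one, map_one]
      · right
        apply H.inj
        rw [← hb, H.sc_neg b h1.symm h]
    · rintro (rfl | rfl)
      · rw [map_one]; exact one_mem _
      · obtain ⟨ν, h1, h2⟩ := hν
        exact ⟨ν, H.sc_neg ν h1 h2⟩
  have hglue : ∀ t1 u, u ∈ sc.range → d2 i * d2 i = ι t1 * u → Glue ι sc.range (d2 i) α (-1) t1 u := by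
    intro t1 u hu h
    exact
      { inj := H.inj
        comm := by
          rintro x _ ⟨b, rfl⟩
          exact (H.sc_comm b _).symm
        inter := hTU
        f_T := by
          rintro _ ⟨b, rfl⟩
          exact (H.sc_comm b _).symm
        f_ι := hα
        f_sq := h
        u_mem := hu
        cover := by
          intro c
          obtain ⟨b, hb⟩ := hsq (D c)
          rcases hb with hb | hb
          · obtain ⟨y, hy⟩ := (H.ker (c * (sc b)⁻¹)).1 (by rw [map_mul, map_inv, H.D_sc, hb, mul_inv_cancel])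
            exact ⟨y, sc b, ⟨b, rfl⟩, Or.inl (by rw [hy, inv_mul_cancel_right])⟩
          · obtain ⟨y, hy⟩ := (H.ker (c * (d2 i)⁻¹ * (sc b)⁻¹)).1 (by
              rw [map_mul, map_mul, map_inv, map_inv, H.D_sc, H.D_d2, hb]; group)
            exact ⟨y, sc b, ⟨b, rfl⟩, Or.inr (by rw [hy, inv_mul_cancel_right, inv_mul_cancel_right])⟩
        f_not := by
          rintro x _ ⟨b, rfl⟩ h
          have h1 := congrArg D h
          rw [H.D_d2, map_mul, H.D_sc, (H.ker _).2 ⟨x, rfl⟩, one_mul] at h1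
          exact hins b h1 }
  have hrest : ∀ t1 u, u ∈ sc.range → d2 i * d2 i = ι t1 * u →
      ((k = 1 ∧ t1 = 1 ∧ u = 1) ∨ (k = 2 ∧ t1 * t1 = -1 ∧ u * u = ι (-1))) →
      GlueSL ε N k N ι sc.range (d2 i) α (t (g ^ (2 ^ k))) t1 u := by
    intro t1 u h1 h2 h3
    exact
      { nums := hn
        glue := hglue t1 u h1 h2
        ord := by rw [orderOf_injective t H.t_inj, hlo]
        fix := by
          apply H.inj
          have h4 := hα (t (g ^ (2 ^ k)))
          rw [H.d2_comm] at h4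
          exact (mul_right_cancel h4).symm
        ne := by
          rintro rfl
          obtain ⟨x, hx⟩ := H.non i hi1
          exact hx (by rw [hα]; rfl)
        cyc := isCyclic_of_surjective sc.rangeRestrict sc.rangeRestrict_surjective
        card := by
          rw [← hcard]
          exact (Nat.card_congr (MonoidHom.ofInjective scinj).toEquiv).symm
        dvd := dvd_rfl
        cases := h3 }
  rcases hk with rfl | rfl
  · have hii : i * i = 1 := by rw [← pow_two, ← show orderOf i = 2 by simpa using hi, pow_orderOf_eq_one]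
    refine ⟨_, _, _, 1, 1, hrest 1 1 (one_mem _) ?_ (Or.inl ⟨rfl, rfl, rfl⟩)⟩
    rw [H.sq, H.t_neg i hii hi1, H.sc_neg i hii hi1, ← map_mul, inv_mul_cancel, map_one, one_mul]
  · have h4 : (i * i) * (i * i) = 1 := by
      rw [show i * i * (i * i) = i ^ 4 by simp only [pow_succ, pow_zero, one_mul, mul_assoc], ← show orderOf i = 4 by simpa using hi, pow_orderOf_eq_one]
    have h2 : i * i ≠ 1 := by
      intro h
      have := orderOf_dvd_of_pow_eq_one (x := i) (n := 2) (by rw [pow_two, h])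
      rw [hi] at this
      norm_num at this
    refine ⟨_, _, _, (t i)⁻¹, sc i, hrest _ _ ⟨i, rfl⟩ (H.sq i) (Or.inr ⟨rfl, ?_, ?_⟩)⟩
    · rw [← mul_inv_rev, ← map_mul, H.t_neg _ h4 h2]
      rw [inv_eq_iff_mul_eq_one, neg_mul_neg, one_mul]
    · rw [← map_mul, H.sc_neg _ h4 h2]

end Cfsg.Agent.LFourR
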