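import Cfsg.Agent.LFourA.LCent
import Cfsg.Agent.LFourA.CzData
import Cfsg.Agent.LFourR.GenInp
import Cfsg.Agent.LFourR.CloseA
import Cfsg.Agent.LFourR.FixTorus

/-!
# The input of the recognition of `L_4(q)`, `U_4(q)` in case I

From `DWr`, `CaseI` and `LCent` (the components of `C(z)`) we construct `Pre`, `z = f c c`, `e = f (sr 0) (sr 1)`,
`n1 = f x0 x0⁻¹`, `n2 = f x0 x0`, `ρ = a * (w * b * w⁻¹)`, `U = ⊥`.
-/

set_option autoImplicit false

namespace Cfsg.Agent.LFourR.InpA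

open Subgroup Cfsg DihedralGroup Cfsg.Agent.LFourA.Model Cfsg.Agent.LFourA.Base Cfsg.Agent.LFourA.Defs
open Cfsg.Agent.LFourA.Facts Cfsg.Agent.LFourR.CloseA
open Cfsg.Agent.LFourA.LCent (LCent)

section dih

variable {k : ℕ}

theorem two_ne_zero' : (1 : ZMod (4 * 2 ^ k)) + 1 ≠ 0 := by
  intro h
  have hpos : 0 < 2 ^ k := by positivity
  have h1 : ((2 : ℕ) : ZMod (4 * 2 ^ k)) = 0 := by
    rw [← h]; norm_num
  rw [ZMod.natCast_eq_zero_iff] at h1
  have := Nat.le_of_dvd (by norm_num) h1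
  omega

/-- an element commuting with `r 1` is a rotation -/
theorem exists_r {a : D k} (ha : a * r 1 = r 1 * a) : ∃ m, a = r m := by
  rcases a with m | m
  · exact ⟨m, rfl⟩
  · exfalso
    rw [sr_mul_r, r_mul_sr] at ha
    have h1 := DihedralGroup.sr.inj ha
    apply two_ne_zero' (k := k)
    linear_combination h1

/-- an element inverting `r 1` is a reflection -/
theorem exists_sr {a : D k} (ha : a * r (-1) = r 1 * a) : ∃ m, a = sr m := by
  rcases a with m | m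
  · exfalso
    rw [r_mul_r, r_mul_r] at ha
    have h1 := DihedralGroup.r.inj ha
    apply two_ne_zero' (k := k)
    linear_combination -h1
  · exact ⟨m, rfl⟩

end dih

section gen

variable {G : Type*} [Group G]

theorem cg_eq_of_card [Finite G] {g : G} {L M : Subgroup G} (h1 : ∀ x ∈ L, g * x * g⁻¹ ∈ M)
    (h2 : Nat.card M = Nat.card L) : cg g L = M := by
  apply Subgroup.eq_of_le_of_card_ge
  · intro y hy
    rw [mem_cg] at hy
    have := h1 _ hy
    have e : g * (g⁻¹ * y * g) * g⁻¹ = y := by group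
    rwa [e] at this
  · rw [h2]
    exact (Nat.card_congr (cgEquiv g L).toEquiv).le

theorem isPGroup_zpowers {x : G} {m : ℕ} (hx : x ^ 2 ^ m = 1) : IsPGroup 2 (zpowers x) := by
  rintro ⟨y, j, rfl⟩
  refine ⟨m, Subtype.ext ?_⟩
  change (x ^ j) ^ 2 ^ m = 1
  rw [← zpow_natCast, zpow_comm, zpow_natCast, hx, one_zpow]

end gen

section main

variable {G : Type*} [Group G] {P : Sylow 2 G} {k : ℕ} {f : D k → D k → G} {w : G}
  {F : Type*} [Field F] {L₁ L₂ : Subgroup G}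

section pp

variable (h : DWr (P : Subgroup G) k f w) (hL : LCent f w F L₁ L₂)

include h hL

/-- elements of `P` commuting with `L₂` -/
theorem form1 {x : G} (hx : x ∈ (P : Subgroup G)) (hc : ∀ y ∈ L₂, x * y = y * x) :
    (∃ m, x = f (r m) (r (-m))) ∨ ∃ m, x = f (r m) (r (-m) * c k) * w := by
  have h1 := hc _ (hL.q₂x 1)
  have h2 := hc _ hL.q₂w
  rcases mem_cases h hx with ⟨a, b, rfl⟩ | ⟨a, b, rfl⟩
  · left
    obtain ⟨ha, hb⟩ := (f_comm_iff h).1 h1
    obtain ⟨m, rfl⟩ := exists_r ha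
    obtain ⟨n, rfl⟩ := exists_r hb
    obtain ⟨h3, -⟩ := (fw_comm_f_iff h).1 h2.symm
    rw [sr_mul_r, r_mul_sr] at h3
    have h4 := DihedralGroup.sr.inj h3
    have hn : n = -m := by linear_combination h4
    exact ⟨m, by rw [hn]⟩
  · right
    obtain ⟨ha, hb⟩ := (fw_comm_f_iff h).1 h1
    obtain ⟨m, rfl⟩ := exists_r ha
    obtain ⟨n, rfl⟩ := exists_r hb
    rw [fw_mul_fw h, fw_mul_fw h, f_eq_iff h] at h2
    obtain ⟨h3, -⟩ := h2
    rw [sr_c, r_mul_sr, sr_mul_r] at h3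
    have h4 := DihedralGroup.sr.inj h3
    refine ⟨m, ?_⟩
    have hn : (r n : D k) = r (-m) * c k := by
      rw [c, r_mul_r]
      congr 1
      linear_combination -h4
    rw [hn]

theorem mem1 {x : G} (hx : x ∈ (P : Subgroup G)) (hc : ∀ y ∈ L₂, x * y = y * x) : x ∈ L₁ := by
  rcases form1 h hL hx hc with ⟨m, rfl⟩ | ⟨m, rfl⟩
  · exact hL.q₁x m
  · have h1 := mul_mem (hL.q₁x m) hL.q₁w
    rwa [f_mul_fw h, mul_one] at h1

/-- elements of `P` commuting with `L₁` -/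
theorem mem2 {x : G} (hx : x ∈ (P : Subgroup G)) (hc : ∀ y ∈ L₁, x * y = y * x) : x ∈ L₂ := by
  have h1 := hc _ (hL.q₁x 1)
  have h2 := hc _ hL.q₁w
  rcases mem_cases h hx with ⟨a, b, rfl⟩ | ⟨a, b, rfl⟩
  · obtain ⟨ha, hb⟩ := (f_comm_iff h).1 h1
    obtain ⟨m, rfl⟩ := exists_r ha
    obtain ⟨h3, -⟩ := (fw_comm_f_iff h).1 h2.symm
    rw [one_mul, mul_one] at h3
    rw [h3]
    exact hL.q₂x m
  · obtain ⟨ha, -⟩ := (fw_comm_f_iff h).1 h1
    obtain ⟨m, rfl⟩ := exists_sr ha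
    rw [fw_mul_fw h, fw_mul_fw h, f_eq_iff h] at h2
    obtain ⟨h3, -⟩ := h2
    rw [one_mul] at h3
    have h4 := mul_mem (hL.q₂x (-m)) hL.q₂w
    rw [f_mul_fw h, ← mul_assoc, r_mul_sr] at h4
    have e : (0 : ZMod (4 * 2 ^ k)) - -m = m := by ring
    rw [e] at h4
    rw [← h3]
    exact h4

theorem z_mem1 : f (c k) (c k) ∈ L₁ := by
  have h1 := mul_mem (hL.q₁x ((2 ^ k : ℕ) : ZMod (4 * 2 ^ k))) (hL.q₁x ((2 ^ k : ℕ) : ZMod (4 * 2 ^ k)))
  rw [h.f_mul, r_mul_r, r_mul_r, quarter_add_quarter, ← neg_add, quarter_add_quarter, neg_half] at h1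
  exact h1

theorem z_mem2 : f (c k) (c k) ∈ L₂ := by
  have h1 := mul_mem (hL.q₂x ((2 ^ k : ℕ) : ZMod (4 * 2 ^ k))) (hL.q₂x ((2 ^ k : ℕ) : ZMod (4 * 2 ^ k)))
  rw [h.f_mul, r_mul_r, quarter_add_quarter] at h1
  exact h1

variable [Finite G]

omit h [Finite G] in
theorem card_eq : Nat.card L₁ = Nat.card L₂ := by
  obtain ⟨e1⟩ := hL.iso₁
  obtain ⟨e2⟩ := hL.iso₂
  exact Nat.card_congr (e1.trans e2.symm).toEquiv

omit h in
theorem perm (g : G) (hg : g * f (c k) (c k) = f (c k) (c k) * g) :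
    (cg g L₁ = L₁ ∧ cg g L₂ = L₂) ∨ (cg g L₁ = L₂ ∧ cg g L₂ = L₁) := by
  rcases hL.norm g hg with ⟨h1, h2⟩ | ⟨h1, h2⟩
  · exact Or.inl ⟨cg_eq_of_card h1 rfl, cg_eq_of_card h2 rfl⟩
  · exact Or.inr ⟨cg_eq_of_card h1 (card_eq hL).symm, cg_eq_of_card h2 (card_eq hL)⟩

omit h in
theorem swap1 (i : ZMod (4 * 2 ^ k)) (e : D k) (he : e = 1 ∨ e = c k) :
    cg (f (sr i) e) L₁ = L₂ ∧ cg (f (sr i) e) L₂ = L₁ :=
  ⟨cg_eq_of_card (hL.swap₁ i e he).1 (card_eq hL).symm, cg_eq_of_card (hL.swap₁ i e he).2 (card_eq hL)⟩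

omit h in
theorem swap2 (i : ZMod (4 * 2 ^ k)) (e : D k) (he : e = 1 ∨ e = c k) :
    cg (f e (sr i)) L₁ = L₂ ∧ cg (f e (sr i)) L₂ = L₁ :=
  ⟨cg_eq_of_card (hL.swap₂ i e he).1 (card_eq hL).symm, cg_eq_of_card (hL.swap₂ i e he).2 (card_eq hL)⟩

theorem e_norm (i j : ZMod (4 * 2 ^ k)) : cg (f (sr i) (sr j)) L₁ = L₁ ∧ cg (f (sr i) (sr j)) L₂ = L₂ := by
  rw [f_split h, cg_mul, cg_mul, (swap2 hL j 1 (Or.inl rfl)).1, (swap2 hL j 1 (Or.inl rfl)).2,
    (swap1 hL i 1 (Or.inl rfl)).1, (swap1 hL i 1 (Or.inl rfl)).2]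
  exact ⟨rfl, rfl⟩

/-- 2-subgroups of `C(z)` are conjugate into `P` by elements normalising `L₁` and `L₂`. -/
theorem conj_in {H : Subgroup G} (hH : IsPGroup 2 H) (hz : ∀ x ∈ H, x * f (c k) (c k) = f (c k) (c k) * x) :
    ∃ g : G, g * f (c k) (c k) = f (c k) (c k) * g ∧ (∀ x ∈ H, g * x * g⁻¹ ∈ (P : Subgroup G)) ∧ cg g L₁ = L₁ ∧
      cg g L₂ = L₂ := by
  have hPN := Cfsg.Agent.LFourA.CzData.sylow_le h
  have hrel : ¬ 2 ∣ (P : Subgroup G).relIndex (centralizer ({f (c k) (c k)} : Set G)) := fun hd =>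
    P.not_dvd_index (hd.trans (relIndex_dvd_index_of_le hPN))
  obtain ⟨g, hg, hgH⟩ := Cfsg.Agent.Lib.GoldschmidtFusion.exists_conj_le_in P.isPGroup' hrel (D := H) (fun x hx =>
    mem_centralizer_singleton_iff.2 (hz x hx)) hH
  have hgz : g * f (c k) (c k) = f (c k) (c k) * g := mem_centralizer_singleton_iff.1 hg
  have hgx : ∀ x ∈ H, g * x * g⁻¹ ∈ (P : Subgroup G) := fun x hx => hgH ⟨x, hx, rfl⟩
  rcases perm hL g hgz with ⟨h1, h2⟩ | ⟨h1, h2⟩
  · exact ⟨g, hgz, hgx, h1, h2⟩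
  · have hs : f (sr 0) 1 ∈ (P : Subgroup G) := f_mem h _ _
    have hsz : f (sr 0) 1 * f (c k) (c k) = f (c k) (c k) * f (sr 0) 1 := (z_comm h hs).symm
    obtain ⟨h3, h4⟩ := swap1 hL 0 1 (Or.inl rfl)
    refine ⟨f (sr 0) 1 * g, ?_, ?_, by rw [cg_mul, h1, h4], by rw [cg_mul, h2, h3]⟩
    · rw [mul_assoc, hgz, ← mul_assoc, hsz, mul_assoc]
    · intro x hx
      have e : f (sr 0) 1 * g * x * (f (sr 0) 1 * g)⁻¹ = f (sr 0) 1 * (g * x * g⁻¹) * (f (sr 0) 1)⁻¹ := by group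
      rw [e]
      exact mul_mem (mul_mem hs (hgx x hx)) (inv_mem hs)

theorem two (x : G) (hx : ∀ l ∈ L₁, x * l = l * x) (hm : ∃ m : ℕ, x ^ 2 ^ m = 1) : x ∈ L₂ := by
  obtain ⟨m, hm⟩ := hm
  obtain ⟨g, -, hgP, hg1, hg2⟩ := conj_in h hL (isPGroup_zpowers hm) (by
    rintro _ ⟨j, rfl⟩
    exact (Commute.zpow_left (show Commute x _ from hx _ (z_mem1 h hL)) j).eq)
  have h1 : g * x * g⁻¹ ∈ L₂ := by
    refine mem2 h hL (hgP x (mem_zpowers x)) ?_
    intro y hy
    rw [← hg1, mem_cg] at hy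
    have := hx _ hy
    calc g * x * g⁻¹ * y = g * (x * (g⁻¹ * y * g)) * g⁻¹ := by group
      _ = g * ((g⁻¹ * y * g) * x) * g⁻¹ := by rw [this]
      _ = y * (g * x * g⁻¹) := by group
  rw [← hg2, mem_cg] at h1
  have e : g⁻¹ * (g * x * g⁻¹) * g = x := by group
  rwa [e] at h1

end pp

/-- no element of order four of `L₁` commutes with `e` -/
theorem noFour [Finite G] (h : DWr (P : Subgroup G) k f w) (hI : CaseI f w) (hL : LCent f w F L₁ L₂)
    {i j : ZMod (4 * 2 ^ k)} (hij : pa i ≠ pa j) {x : G} (hx : x ∈ L₁) (hxx : x * x = f (c k) (c k)) :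
    x * f (sr i) (sr j) ≠ f (sr i) (sr j) * x := by
  intro hxe
  set z := f (c k) (c k) with hz
  set e := f (sr i) (sr j) with he
  have hee : e * e = 1 := by
    rw [he, h.f_mul, sr_mul_self, sr_mul_self, f_one h]
  have hzz : z * z = 1 := by rw [hz, h.f_mul, c_mul_c, f_one h]
  have hz1 : z ≠ 1 := z_ne_one h
  have hez : e * z = z * e := (z_comm h (f_mem h _ _)).symm
  have hxz : x * z = z * x := by rw [← hxx, mul_assoc]
  have hH : IsPGroup 2 (zpowers x ⊔ zpowers e : Subgroup G) := by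
    refine IsPGroup.to_sup_of_normal_right' (isPGroup_zpowers (m := 2) ?_) (isPGroup_zpowers (m := 1) ?_) ?_
    · have : x ^ 2 ^ 2 = (x * x) * (x * x) := by
        rw [← pow_two, ← pow_two, ← pow_mul]; norm_num
      rw [this, hxx, hzz]
    · rw [pow_one, pow_two, hee]
    · rw [zpowers_le, mem_normalizer_iff_cg]
      apply le_antisymm
      · intro y hy
        rw [mem_cg] at hy
        obtain ⟨n, hn⟩ := mem_zpowers_iff.1 hy
        refine mem_zpowers_iff.2 ⟨n, ?_⟩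
        have h1 : Commute x (e ^ n) := Commute.zpow_right (show Commute x e from hxe) n
        have h2 : y = x * (e ^ n) * x⁻¹ := by rw [hn]; group
        rw [h2, h1.eq, mul_inv_cancel_right]
      · intro y hy
        rw [mem_cg]
        obtain ⟨n, rfl⟩ := mem_zpowers_iff.1 hy
        have h1 : Commute x (e ^ n) := Commute.zpow_right (show Commute x e from hxe) n
        rw [mul_assoc, ← h1.eq, inv_mul_cancel_left]
        exact ⟨n, rfl⟩
  have hHz : ∀ y ∈ (zpowers x ⊔ zpowers e : Subgroup G), y * z = z * y := by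
    intro y hy
    have : (zpowers x ⊔ zpowers e : Subgroup G) ≤ centralizer ({z} : Set G) := by
      rw [sup_le_iff, zpowers_le, zpowers_le, mem_centralizer_singleton_iff, mem_centralizer_singleton_iff]
      exact ⟨hxz, hez⟩
    exact mem_centralizer_singleton_iff.1 (this hy)
  obtain ⟨g, hgz, hgP, hg1, hg2⟩ := conj_in h hL hH hHz
  set x' := g * x * g⁻¹ with hx'
  set e' := g * e * g⁻¹ with he'
  have hx'P : x' ∈ (P : Subgroup G) := hgP x (mem_sup_left (mem_zpowers x))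
  have he'P : e' ∈ (P : Subgroup G) := hgP e (mem_sup_right (mem_zpowers e))
  have hx'L : x' ∈ L₁ := by rw [← hg1]; exact conj_mem_cg hx
  have hzg : g * z * g⁻¹ = z := by rw [hgz, mul_inv_cancel_right]
  have hx'x : x' * x' = z := by
    have : x' * x' = g * (x * x) * g⁻¹ := by rw [hx']; group
    rw [this, hxx, hzg]
  have hcomm : x' * e' = e' * x' := by
    have e1 : x' * e' = g * (x * e) * g⁻¹ := by rw [hx', he']; group
    have e2 : e' * x' = g * (e * x) * g⁻¹ := by rw [hx', he']; group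
    rw [e1, e2, hxe]
  have he'e : e' * e' = 1 := by
    have : e' * e' = g * (e * e) * g⁻¹ := by rw [he']; group
    rw [this, hee, mul_one, mul_inv_cancel]
  have he'z : IsConj e' z := by
    refine IsConj.trans ?_ (hI.diff i j hij)
    exact (isConj_iff.2 ⟨g, rfl⟩ : IsConj e e').symm
  have he'n : e' ≠ z := by
    intro h1
    have h2 : e = z := by
      have : g * e * g⁻¹ = g * z * g⁻¹ := by rw [hzg]; exact h1
      exact mul_left_cancel (mul_right_cancel this)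
    have := ((f_eq_iff h).1 h2).1
    exact sr_ne_c i this
  have hnt : ¬ IsConj (f (c k) 1) e' := fun h1 => hI.tz (h1.trans he'z)
  have he'1 : e' ≠ 1 := by
    intro h1
    rw [h1, isConj_one_right] at he'z
    exact hz1 he'z
  have he'L : e' * x' * e'⁻¹ ∈ L₁ := by rw [← hcomm, mul_inv_cancel_right]; exact hx'L
  -- `e'` does not swap
  have hnsw : cg e' L₁ ≠ L₂ := by
    intro h1
    have h2 : e' * x' * e'⁻¹ ∈ L₂ := by rw [← h1]; exact conj_mem_cg hx'L
    rw [← hcomm, mul_inv_cancel_right] at h2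
    rcases hL.inf _ hx'L h2 with h3 | h3
    · rw [h3, mul_one] at hx'x; exact hz1 hx'x.symm
    · rw [h3, ← hz, hzz] at hx'x; exact hz1 hx'x.symm
  rcases mem_cases h he'P with ⟨p, q, hpq⟩ | ⟨p, q, hpq⟩
  · rw [hpq] at he'e
    obtain ⟨hp, hq⟩ := (f_sq_one_iff h).1 he'e
    have sw : ∀ p q : D k, IsConj (f p q) (f q p) := fun p q => isConj_iff.2 ⟨w, w_conj h p q⟩
    rcases eq_of_sq_one hp with rfl | rfl | ⟨i', rfl⟩
    · rcases eq_of_sq_one hq with rfl | rfl | ⟨j', rfl⟩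
      · exact he'1 (hpq.trans (f_one h))
      · exact hnt (by rw [hpq]; exact sw _ _)
      · exact hnsw (by rw [hpq]; exact (swap2 hL j' 1 (Or.inl rfl)).1)
    · rcases eq_of_sq_one hq with rfl | rfl | ⟨j', rfl⟩
      · exact hnt (by rw [hpq])
      · exact he'n hpq
      · exact hnsw (by rw [hpq]; exact (swap2 hL j' _ (Or.inr rfl)).1)
    · rcases eq_of_sq_one hq with rfl | rfl | ⟨j', rfl⟩
      · exact hnsw (by rw [hpq]; exact (swap1 hL i' 1 (Or.inl rfl)).1)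
      · exact hnsw (by rw [hpq]; exact (swap1 hL i' _ (Or.inr rfl)).1)
      · have hpa : pa i' ≠ pa j' := by
          intro h1
          exact hnt (by rw [hpq]; exact (hI.same i' j' h1).symm)
        rcases form1 h hL hx'P (hL.comm _ hx'L) with ⟨m, hm⟩ | ⟨m, hm⟩
        · -- `x' = f (r m) (r (-m))`
          rw [hm, hpq, f_comm_iff h] at hcomm
          obtain ⟨h1, -⟩ := hcomm
          rw [r_mul_sr, sr_mul_r] at h1
          have h2 := DihedralGroup.sr.inj h1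
          have h3 : m + m = 0 := by linear_combination -h2
          rw [hm, h.f_mul, r_mul_r, h3, r_mul_r, ← neg_add, h3, neg_zero, ← one_def, f_one h] at hx'x
          exact hz1 hx'x.symm
        · rw [hm, hpq, fw_comm_f_iff h] at hcomm
          obtain ⟨h1, -⟩ := hcomm
          rw [r_mul_sr, sr_mul_r] at h1
          have h2 := DihedralGroup.sr.inj h1
          apply hpa
          have h3 : j' = i' + (m + m) := by linear_combination h2
          have h4 : ∀ u : ZMod 2, u + u = 0 := by decide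
          rw [h3, map_add, map_add, h4, add_zero]
  · rw [hpq] at he'e
    have hq := (fw_sq_one_iff h).1 he'e
    subst hq
    obtain ⟨g', hg', -⟩ := hI.w_t
    apply hnt
    have h1 : IsConj w (f (c k) 1) := isConj_iff.2 ⟨g', hg'⟩
    refine h1.symm.trans ?_
    rw [hpq, fw_eq_conj_w h]
    exact isConj_iff.2 ⟨_, rfl⟩

end main

end Cfsg.Agent.LFourR.InpA
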