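import Mathlib
import Cfsg.Agent.LFourR.SideEx

/-!
The input of the recognition of `PSL(4, q)`, `PSU(4, q)` from the frame, types `I` and `B5`.
-/

set_option autoImplicit false

namespace Cfsg.Agent.LFourR

open Subgroup

/-- The input: `z` an involution, `L1`, `L2 ≅ SL(2, F)` commuting with `z` in both, permuted by `C(z)`; `e` an involution
with cyclic centralisers of order `q - ε` in `L1`; `n1 ∈ L1`, `n2 ∈ L2` Weyl elements; `ρ` with `z → e → z e → z` such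
that `w = ρ (n1 n2) ρ⁻¹` swaps `L1` and `L2`; `U` a `2`-subgroup of the torus. -/
structure Inp (F : Type*) [Field F] [Fintype F] {G : Type*} [Group G] (ε : ℤ) (N k : ℕ) (z e ρ n1 n2 : G)
    (L1 L2 U : Subgroup G) : Prop where
  nums : Nums F ε N k
  zz : z * z = 1
  z_ne : z ≠ 1
  ee : e * e = 1
  e_ne : e ≠ 1
  e_ne_z : e ≠ z
  ze : z * e = e * z
  iso1 : Nonempty (L1 ≃* Matrix.SpecialLinearGroup (Fin 2) F)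
  z_mem : z ∈ L1
  comm : ∀ x ∈ L1, ∀ y ∈ L2, x * y = y * x
  perm : ∀ c : G, c * z = z * c → (cg c L1 = L1 ∧ cg c L2 = L2) ∨ (cg c L1 = L2 ∧ cg c L2 = L1)
  e_norm : cg e L1 = L1
  T_cyc : IsCyclic (L1 ⊓ centralizer {e} : Subgroup G)
  T_card : Nat.card (L1 ⊓ centralizer {e} : Subgroup G) = N * 2 ^ k
  e_act : ¬ ∀ l ∈ L1, e * l = l * e
  n1_mem : n1 ∈ L1
  n1_sq : n1 * n1 = z
  n1_inv : ∀ t ∈ L1, t * e = e * t → n1 * t * n1⁻¹ = t⁻¹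
  n1_e : e * n1 * e⁻¹ = n1 * z
  n2_mem : n2 ∈ L2
  n2_sq : n2 * n2 = z
  n2_inv : ∀ t ∈ L2, t * e = e * t → n2 * t * n2⁻¹ = t⁻¹
  n2_e : e * n2 * e⁻¹ = n2 * z
  ρ_z : ρ * z * ρ⁻¹ = e
  ρ_e : ρ * e * ρ⁻¹ = z * e
  swap : cg (ρ * (n1 * n2) * ρ⁻¹) L1 = L2
  U_z : ∀ u ∈ U, u * z = z * u
  U_e : ∀ u ∈ U, u * e = e * u
  U_ρ : cg ρ U = U
  U_T1 : ∀ u ∈ U, ∀ t ∈ L1, t * e = e * t → u * t = t * u
  U_T2 : ∀ u ∈ U, ∀ t ∈ L2, t * e = e * t → u * t = t * u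
  w_rot : ρ * (ρ * (n1 * n2) * ρ⁻¹) * ρ⁻¹ * (n1 * n2 * (ρ * (n1 * n2) * ρ⁻¹))⁻¹ ∈ U
  c_rot : ρ⁻¹ * (n1 * n2) * ρ * (n1 * n2 * (ρ * (n1 * n2) * ρ⁻¹))⁻¹ ∈ U
  Z : ∀ x : G, (∀ l ∈ L1, x * l = l * x) → (∀ l ∈ L2, x * l = l * x) → x * e = e * x ∧ (x * x = 1 → x = 1 ∨ x = z)
  two : ∀ x : G, (∀ l ∈ L1, x * l = l * x) → (∃ m : ℕ, x ^ 2 ^ m = 1) → x ∈ L2
  f : k = 1 ∨ (k = 2 ∧ ∃ f ∈ U, f * f = e)
  gen : ∀ x : G, (∀ l ∈ L1, x * l = l * x) → (∀ l ∈ L2, x * l = l * x) → (∀ l ∈ cg ρ L1, x * l = l * x) → x = 1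

end Cfsg.Agent.LFourR
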