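import Cfsg.Agent.S0812
import Cfsg.Agent.ClassicalGeometry.SLTwoFour

/-!
# `PSL(2, F)`, `|F| ≡ 1 mod 4`, `|F| ≥ 13`: a subgroup containing `C(y)` and an involution `y'` not commuting with `y`

`eq_top_of_centralizer` : such a subgroup is the whole group (`C(y)` is the maximal dihedral group of order `q - 1`).
-/

set_option autoImplicit false

namespace Cfsg.Agent.LFourR.PslMax

open Matrix Subgroup Cfsg.Agent.ClassicalGeometry.SplitTorus Cfsg.Agent.S0812

variable {F : Type*} [Field F]

/-- `PSL(2,F)` -/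
local notation "PSL2" => Matrix.ProjectiveSpecialLinearGroup (Fin 2) F

/-- monomial matrices commute with `diag(i, -i)` up to sign -/
theorem pmono_le {ι : Fˣ} (hι : ι * ι = -1) :
    pmono F ≤ centralizer ({QuotientGroup.mk' (center (SpecialLinearGroup (Fin 2) F)) (dg ι)} : Set _) := by
  rintro _ ⟨A, hA, rfl⟩
  rw [mem_centralizer_singleton_iff, ← map_mul, ← map_mul, QuotientGroup.mk'_apply, QuotientGroup.mk'_apply,
    QuotientGroup.eq]
  have hinv : ι⁻¹ = -ι := by
    rw [inv_eq_iff_mul_eq_one]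
    have : ι * -ι = -(ι * ι) := by rw [mul_neg]
    rw [this, hι, neg_neg]
  have hi : ((ι⁻¹ : Fˣ) : F) = -(ι : F) := by rw [hinv]; rfl
  rcases mem_monomial.1 hA with ⟨h1, h2⟩ | ⟨h1, h2⟩
  · have : A * dg ι = dg ι * A := by
      apply ext2
      · rw [mul00, mul00]; simp [h1, h2, mul_comm]
      · rw [mul01, mul01]; simp [h1]
      · rw [mul10, mul10]; simp [h2]
      · rw [mul11, mul11]; simp [h1, h2, mul_comm]
    rw [this, inv_mul_cancel]
    exact one_mem _
  · have : A * dg ι = (dg ι * A) * dg (-1) := by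
      apply ext2
      · rw [mul00, mul00, mul00]; simp [h1]
      · rw [mul01, mul01, mul01, mul00]; simp [h1, h2, hi, mul_comm]
      · rw [mul10, mul10, mul10, mul11]; simp [h1, h2, hi, mul_comm]
      · rw [mul11, mul11, mul11]; simp [h2]
    rw [this, _root_.mul_inv_rev, mul_assoc, inv_mul_cancel, mul_one]
    apply inv_mem
    rw [dg_mem_center_iff]
    simp

theorem psl_eq_top [Fintype F] (h4 : Fintype.card F % 4 = 1) (h13 : 13 ≤ Fintype.card F)
    {H : Subgroup PSL2} {y : PSL2} (hy : orderOf y = 2) (hC : centralizer ({y} : Set PSL2) ≤ H) {y' : PSL2}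
    (hy' : y' ∈ H) (hne : y * y' ≠ y' * y) : H = ⊤ := by
  have hsq : IsSquare (-1 : F) := FiniteField.isSquare_neg_one_iff.2 (by omega)
  obtain ⟨i, hi⟩ := hsq
  have hi0 : i ≠ 0 := by
    rintro rfl
    rw [mul_zero] at hi
    exact neg_ne_zero.2 one_ne_zero hi
  set ι : Fˣ := Units.mk0 i hi0 with hιd
  have hι : ι * ι = -1 := Units.ext (by simp [hιd, hi])
  have hodd : Odd (Fintype.card F) := by rw [Nat.odd_iff]; omega
  have h2 : (2 : F) ≠ 0 := ClassicalGeometry.SLTwoFour.two_ne_zero_of_odd hodd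
  set x0 : PSL2 := QuotientGroup.mk' (center (SpecialLinearGroup (Fin 2) F)) (dg ι) with hx0
  have hx02 : orderOf x0 = 2 := by
    apply orderOf_eq_prime
    · rw [hx0, ← map_pow, sq, ← dg_mul, hι]
      rw [QuotientGroup.mk'_apply, QuotientGroup.eq_one_iff, dg_mem_center_iff]
      simp
    · rw [hx0]
      intro h
      rw [QuotientGroup.mk'_apply, QuotientGroup.eq_one_iff, dg_mem_center_iff, sq, hι] at h
      have h1 := congrArg Units.val h
      simp only [Units.val_neg, Units.val_one] at h1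
      apply h2
      linear_combination -h1
  obtain ⟨g, hg⟩ := isConj_iff.1 (ClassicalGeometry.SLTwoFour.psl_isConj hodd x0 y hx02 hy)
  have hmax : IsCoatom (pmono F) := isCoatom_pmono (by
    simp only [Finset.mem_insert, Finset.mem_singleton, not_or]
    refine ⟨?_, ?_, ?_, ?_, ?_⟩ <;> omega)
  -- conjugate everything by `g`
  have hle : pmono F ≤ H.comap (MulAut.conj g).toMonoidHom := by
    intro a ha
    apply hC
    rw [mem_centralizer_singleton_iff]
    have h1 := mem_centralizer_singleton_iff.1 (pmono_le hι ha)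
    change g * a * g⁻¹ * y = y * (g * a * g⁻¹)
    rw [← hg]
    calc g * a * g⁻¹ * (g * x0 * g⁻¹) = g * (a * x0) * g⁻¹ := by group
      _ = g * (x0 * a) * g⁻¹ := by rw [hx0, h1]
      _ = g * x0 * g⁻¹ * (g * a * g⁻¹) := by group
  rcases hmax.le_iff.1 hle with h1 | h1
  · rw [eq_top_iff]
    intro a _
    have h3 : g⁻¹ * a * g ∈ H.comap (MulAut.conj g).toMonoidHom := by rw [h1]; exact mem_top _
    have h4 : g * (g⁻¹ * a * g) * g⁻¹ ∈ H := h3
    have h5 : g * (g⁻¹ * a * g) * g⁻¹ = a := by group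
    rwa [h5] at h4
  · exfalso
    apply hne
    have h3 : g⁻¹ * y' * g ∈ H.comap (MulAut.conj g).toMonoidHom := by
      change g * (g⁻¹ * y' * g) * g⁻¹ ∈ H
      have h5 : g * (g⁻¹ * y' * g) * g⁻¹ = y' := by group
      rwa [h5]
    rw [h1] at h3
    have h4 := mem_centralizer_singleton_iff.1 (pmono_le hι h3)
    rw [← hx0] at h4
    rw [← hg]
    calc g * x0 * g⁻¹ * y' = g * (x0 * (g⁻¹ * y' * g)) * g⁻¹ := by group
      _ = g * ((g⁻¹ * y' * g) * x0) * g⁻¹ := by rw [h4]
      _ = y' * (g * x0 * g⁻¹) := by group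

theorem eq_top_of_centralizer {K : Type*} [Group K] [Fintype F] (h4 : Fintype.card F % 4 = 1)
    (h13 : 13 ≤ Fintype.card F) (e : K ≃* PSL2) {H : Subgroup K} {y : K} (hy : orderOf y = 2)
    (hC : ∀ x, x * y = y * x → x ∈ H) {y' : K} (hy' : y' ∈ H) (hne : y * y' ≠ y' * y) : H = ⊤ := by
  have h1 : H.map e.toMonoidHom = ⊤ := by
    refine psl_eq_top h4 h13 (y := e y) (y' := e y') ?_ ?_ ⟨y', hy', rfl⟩ ?_
    · exact (orderOf_injective e.toMonoidHom e.injective y).trans hy
    · intro a ha
      rw [mem_centralizer_singleton_iff] at ha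
      refine ⟨e.symm a, hC _ ?_, e.apply_symm_apply a⟩
      apply e.injective
      rw [map_mul, map_mul, e.apply_symm_apply]
      exact ha
    · intro h
      apply hne
      apply e.injective
      rw [map_mul, map_mul]; exact h
  rw [eq_top_iff]
  intro x _
  have h2 : e x ∈ H.map e.toMonoidHom := by rw [h1]; exact mem_top _
  obtain ⟨x', hx', h3⟩ := h2
  have h4 : x' = x := e.injective h3
  rwa [← h4]

end Cfsg.Agent.LFourR.PslMax
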