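import Cfsg.Agent.LFourR.QThreeSL
import Cfsg.Agent.LFourA.CzCt
import Cfsg.Agent.LargeExtra.W2.Simple

/-!
# The end `q = 3`: `C(z)` with trivial odd core and `K₁, K₂ ≅ SL(2,3)` is the centraliser of `L₄(3)` / `U₄(3)`

`Amb z L₁ L₂`: two commuting subgroups of `C(z)`, normalised or swapped by `C(z)`, with trivial common
centraliser modulo `⟨z⟩`. If `L₁ ≅ L₂ ≅ SL(2,3)` then `O₂(L₁)O₂(L₂)` is extraspecial of order `32` and
large in `C(z)`; together with `2⁷ ∣ |C(z)|` this is `Case9aa` of the classification of such centralisers.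
-/

set_option autoImplicit false

namespace Cfsg.Agent.LFourR.QThree

open Subgroup Cfsg.Agent.LFourR.QThreeSL Cfsg.Agent.LargeExtra.W2 Cfsg.Agent.Co2Type.Quad

variable {G : Type*} [Group G]

/-- `SL(2,3)`-coordinates of a subgroup. -/
structure TetG (L : Subgroup G) (i j x : G) : Prop where
  hi : i ∈ L
  hj : j ∈ L
  hx : x ∈ L
  t : Tet (⟨i, hi⟩ : L) ⟨j, hj⟩ ⟨x, hx⟩

namespace TetG

variable {L : Subgroup G} {i j x : G}

theorem jj (h : TetG L i j x) : j * j = i * i := congrArg Subtype.val h.t.jj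
theorem ji (h : TetG L i j x) : j * i = i * j * (i * i) := congrArg Subtype.val h.t.ji
theorem i4 (h : TetG L i j x) : i * i * (i * i) = 1 := congrArg Subtype.val h.t.i4
theorem ne (h : TetG L i j x) : i * i ≠ 1 := fun h1 => h.t.ne (Subtype.ext h1)
theorem x3 (h : TetG L i j x) : x ^ 3 = 1 := by
  have := congrArg Subtype.val h.t.x3
  simpa using this
theorem xi (h : TetG L i j x) : x * i * x⁻¹ = j := congrArg Subtype.val h.t.xi
theorem xj (h : TetG L i j x) : x * j * x⁻¹ = i * j := congrArg Subtype.val h.t.xj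

theorem pow_sub {g : G} (hg : g ∈ L) {n : ℕ} : (⟨g, hg⟩ : L) ^ n = 1 ↔ g ^ n = 1 := by
  rw [← Subtype.coe_inj]
  simp

theorem gen (h : TetG L i j x) {g : G} (hg : g ∈ L) :
    ∃ (a : Fin 4) (b : Fin 2) (c : Fin 3), g = i ^ (a : ℕ) * j ^ (b : ℕ) * x ^ (c : ℕ) := by
  obtain ⟨a, b, c, h1⟩ := h.t.gen ⟨g, hg⟩
  refine ⟨a, b, c, ?_⟩
  have := congrArg Subtype.val h1
  simpa using this

theorem sq4 (h : TetG L i j x) {g : G} (hg : g ∈ L) (h4 : g ^ 4 = 1) :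
    ∃ (a : Fin 4) (b : Fin 2), g = i ^ (a : ℕ) * j ^ (b : ℕ) := by
  obtain ⟨a, b, h1⟩ := h.t.sq4 ⟨g, hg⟩ (pow_sub hg |>.2 h4)
  refine ⟨a, b, ?_⟩
  have := congrArg Subtype.val h1
  simpa using this

theorem cen (h : TetG L i j x) {g : G} (hg : g ∈ L) (h1 : g * i = i * g) (h2 : g * j = j * g) :
    g = 1 ∨ g = i * i := by
  rcases h.t.cen ⟨g, hg⟩ (Subtype.ext h1) (Subtype.ext h2) with h3 | h3
  · left; exact congrArg Subtype.val h3
  · right; exact congrArg Subtype.val h3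

theorem pow12 (h : TetG L i j x) {g : G} (hg : g ∈ L) : g ^ 12 = 1 :=
  (pow_sub hg).1 (h.t.pow12 ⟨g, hg⟩)

theorem mul4 (h : TetG L i j x) {g g' : G} (hg : g ∈ L) (hg' : g' ∈ L) (h1 : g ^ 4 = 1) (h2 : g' ^ 4 = 1) :
    (g * g') ^ 4 = 1 :=
  (pow_sub (L.mul_mem hg hg')).1 (h.t.mul4 ⟨g, hg⟩ ⟨g', hg'⟩ ((pow_sub hg).2 h1) ((pow_sub hg').2 h2))

theorem comm4 (h : TetG L i j x) {g g' : G} (hg : g ∈ L) (hg' : g' ∈ L) (h1 : g ^ 4 = 1) (h2 : g' ^ 4 = 1) :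
    g * g' = g' * g ∨ g * g' = g' * g * (i * i) := by
  rcases h.t.comm4 ⟨g, hg⟩ ⟨g', hg'⟩ ((pow_sub hg).2 h1) ((pow_sub hg').2 h2) with h3 | h3
  · left; exact congrArg Subtype.val h3
  · right; exact congrArg Subtype.val h3

theorem sq2 (h : TetG L i j x) {g : G} (hg : g ∈ L) (h1 : g ^ 4 = 1) : g * g = 1 ∨ g * g = i * i := by
  rcases h.t.sq2 ⟨g, hg⟩ ((pow_sub hg).2 h1) with h3 | h3
  · left; exact congrArg Subtype.val h3
  · right; exact congrArg Subtype.val h3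

theorem inj4 (h : TetG L i j x) {a a' : Fin 4} {b b' : Fin 2}
    (h1 : i ^ (a : ℕ) * j ^ (b : ℕ) = i ^ (a' : ℕ) * j ^ (b' : ℕ)) : a = a' ∧ b = b' := by
  apply h.t.inj4
  apply Subtype.ext
  simpa using h1

theorem inj2 (h : TetG L i j x) {a a' : Fin 2} {b b' : Fin 2}
    (h1 : i ^ (a : ℕ) * j ^ (b : ℕ) = i ^ (a' : ℕ) * j ^ (b' : ℕ) ∨
      i ^ (a : ℕ) * j ^ (b : ℕ) = i ^ (a' : ℕ) * j ^ (b' : ℕ) * (i * i)) : a = a' ∧ b = b' := by
  apply h.t.inj2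
  rcases h1 with h1 | h1
  · left
    apply Subtype.ext
    simpa using h1
  · right
    apply Subtype.ext
    simpa using h1

theorem red (h : TetG L i j x) (a : Fin 4) : ∃ a' : Fin 2, i ^ (a : ℕ) = i ^ (a' : ℕ) ∨
    i ^ (a : ℕ) = i ^ (a' : ℕ) * (i * i) := by
  obtain ⟨a', h1 | h1⟩ := h.t.red a
  · refine ⟨a', Or.inl ?_⟩
    have := congrArg Subtype.val h1
    simpa using this
  · refine ⟨a', Or.inr ?_⟩
    have := congrArg Subtype.val h1
    simpa using this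

theorem cj (h : TetG L i j x) {g : G} (hg : g ∈ L) (h4 : g ^ 4 = 1) (h3 : (g * x) ^ 3 = 1) :
    ∃ q ∈ L, q ^ 4 = 1 ∧ g * x = q * x * q⁻¹ := by
  obtain ⟨q, h1, h2⟩ := h.t.cj ⟨g, hg⟩ ((pow_sub hg).2 h4)
    ((pow_sub (L.mul_mem hg h.hx)).2 h3)
  exact ⟨q, q.2, by have := congrArg Subtype.val h1; simpa using this, congrArg Subtype.val h2⟩

theorem eqv (h : TetG L i j x) {u : G} (hu : u ∈ L) (h4 : u ^ 4 = 1) (h2 : u * u = i * i)
    (h3 : u * (x * u * x⁻¹) = x * x * u * x⁻¹ * x⁻¹) : u = i ∨ u = x * i * x⁻¹ ∨ u = x⁻¹ * i * x := by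
  rcases h.t.eqv ⟨u, hu⟩ ((pow_sub hu).2 h4) (Subtype.ext h2) (Subtype.ext h3) with h5 | h5 | h5
  · left; exact congrArg Subtype.val h5
  · right; left; exact congrArg Subtype.val h5
  · right; right; exact congrArg Subtype.val h5

theorem pow_i (h : TetG L i j x) : i ^ 4 = 1 := by
  have := h.i4
  simpa [pow_succ, mul_assoc] using this

theorem pow_j (h : TetG L i j x) : j ^ 4 = 1 := by
  have : j * j * (j * j) = 1 := by rw [h.jj, h.i4]
  simpa [pow_succ, mul_assoc] using this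

end TetG

/-- Two commuting subgroups `L₁, L₂` of `C(z)`. -/
structure Amb (z : G) (L₁ L₂ : Subgroup G) : Prop where
  zz : z * z = 1
  z_ne : z ≠ 1
  z₁ : z ∈ L₁
  z₂ : z ∈ L₂
  comm : ∀ x ∈ L₁, ∀ y ∈ L₂, x * y = y * x
  inf : ∀ x ∈ L₁, x ∈ L₂ → x = 1 ∨ x = z
  norm : ∀ g : G, g * z = z * g → ((∀ x ∈ L₁, g * x * g⁻¹ ∈ L₁) ∧ ∀ x ∈ L₂, g * x * g⁻¹ ∈ L₂) ∨
    ((∀ x ∈ L₁, g * x * g⁻¹ ∈ L₂) ∧ ∀ x ∈ L₂, g * x * g⁻¹ ∈ L₁)
  cent : ∀ g : G, g * z = z * g → (∀ x ∈ L₁, g * x = x * g) → (∀ x ∈ L₂, g * x = x * g) → g = 1 ∨ g = z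

namespace Amb

variable {z : G} {L₁ L₂ : Subgroup G}

theorem symm (A : Amb z L₁ L₂) : Amb z L₂ L₁ where
  zz := A.zz
  z_ne := A.z_ne
  z₁ := A.z₂
  z₂ := A.z₁
  comm x hx y hy := (A.comm y hy x hx).symm
  inf x hx hy := A.inf x hy hx
  norm g hg := (A.norm g hg).imp (fun h => ⟨h.2, h.1⟩) (fun h => ⟨h.2, h.1⟩)
  cent g hg h1 h2 := A.cent g hg h2 h1

theorem comm_z₁ (A : Amb z L₁ L₂) {x : G} (hx : x ∈ L₁) : x * z = z * x := A.comm x hx z A.z₂

theorem comm_z₂ (A : Amb z L₁ L₂) {x : G} (hx : x ∈ L₂) : x * z = z * x := (A.comm z A.z₁ x hx).symm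

variable {i j x k l y : G}

theorem zi (A : Amb z L₁ L₂) (h : TetG L₁ i j x) : z = i * i := by
  rcases h.cen A.z₁ (A.comm_z₁ h.hi).symm (A.comm_z₁ h.hj).symm with h1 | h1
  · exact absurd h1 A.z_ne
  · exact h1

theorem zk (A : Amb z L₁ L₂) (h : TetG L₂ k l y) : z = k * k := A.symm.zi h

/-- an element of the centraliser of `i` does not swap. -/
theorem norm_of_comm (A : Amb z L₁ L₂) (h : TetG L₁ i j x) {g : G} (hg : g * z = z * g)
    (hi : g * i * g⁻¹ ∈ L₁) :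
    ((∀ x ∈ L₁, g * x * g⁻¹ ∈ L₁) ∧ ∀ x ∈ L₂, g * x * g⁻¹ ∈ L₂) := by
  rcases A.norm g hg with h1 | h1
  · exact h1
  · exfalso
    have h2 := A.inf _ hi (h1.1 i h.hi)
    rcases h2 with h2 | h2
    · have h3 : i = 1 := by
        have : i = g⁻¹ * (g * i * g⁻¹) * g := by group
        rw [this, h2]; group
      exact h.ne (by rw [h3, mul_one])
    · have h3 : i = z := by
        have : i = g⁻¹ * (g * i * g⁻¹) * g := by group
        rw [this, h2, mul_assoc, ← hg]; group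
      exact h.ne (by rw [h3, A.zz])

/-- an element centralising `i` and `j` centralises `L₁`. -/
theorem cent₁ (A : Amb z L₁ L₂) (h : TetG L₁ i j x) {g : G} (hg : g * z = z * g)
    (hi : g * i = i * g) (hj : g * j = j * g) : ∀ y ∈ L₁, g * y = y * g := by
  have hi' : g * i * g⁻¹ = i := by rw [hi]; group
  have hj' : g * j * g⁻¹ = j := by rw [hj]; group
  have hn := (A.norm_of_comm h hg (by rw [hi']; exact h.hi)).1
  have hx : g * x = x * g := by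
    have hu : x⁻¹ * (g * x * g⁻¹) ∈ L₁ := L₁.mul_mem (L₁.inv_mem h.hx) (hn x h.hx)
    have hgi : g⁻¹ * i * g = i := by
      rw [mul_assoc, ← hi]; group
    have hgj : g⁻¹ * j * g = j := by
      rw [mul_assoc, ← hj]; group
    have e1 : (x⁻¹ * (g * x * g⁻¹)) * i * (x⁻¹ * (g * x * g⁻¹))⁻¹ = i := by
      have : (x⁻¹ * (g * x * g⁻¹)) * i * (x⁻¹ * (g * x * g⁻¹))⁻¹ =
        x⁻¹ * (g * (x * (g⁻¹ * i * g) * x⁻¹) * g⁻¹) * x := by group
      rw [this, hgi, h.xi, hj', ← h.xi]; group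
    have e2 : (x⁻¹ * (g * x * g⁻¹)) * j * (x⁻¹ * (g * x * g⁻¹))⁻¹ = j := by
      have : (x⁻¹ * (g * x * g⁻¹)) * j * (x⁻¹ * (g * x * g⁻¹))⁻¹ =
        x⁻¹ * (g * (x * (g⁻¹ * j * g) * x⁻¹) * g⁻¹) * x := by group
      have h3 : g * (i * j) * g⁻¹ = i * j := by
        have : g * (i * j) * g⁻¹ = (g * i * g⁻¹) * (g * j * g⁻¹) := by group
        rw [this, hi', hj']
      rw [this, hgj, h.xj, h3, ← h.xj]; group
    have e1' := mul_inv_eq_iff_eq_mul.1 e1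
    have e2' := mul_inv_eq_iff_eq_mul.1 e2
    rcases h.cen hu e1' e2' with h4 | h4
    · have : g * x * g⁻¹ = x := by
        have h5 : g * x * g⁻¹ = x * (x⁻¹ * (g * x * g⁻¹)) := by group
        rw [h5, h4, mul_one]
      exact mul_inv_eq_iff_eq_mul.1 this
    · exfalso
      have h5 : g * x * g⁻¹ = x * z := by
        have h5 : g * x * g⁻¹ = x * (x⁻¹ * (g * x * g⁻¹)) := by group
        rw [h5, h4, ← A.zi h]
      have h6 : (g * x * g⁻¹) ^ 3 = 1 := by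
        rw [conj_pow, h.x3, mul_one, mul_inv_cancel]
      rw [h5, Commute.mul_pow (A.comm_z₁ h.hx), h.x3, one_mul, pow_succ, pow_two, A.zz, one_mul] at h6
      exact A.z_ne h6
  intro y hy
  obtain ⟨a, b, c, rfl⟩ := h.gen hy
  have c1 : Commute g i := hi
  have c2 : Commute g j := hj
  have c3 : Commute g x := hx
  exact ((c1.pow_right _).mul_right (c2.pow_right _)).mul_right (c3.pow_right _)

/-- `Q = O₂(L₁) O₂(L₂)`. -/
def Q (A : Amb z L₁ L₂) (h : TetG L₁ i j x) (h' : TetG L₂ k l y) : Subgroup G where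
  carrier := {g | ∃ u ∈ L₁, ∃ v ∈ L₂, u ^ 4 = 1 ∧ v ^ 4 = 1 ∧ g = u * v}
  one_mem' := ⟨1, L₁.one_mem, 1, L₂.one_mem, by simp, by simp, by simp⟩
  mul_mem' := by
    rintro _ _ ⟨u, hu, v, hv, h1, h2, rfl⟩ ⟨u', hu', v', hv', h1', h2', rfl⟩
    refine ⟨u * u', L₁.mul_mem hu hu', v * v', L₂.mul_mem hv hv', h.mul4 hu hu' h1 h1',
      h'.mul4 hv hv' h2 h2', ?_⟩
    calc u * v * (u' * v') = u * (v * u') * v' := by group
      _ = u * (u' * v) * v' := by rw [A.comm u' hu' v hv]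
      _ = _ := by group
  inv_mem' := by
    rintro _ ⟨u, hu, v, hv, h1, h2, rfl⟩
    refine ⟨u⁻¹, L₁.inv_mem hu, v⁻¹, L₂.inv_mem hv, by rw [inv_pow, h1, inv_one],
      by rw [inv_pow, h2, inv_one], ?_⟩
    rw [A.comm u hu v hv, mul_inv_rev]

theorem mem_Q (A : Amb z L₁ L₂) (h : TetG L₁ i j x) (h' : TetG L₂ k l y) {g : G} :
    g ∈ A.Q h h' ↔ ∃ u ∈ L₁, ∃ v ∈ L₂, u ^ 4 = 1 ∧ v ^ 4 = 1 ∧ g = u * v := Iff.rfl

theorem mem_Q₁ (A : Amb z L₁ L₂) (h : TetG L₁ i j x) (h' : TetG L₂ k l y) {g : G} (hg : g ∈ L₁)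
    (h4 : g ^ 4 = 1) : g ∈ A.Q h h' := ⟨g, hg, 1, L₂.one_mem, h4, by simp, by simp⟩

theorem mem_Q₂ (A : Amb z L₁ L₂) (h : TetG L₁ i j x) (h' : TetG L₂ k l y) {g : G} (hg : g ∈ L₂)
    (h4 : g ^ 4 = 1) : g ∈ A.Q h h' := ⟨1, L₁.one_mem, g, hg, by simp, h4, by simp⟩

theorem conj_pow4 {g u : G} (h : u ^ 4 = 1) : (g * u * g⁻¹) ^ 4 = 1 := by
  rw [conj_pow, h, mul_one, mul_inv_cancel]

theorem large (A : Amb z L₁ L₂) (h : TetG L₁ i j x) (h' : TetG L₂ k l y) : Large (A.Q h h') z where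
  z_mem := A.mem_Q₁ h h' A.z₁ (by simp [pow_succ, A.zz])
  z_ne := A.z_ne
  z_sq := A.zz
  comm_z := by
    rintro _ ⟨u, hu, v, hv, -, -, rfl⟩
    have c1 : Commute u z := A.comm_z₁ hu
    have c2 : Commute v z := A.comm_z₂ hv
    exact c1.mul_left c2
  conj_mem := by
    rintro g hg _ ⟨u, hu, v, hv, h1, h2, rfl⟩
    have e : g * (u * v) * g⁻¹ = (g * u * g⁻¹) * (g * v * g⁻¹) := by group
    rw [e]
    rcases A.norm g hg with ⟨n1, n2⟩ | ⟨n1, n2⟩
    · exact ⟨_, n1 u hu, _, n2 v hv, conj_pow4 h1, conj_pow4 h2, rfl⟩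
    · exact ⟨_, n2 v hv, _, n1 u hu, conj_pow4 h2, conj_pow4 h1, by rw [A.comm _ (n2 v hv) _ (n1 u hu)]⟩
  sq := by
    rintro _ ⟨u, hu, v, hv, h1, h2, rfl⟩
    have e : u * v * (u * v) = (u * u) * (v * v) := by
      calc u * v * (u * v) = u * (v * u) * v := by group
        _ = u * (u * v) * v := by rw [A.comm u hu v hv]
        _ = _ := by group
    rw [e]
    rcases h.sq2 hu h1 with h3 | h3 <;> rcases h'.sq2 hv h2 with h4 | h4
    · left; rw [h3, h4, mul_one]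
    · right; rw [h3, h4, one_mul, ← A.zk h']
    · right; rw [h3, h4, mul_one, ← A.zi h]
    · left; rw [h3, h4, ← A.zi h, ← A.zk h', A.zz]
  comm := by
    rintro _ ⟨u, hu, v, hv, h1, h2, rfl⟩ _ ⟨u', hu', v', hv', h1', h2', rfl⟩
    have e : u * v * (u' * v') = (u * u') * (v * v') := by
      calc u * v * (u' * v') = u * (v * u') * v' := by group
        _ = u * (u' * v) * v' := by rw [A.comm u' hu' v hv]
        _ = _ := by group
    have e' : u' * v' * (u * v) = (u' * u) * (v' * v) := by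
      calc u' * v' * (u * v) = u' * (v' * u) * v := by group
        _ = u' * (u * v') * v := by rw [A.comm u hu v' hv']
        _ = _ := by group
    rw [e, e']
    have cz : z * (v' * v) = v' * v * z := by
      have c1 : Commute z v' := (A.comm_z₂ hv').symm
      have c2 : Commute z v := (A.comm_z₂ hv).symm
      exact c1.mul_right c2
    rcases h.comm4 hu hu' h1 h1' with h3 | h3 <;> rcases h'.comm4 hv hv' h2 h2' with h4 | h4
    · left; rw [h3, h4]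
    · right; rw [h3, h4, ← A.zk h']; group
    · right; rw [h3, h4, ← A.zi h, mul_assoc (u' * u), cz]; group
    · left
      rw [h3, h4, ← A.zi h, ← A.zk h', mul_assoc (u' * u), ← mul_assoc z, cz]
      rw [mul_assoc (v' * v), A.zz, mul_one]
  cent := by
    rintro _ ⟨u, hu, v, hv, h1, h2, rfl⟩ hc
    have k1 : ∀ g ∈ L₁, g ^ 4 = 1 → u * g = g * u := by
      intro g hg h4
      have h5 := hc g (A.mem_Q₁ h h' hg h4)
      have h6 : g * v = v * g := A.comm g hg v hv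
      have h7 : u * g * v = g * u * v := by
        calc u * g * v = u * (g * v) := by group
          _ = u * v * g := by rw [h6]; group
          _ = _ := by rw [h5]; group
      exact mul_right_cancel h7
    have k2 : ∀ g ∈ L₂, g ^ 4 = 1 → v * g = g * v := by
      intro g hg h4
      have h5 := hc g (A.mem_Q₂ h h' hg h4)
      have h6 : u * g = g * u := A.comm u hu g hg
      have h7 : u * (v * g) = u * (g * v) := by
        calc u * (v * g) = u * v * g := by group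
          _ = g * u * v := by rw [h5]; group
          _ = _ := by rw [← h6]; group
      exact mul_left_cancel h7
    have r1 := h.cen hu (k1 i h.hi h.pow_i) (k1 j h.hj h.pow_j)
    have r2 := h'.cen hv (k2 k h'.hi h'.pow_i) (k2 l h'.hj h'.pow_j)
    rw [← A.zi h] at r1
    rw [← A.zk h'] at r2
    rcases r1 with r1 | r1 <;> rcases r2 with r2 | r2
    · left; rw [r1, r2, mul_one]
    · right; rw [r1, r2, one_mul]
    · right; rw [r1, r2, mul_one]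
    · left; rw [r1, r2, A.zz]
  self := by
    intro g hg hc
    have c1 := hc i (A.mem_Q₁ h h' h.hi h.pow_i)
    have c2 := hc j (A.mem_Q₁ h h' h.hj h.pow_j)
    have c3 := hc k (A.mem_Q₂ h h' h'.hi h'.pow_i)
    have c4 := hc l (A.mem_Q₂ h h' h'.hj h'.pow_j)
    rcases A.cent g hg (A.cent₁ h hg c1 c2) (A.symm.cent₁ h' hg c3 c4) with h1 | h1
    · rw [h1]; exact one_mem _
    · rw [h1]; exact A.mem_Q₁ h h' A.z₁ (by simp [pow_succ, A.zz])

theorem gen_eq (A : Amb z L₁ L₂) (h : TetG L₁ i j x) (h' : TetG L₂ k l y) :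
    A.Q h h' = Subgroup.closure {i, j, k, l} := by
  apply le_antisymm
  · rintro _ ⟨u, hu, v, hv, h1, h2, rfl⟩
    obtain ⟨a, b, rfl⟩ := h.sq4 hu h1
    obtain ⟨c, d, rfl⟩ := h'.sq4 hv h2
    have m1 : i ∈ Subgroup.closure ({i, j, k, l} : Set G) := subset_closure (by simp)
    have m2 : j ∈ Subgroup.closure ({i, j, k, l} : Set G) := subset_closure (by simp)
    have m3 : k ∈ Subgroup.closure ({i, j, k, l} : Set G) := subset_closure (by simp)
    have m4 : l ∈ Subgroup.closure ({i, j, k, l} : Set G) := subset_closure (by simp)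
    exact mul_mem (mul_mem (pow_mem m1 _) (pow_mem m2 _)) (mul_mem (pow_mem m3 _) (pow_mem m4 _))
  · rw [Subgroup.closure_le]
    rintro g (rfl | rfl | rfl | rfl)
    · exact A.mem_Q₁ h h' h.hi h.pow_i
    · exact A.mem_Q₁ h h' h.hj h.pow_j
    · exact A.mem_Q₂ h h' h'.hi h'.pow_i
    · exact A.mem_Q₂ h h' h'.hj h'.pow_j

theorem ij_pow4 (h : TetG L₁ i j x) (a : ℕ) (b : ℕ) : (i ^ a * j ^ b) ^ 4 = 1 := by
  refine h.mul4 (pow_mem h.hi _) (pow_mem h.hj _) ?_ ?_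
  · rw [← pow_mul, mul_comm, pow_mul, h.pow_i, one_pow]
  · rw [← pow_mul, mul_comm, pow_mul, h.pow_j, one_pow]

theorem card_eq (A : Amb z L₁ L₂) (h : TetG L₁ i j x) (h' : TetG L₂ k l y) :
    Nat.card (A.Q h h') = 32 := by
  have hmem : ∀ t : (Fin 4 × Fin 2) × (Fin 2 × Fin 2),
      i ^ (t.1.1 : ℕ) * j ^ (t.1.2 : ℕ) * (k ^ (t.2.1 : ℕ) * l ^ (t.2.2 : ℕ)) ∈ A.Q h h' := fun t =>
    ⟨_, mul_mem (pow_mem h.hi _) (pow_mem h.hj _), _, mul_mem (pow_mem h'.hi _) (pow_mem h'.hj _),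
      ij_pow4 h _ _, ij_pow4 h' _ _, rfl⟩
  have hb : Function.Bijective (fun t : (Fin 4 × Fin 2) × (Fin 2 × Fin 2) => (⟨_, hmem t⟩ : A.Q h h')) := by
    constructor
    · rintro ⟨⟨a, b⟩, ⟨c, d⟩⟩ ⟨⟨a', b'⟩, ⟨c', d'⟩⟩ he
      have he' := congrArg Subtype.val he
      simp only at he'
      have hu : i ^ (a : ℕ) * j ^ (b : ℕ) ∈ L₁ := mul_mem (pow_mem h.hi _) (pow_mem h.hj _)
      have hu' : i ^ (a' : ℕ) * j ^ (b' : ℕ) ∈ L₁ := mul_mem (pow_mem h.hi _) (pow_mem h.hj _)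
      have hv : k ^ (c : ℕ) * l ^ (d : ℕ) ∈ L₂ := mul_mem (pow_mem h'.hi _) (pow_mem h'.hj _)
      have hv' : k ^ (c' : ℕ) * l ^ (d' : ℕ) ∈ L₂ := mul_mem (pow_mem h'.hi _) (pow_mem h'.hj _)
      have h1 : (i ^ (a' : ℕ) * j ^ (b' : ℕ))⁻¹ * (i ^ (a : ℕ) * j ^ (b : ℕ)) =
          (k ^ (c' : ℕ) * l ^ (d' : ℕ)) * (k ^ (c : ℕ) * l ^ (d : ℕ))⁻¹ := by
        rw [inv_mul_eq_iff_eq_mul, ← mul_assoc, eq_mul_inv_iff_mul_eq]
        exact he'
      have h2 := A.inf _ (mul_mem (inv_mem hu') hu) (by rw [h1]; exact mul_mem hv' (inv_mem hv))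
      rw [h1] at h2
      have h3 : k ^ (c' : ℕ) * l ^ (d' : ℕ) = k ^ (c : ℕ) * l ^ (d : ℕ) ∨
          k ^ (c' : ℕ) * l ^ (d' : ℕ) = k ^ (c : ℕ) * l ^ (d : ℕ) * (k * k) := by
        rcases h2 with h2 | h2
        · left; exact mul_inv_eq_one.1 h2
        · right
          rw [mul_inv_eq_iff_eq_mul] at h2
          rw [h2, ← A.zk h', A.comm_z₂ hv]
      obtain ⟨h4, h5⟩ := h'.inj2 h3
      subst h4 h5
      have h6 := mul_right_cancel he'
      obtain ⟨h7, h8⟩ := h.inj4 h6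
      subst h7 h8
      rfl
    · rintro ⟨_, u, hu, v, hv, h1, h2, rfl⟩
      obtain ⟨a, b, rfl⟩ := h.sq4 hu h1
      obtain ⟨c, d, rfl⟩ := h'.sq4 hv h2
      obtain ⟨c', h3 | h3⟩ := h'.red c
      · exact ⟨((a, b), (c', d)), Subtype.ext (by simp only [h3])⟩
      · obtain ⟨a', b', h4⟩ := h.sq4 (mul_mem hu A.z₁) (h.mul4 hu A.z₁ h1 (by simp [pow_succ, A.zz]))
        refine ⟨((a', b'), (c', d)), Subtype.ext ?_⟩
        simp only
        rw [← h4, h3, ← A.zk h']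
        have cz : Commute z (k ^ (c' : ℕ)) := (A.comm_z₂ (pow_mem h'.hi _)).symm
        rw [mul_assoc _ z, ← mul_assoc z, cz.eq]
  rw [← Nat.card_eq_of_bijective _ hb]
  simp

theorem plus (A : Amb z L₁ L₂) (h : TetG L₁ i j x) (h' : TetG L₂ k l y) :
    Plus (A.Q h h') z i j k l where
  large := A.large h h'
  card := A.card_eq h h'
  gen := A.gen_eq h h'
  ii := (A.zi h).symm
  jj := by rw [h.jj, ← A.zi h]
  kk := (A.zk h').symm
  ll := by rw [h'.jj, ← A.zk h']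
  ji := by rw [h.ji, ← A.zi h]
  lk := by rw [h'.ji, ← A.zk h']
  ki := (A.comm i h.hi k h'.hi).symm
  li := (A.comm i h.hi l h'.hj).symm
  kj := (A.comm j h.hj k h'.hi).symm
  lj := (A.comm j h.hj l h'.hj).symm

/-! ### `O₂(C / Q) = 1` -/

/-- a `2`-element normalising `L₁` and commuting with `x` centralises `i`. -/
theorem comm_i (A : Amb z L₁ L₂) (h : TetG L₁ i j x) {n : G} (hz : n * z = z * n)
    (hn : ∀ x ∈ L₁, n * x * n⁻¹ ∈ L₁) {s : ℕ} (hs : n ^ (2 ^ s) = 1) (hx : n * x = x * n) :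
    n * i = i * n := by
  have hu := hn i h.hi
  have c3 : Commute n x := hx
  have hx' : ∀ g : G, n * (x * g * x⁻¹) * n⁻¹ = x * (n * g * n⁻¹) * x⁻¹ := by
    intro g
    calc n * (x * g * x⁻¹) * n⁻¹ = (n * x) * g * (n * x)⁻¹ := by group
      _ = (x * n) * g * (x * n)⁻¹ := by rw [hx]
      _ = _ := by group
  have huj : n * j * n⁻¹ = x * (n * i * n⁻¹) * x⁻¹ := by
    rw [← hx', h.xi]
  have hij : n * (i * j) * n⁻¹ = x * x * (n * i * n⁻¹) * x⁻¹ * x⁻¹ := by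
    rw [← h.xj, hx', huj]; group
  have e3 : (n * i * n⁻¹) * (x * (n * i * n⁻¹) * x⁻¹) = x * x * (n * i * n⁻¹) * x⁻¹ * x⁻¹ := by
    rw [← hij, ← huj]; group
  have e2 : (n * i * n⁻¹) * (n * i * n⁻¹) = i * i := by
    have h1 : (n * i * n⁻¹) * (n * i * n⁻¹) = n * (i * i) * n⁻¹ := by group
    rw [h1, ← A.zi h, hz, mul_inv_cancel_right]
  have key : ∀ m : G, Commute m x → m * i = i * m → (n = x * m ∨ n = x⁻¹ * m) → n * i = i * n := by
    intro m hm h1 h2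
    have h3 : Commute (n ^ 3) i := by
      have hmi : Commute m i := h1
      rcases h2 with h2 | h2
      · rw [h2, hm.symm.mul_pow, h.x3, one_mul]
        exact hmi.pow_left 3
      · rw [h2, hm.inv_right.symm.mul_pow, inv_pow, h.x3, inv_one, one_mul]
        exact hmi.pow_left 3
    have h5 : Nat.Coprime 3 (orderOf n) := by
      apply Nat.Coprime.coprime_dvd_right (orderOf_dvd_of_pow_eq_one hs)
      exact Nat.Coprime.pow_right _ (by norm_num)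
    obtain ⟨m', hm'⟩ := exists_pow_eq_self_of_coprime h5
    have h6 : Commute ((n ^ 3) ^ m') i := h3.pow_left m'
    rw [hm'] at h6
    exact h6
  rcases h.eqv hu (conj_pow4 h.pow_i) e2 e3 with h1 | h1 | h1
  · exact mul_inv_eq_iff_eq_mul.1 h1
  · refine key (x⁻¹ * n) ?_ ?_ (Or.inl (by group))
    · exact (Commute.refl x).inv_left.mul_left c3
    · have h2 : n * i = x * i * x⁻¹ * n := mul_inv_eq_iff_eq_mul.1 h1
      rw [mul_assoc, h2]; group
  · refine key (x * n) ?_ ?_ (Or.inr (by group))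
    · exact (Commute.refl x).mul_left c3
    · have h2 : n * i = x⁻¹ * i * x * n := mul_inv_eq_iff_eq_mul.1 h1
      rw [mul_assoc, h2]; group

theorem cent_of_two (A : Amb z L₁ L₂) (h : TetG L₁ i j x) {n : G} (hz : n * z = z * n)
    (hn : ∀ x ∈ L₁, n * x * n⁻¹ ∈ L₁) {s : ℕ} (hs : n ^ (2 ^ s) = 1) (hx : n * x = x * n) :
    ∀ y ∈ L₁, n * y = y * n := by
  have h1 := A.comm_i h hz hn hs hx
  refine A.cent₁ h hz h1 ?_
  have c1 : Commute n x := hx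
  have c2 : Commute n i := h1
  rw [← h.xi]
  exact (c1.mul_right c2).mul_right c1.inv_right

/-- a normal `2`-subgroup of `C(z)` normalises `L₁` and `L₂`. -/
theorem norm_of_two (A : Amb z L₁ L₂) (h : TetG L₁ i j x) {N : Subgroup G}
    (hnorm : ∀ c : G, c * z = z * c → ∀ n ∈ N, c * n * c⁻¹ ∈ N) (h2 : IsPGroup 2 N) {n : G} (hn : n ∈ N)
    (hz : n * z = z * n) : (∀ x ∈ L₁, n * x * n⁻¹ ∈ L₁) ∧ ∀ x ∈ L₂, n * x * n⁻¹ ∈ L₂ := by
  rcases A.norm n hz with h1 | h1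
  · exact h1
  · exfalso
    have hy := h1.1 x h.hx
    have hc : Commute (n * x * n⁻¹) x⁻¹ := (A.comm _ (L₁.inv_mem h.hx) _ hy).symm
    have hmem : (n * x * n⁻¹) * x⁻¹ ∈ N := by
      have : (n * x * n⁻¹) * x⁻¹ = n * (x * n⁻¹ * x⁻¹) := by group
      rw [this]
      exact N.mul_mem hn (hnorm x (A.comm_z₁ h.hx) _ (N.inv_mem hn))
    have h3 : ((n * x * n⁻¹) * x⁻¹) ^ 3 = 1 := by
      rw [hc.mul_pow, conj_pow, h.x3, inv_pow, h.x3]; group
    obtain ⟨s, hs⟩ := h2 ⟨_, hmem⟩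
    have hs' : ((n * x * n⁻¹) * x⁻¹) ^ (2 ^ s) = 1 := by
      have := congrArg Subtype.val hs
      simpa using this
    have h4 : (n * x * n⁻¹) * x⁻¹ = 1 := by
      have h5 : Nat.Coprime 3 (2 ^ s) := Nat.Coprime.pow_right _ (by norm_num)
      have h6 := Nat.eq_one_of_dvd_coprimes h5 (orderOf_dvd_of_pow_eq_one h3) (orderOf_dvd_of_pow_eq_one hs')
      exact orderOf_eq_one_iff.1 h6
    have h5 : n * x * n⁻¹ = x := by
      rwa [mul_inv_eq_one] at h4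
    rw [h5] at hy
    have h6 := h.xi
    rcases A.inf x h.hx hy with h7 | h7
    · rw [h7] at h6
      have h8 : i = j := by simpa using h6
      have h9 := h.ji
      rw [← h8, ← mul_assoc (i * i)] at h9
      have h10 := h.ne
      apply h10
      have : i * i * (i * i) = i * i := by
        conv_rhs => rw [h9]
        rw [mul_assoc (i * i)]
      simpa using this
    · have h8 := h.x3
      rw [h7, pow_succ, pow_two, A.zz, one_mul] at h8
      exact A.z_ne h8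

/-- modification by an element of `O₂(L₁)`. -/
theorem exists_mod (A : Amb z L₁ L₂) (h : TetG L₁ i j x) {N : Subgroup G}
    (hnorm : ∀ c : G, c * z = z * c → ∀ n ∈ N, c * n * c⁻¹ ∈ N) (h2 : IsPGroup 2 N) {n : G} (hn : n ∈ N)
    (hL : ∀ x ∈ L₁, n * x * n⁻¹ ∈ L₁) :
    ∃ q ∈ L₁, q ^ 4 = 1 ∧ (q⁻¹ * n) * x = x * (q⁻¹ * n) := by
  have hmem : (n * x * n⁻¹) * x⁻¹ ∈ N := by
    have : (n * x * n⁻¹) * x⁻¹ = n * (x * n⁻¹ * x⁻¹) := by group
    rw [this]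
    exact N.mul_mem hn (hnorm x (A.comm_z₁ h.hx) _ (N.inv_mem hn))
  have hL1 : (n * x * n⁻¹) * x⁻¹ ∈ L₁ := L₁.mul_mem (hL x h.hx) (L₁.inv_mem h.hx)
  obtain ⟨s, hs⟩ := h2 ⟨_, hmem⟩
  have hs' : ((n * x * n⁻¹) * x⁻¹) ^ (2 ^ s) = 1 := by
    have := congrArg Subtype.val hs
    simpa using this
  have h4 : ((n * x * n⁻¹) * x⁻¹) ^ 4 = 1 := by
    have h5 := h.pow12 hL1
    have h6 : orderOf ((n * x * n⁻¹) * x⁻¹) ∣ Nat.gcd 12 (2 ^ s) :=
      Nat.dvd_gcd (orderOf_dvd_of_pow_eq_one h5) (orderOf_dvd_of_pow_eq_one hs')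
    apply orderOf_dvd_iff_pow_eq_one.1
    apply h6.trans
    have h7 : (12 : ℕ) = 4 * 3 := by norm_num
    rw [h7]
    apply Nat.Coprime.dvd_of_dvd_mul_right (k := Nat.gcd (4 * 3) (2 ^ s)) (n := 3)
    · apply Nat.Coprime.coprime_dvd_left (Nat.gcd_dvd_right _ _)
      exact (Nat.Coprime.pow_left _ (by norm_num))
    · exact Nat.gcd_dvd_left _ _
  obtain ⟨q, hq, hq4, h5⟩ := h.cj hL1 h4 (by
    have : (n * x * n⁻¹) * x⁻¹ * x = n * x * n⁻¹ := by group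
    rw [this, conj_pow, h.x3]; group)
  refine ⟨q, hq, hq4, ?_⟩
  have h6 : n * x * n⁻¹ = q * x * q⁻¹ := by
    rw [← h5]; group
  have h7 : n * x = q * x * q⁻¹ * n := mul_inv_eq_iff_eq_mul.1 h6
  rw [mul_assoc, h7]; group

/-- `O₂(C(z)) ≤ Q`. -/
theorem two_le (A : Amb z L₁ L₂) (h : TetG L₁ i j x) (h' : TetG L₂ k l y) {N : Subgroup G}
    (hQ : A.Q h h' ≤ N) (hN : ∀ n ∈ N, n * z = z * n)
    (hnorm : ∀ c : G, c * z = z * c → ∀ n ∈ N, c * n * c⁻¹ ∈ N) (h2 : IsPGroup 2 N) : N ≤ A.Q h h' := by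
  intro n hn
  have hz := hN n hn
  obtain ⟨hL1, hL2⟩ := A.norm_of_two h hnorm h2 hn hz
  obtain ⟨q, hq, hq4, h1⟩ := A.exists_mod h hnorm h2 hn hL1
  obtain ⟨q', hq', hq4', h1'⟩ := A.symm.exists_mod h' hnorm h2 hn hL2
  have hqQ := A.mem_Q₁ h h' hq hq4
  have hqQ' := A.mem_Q₂ h h' hq' hq4'
  have hqq : q * q' = q' * q := A.comm q hq q' hq'
  -- the modified element
  have hm : q'⁻¹ * (q⁻¹ * n) ∈ N := N.mul_mem (N.inv_mem (hQ hqQ')) (N.mul_mem (N.inv_mem (hQ hqQ)) hn)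
  have hm2 : q'⁻¹ * (q⁻¹ * n) = q⁻¹ * (q'⁻¹ * n) := by
    have : q'⁻¹ * q⁻¹ = q⁻¹ * q'⁻¹ := by
      rw [← mul_inv_rev, hqq, mul_inv_rev]
    rw [← mul_assoc, this, mul_assoc]
  have hx : (q'⁻¹ * (q⁻¹ * n)) * x = x * (q'⁻¹ * (q⁻¹ * n)) := by
    have c1 : Commute (q⁻¹ * n) x := h1
    have c2 : Commute q'⁻¹ x := (A.comm x h.hx _ (L₂.inv_mem hq')).symm
    exact c2.mul_left c1
  have hy : (q'⁻¹ * (q⁻¹ * n)) * y = y * (q'⁻¹ * (q⁻¹ * n)) := by
    rw [hm2]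
    have c1 : Commute (q'⁻¹ * n) y := h1'
    have c2 : Commute q⁻¹ y := A.comm _ (L₁.inv_mem hq) y h'.hx
    exact c2.mul_left c1
  obtain ⟨s, hs⟩ := h2 ⟨_, hm⟩
  have hs' : (q'⁻¹ * (q⁻¹ * n)) ^ (2 ^ s) = 1 := by
    have := congrArg Subtype.val hs
    simpa using this
  have hmz := hN _ hm
  obtain ⟨hM1, hM2⟩ := A.norm_of_two h hnorm h2 hm hmz
  have hc := A.cent _ hmz (A.cent_of_two h hmz hM1 hs' hx) (A.symm.cent_of_two h' hmz hM2 hs' hy)
  have hmem : q'⁻¹ * (q⁻¹ * n) ∈ A.Q h h' := by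
    rcases hc with hc | hc
    · rw [hc]; exact one_mem _
    · rw [hc]; exact (A.large h h').z_mem
  have : n = q * (q' * (q'⁻¹ * (q⁻¹ * n))) := by group
  rw [this]
  exact mul_mem hqQ (mul_mem hqQ' hmem)

end Amb

/-- **The centraliser with `K₁, K₂ ≅ SL(2,3)` and trivial odd core.** -/
theorem exists_case9aa [Finite G] [IsSimpleGroup G] (hnc : ¬ IsMulCommutative G) {z : G} {L₁ L₂ : Subgroup G}
    (A : Amb z L₁ L₂) {i j x k l y : G} (h : TetG L₁ i j x) (h' : TetG L₂ k l y)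
    (h7 : 2 ^ 7 ∣ Nat.card (Subgroup.centralizer ({z} : Set G))) :
    ∃ (Q : Subgroup G) (i j k l x₁ x₂ y s : G), Case9aa Q z i j k l x₁ x₂ y s := by
  have hG : ∀ H : Subgroup G, H.index ≠ 2 := Simple.no_index_two hnc
  have P := A.plus h h'
  have hO : ∀ N : Subgroup G, A.Q h h' ≤ N → N ≤ Subgroup.centralizer ({z} : Set G) →
      (∀ c ∈ Subgroup.centralizer ({z} : Set G), ∀ n ∈ N, c * n * c⁻¹ ∈ N) → IsPGroup 2 N →
      N ≤ A.Q h h' := by
    intro N h1 h2 h3 h4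
    refine A.two_le h h' h1 (fun n hn => ?_) (fun c hc => ?_) h4
    · exact Subgroup.mem_centralizer_singleton_iff.1 (h2 hn)
    · exact h3 c (Subgroup.mem_centralizer_singleton_iff.2 hc)
  rcases Cases.cases_plus hG P hO (OddDead.exists_outer hnc P.large P.card) with
      ⟨i, j, k, l, w, s, h1⟩ | ⟨i, j, k, l, v, y, h1⟩ | ⟨i, j, k, l, x₁, x₂, s, h1⟩ |
      ⟨i, j, k, l, x₁, x₂, y, h1⟩ | ⟨i, j, k, l, x₁, x₂, y, s, h1⟩ | ⟨i, j, k, l, x₁, x₂, f, h1, h2⟩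
  · rw [h1.card_cent] at h7; norm_num at h7
  · rw [h1.card_cent] at h7; norm_num at h7
  · rw [h1.card_cent] at h7; norm_num at h7
  · rw [h1.card_cent] at h7; norm_num at h7
  · exact ⟨_, _, _, _, _, _, _, _, _, h1⟩
  · exact (CType.case94 hnc h1 h2).elim

end Cfsg.Agent.LFourR.QThree
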