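import Mathlib

/-!
# `SL(2,3)` in coordinates
-/

set_option autoImplicit false

namespace Cfsg.Agent.LFourR.QThreeSL

open Matrix

/-- explicit description of `SL(2,3)`: `⟨i, j⟩` quaternion, `x` of order three permuting `i, j, ij`. -/
structure Tet {K : Type*} [Group K] (i j x : K) : Prop where
  jj : j * j = i * i
  ji : j * i = i * j * (i * i)
  i4 : i * i * (i * i) = 1
  ne : i * i ≠ 1
  x3 : x ^ 3 = 1
  xi : x * i * x⁻¹ = j
  xj : x * j * x⁻¹ = i * j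
  gen : ∀ g : K, ∃ (a : Fin 4) (b : Fin 2) (c : Fin 3), g = i ^ (a : ℕ) * j ^ (b : ℕ) * x ^ (c : ℕ)
  sq4 : ∀ g : K, g ^ 4 = 1 → ∃ (a : Fin 4) (b : Fin 2), g = i ^ (a : ℕ) * j ^ (b : ℕ)
  cen : ∀ g : K, (g * i = i * g) → (g * j = j * g) → g = 1 ∨ g = i * i
  pow12 : ∀ g : K, g ^ 12 = 1
  mul4 : ∀ g h : K, g ^ 4 = 1 → h ^ 4 = 1 → (g * h) ^ 4 = 1
  comm4 : ∀ g h : K, g ^ 4 = 1 → h ^ 4 = 1 → g * h = h * g ∨ g * h = h * g * (i * i)
  sq2 : ∀ g : K, g ^ 4 = 1 → g * g = 1 ∨ g * g = i * i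
  inj4 : ∀ (a a' : Fin 4) (b b' : Fin 2), i ^ (a : ℕ) * j ^ (b : ℕ) = i ^ (a' : ℕ) * j ^ (b' : ℕ) → a = a' ∧ b = b'
  inj2 : ∀ (a a' : Fin 2) (b b' : Fin 2), (i ^ (a : ℕ) * j ^ (b : ℕ) = i ^ (a' : ℕ) * j ^ (b' : ℕ) ∨
    i ^ (a : ℕ) * j ^ (b : ℕ) = i ^ (a' : ℕ) * j ^ (b' : ℕ) * (i * i)) → a = a' ∧ b = b'
  red : ∀ (a : Fin 4), ∃ a' : Fin 2, i ^ (a : ℕ) = i ^ (a' : ℕ) ∨ i ^ (a : ℕ) = i ^ (a' : ℕ) * (i * i)
  cj : ∀ g : K, g ^ 4 = 1 → (g * x) ^ 3 = 1 → ∃ q : K, q ^ 4 = 1 ∧ g * x = q * x * q⁻¹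
  eqv : ∀ u : K, u ^ 4 = 1 → u * u = i * i → u * (x * u * x⁻¹) = x * x * u * x⁻¹ * x⁻¹ →
    u = i ∨ u = x * i * x⁻¹ ∨ u = x⁻¹ * i * x

theorem Tet.map {K K' : Type*} [Group K] [Group K'] {i j x : K} (h : Tet i j x) (e : K ≃* K') :
    Tet (e i) (e j) (e x) where
  jj := by rw [← map_mul, ← map_mul, h.jj]
  ji := by simp only [← map_mul]; rw [h.ji]
  i4 := by simp only [← map_mul]; rw [h.i4, map_one]
  ne := by
    intro h1
    apply h.ne
    apply e.injective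
    rw [map_mul, map_one, h1]
  x3 := by rw [← map_pow, h.x3, map_one]
  xi := by rw [← map_inv]; simp only [← map_mul]; rw [h.xi]
  xj := by rw [← map_inv]; simp only [← map_mul]; rw [h.xj]
  gen := by
    intro g
    obtain ⟨a, b, c, h1⟩ := h.gen (e.symm g)
    refine ⟨a, b, c, ?_⟩
    rw [← e.apply_symm_apply g, h1]
    simp only [map_mul, map_pow]
  sq4 := by
    intro g hg
    obtain ⟨a, b, h1⟩ := h.sq4 (e.symm g) (by rw [← map_pow, hg, map_one])
    refine ⟨a, b, ?_⟩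
    rw [← e.apply_symm_apply g, h1]
    simp only [map_mul, map_pow]
  cen := by
    intro g h1 h2
    rcases h.cen (e.symm g) (by apply e.injective; rw [map_mul, map_mul, e.apply_symm_apply, h1])
      (by apply e.injective; rw [map_mul, map_mul, e.apply_symm_apply, h2]) with h3 | h3
    · left; rw [← e.apply_symm_apply g, h3, map_one]
    · right; rw [← e.apply_symm_apply g, h3, map_mul]
  pow12 := by
    intro g
    rw [← e.apply_symm_apply g, ← map_pow, h.pow12, map_one]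
  mul4 := by
    intro g g' h1 h2
    have h3 := h.mul4 (e.symm g) (e.symm g') (by rw [← map_pow, h1, map_one]) (by rw [← map_pow, h2, map_one])
    rw [← map_mul, ← map_pow] at h3
    exact (MulEquiv.map_eq_one_iff e.symm).1 h3
  comm4 := by
    intro g g' h1 h2
    have h3 := h.comm4 (e.symm g) (e.symm g') (by rw [← map_pow, h1, map_one]) (by rw [← map_pow, h2, map_one])
    rcases h3 with h3 | h3
    · left
      apply e.symm.injective
      rw [map_mul, map_mul, h3]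
    · right
      apply e.symm.injective
      simp only [map_mul, e.symm_apply_apply]
      rw [h3]
  sq2 := by
    intro g h1
    rcases h.sq2 (e.symm g) (by rw [← map_pow, h1, map_one]) with h3 | h3
    · left
      apply e.symm.injective
      rw [map_mul, h3, map_one]
    · right
      apply e.symm.injective
      simp only [map_mul, e.symm_apply_apply]
      rw [h3]
  inj4 := by
    intro a a' b b' h1
    apply h.inj4
    apply e.injective
    simpa only [map_mul, map_pow] using h1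
  inj2 := by
    intro a a' b b' h1
    apply h.inj2
    rcases h1 with h1 | h1
    · left
      apply e.injective
      simpa only [map_mul, map_pow] using h1
    · right
      apply e.injective
      simpa only [map_mul, map_pow] using h1
  red := by
    intro a
    obtain ⟨a', h1 | h1⟩ := h.red a
    · exact ⟨a', Or.inl (by rw [← map_pow, h1, map_pow])⟩
    · exact ⟨a', Or.inr (by rw [← map_pow, h1]; simp only [map_mul, map_pow])⟩
  cj := by
    intro g h1 h2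
    obtain ⟨q, hq, h3⟩ := h.cj (e.symm g) (by rw [← map_pow, h1, map_one])
      (by
        apply e.injective
        simp only [map_pow, map_mul, e.apply_symm_apply, map_one]
        exact h2)
    refine ⟨e q, by rw [← map_pow, hq, map_one], ?_⟩
    have := congrArg e h3
    simpa only [map_mul, e.apply_symm_apply, map_inv] using this
  eqv := by
    intro u h1 h2 h3
    have h4 := h.eqv (e.symm u) (by rw [← map_pow, h1, map_one])
      (by
        apply e.injective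
        simp only [map_mul, e.apply_symm_apply]
        exact h2)
      (by
        apply e.injective
        simp only [map_mul, map_inv, e.apply_symm_apply]
        exact h3)
    rcases h4 with h4 | h4 | h4
    · left
      have := congrArg e h4
      simpa only [map_mul, e.apply_symm_apply, map_inv] using this
    · right; left
      have := congrArg e h4
      simpa only [map_mul, e.apply_symm_apply, map_inv] using this
    · right; right
      have := congrArg e h4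
      simpa only [map_mul, e.apply_symm_apply, map_inv] using this

/-- `i`, `j`, `x` in `SL(2, ZMod 3)` -/
def I3 : SpecialLinearGroup (Fin 2) (ZMod 3) := ⟨!![0, 1; 2, 0], by decide⟩
def J3 : SpecialLinearGroup (Fin 2) (ZMod 3) := ⟨!![1, 1; 1, 2], by decide⟩
def X3 : SpecialLinearGroup (Fin 2) (ZMod 3) := ⟨!![0, 1; 2, 2], by decide⟩

/-- the element with given entries -/
def sl (a b c d : ZMod 3) (h : a * d - b * c = 1) : SpecialLinearGroup (Fin 2) (ZMod 3) :=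
  ⟨!![a, b; c, d], by rw [det_fin_two_of]; exact h⟩

theorem all_sl {P : SpecialLinearGroup (Fin 2) (ZMod 3) → Prop}
    (h : ∀ a b c d (h : a * d - b * c = 1), P (sl a b c d h)) (g) : P g := by
  have h1 : g 0 0 * g 1 1 - g 0 1 * g 1 0 = 1 := by
    have := g.2
    rwa [det_fin_two] at this
  have : g = sl (g 0 0) (g 0 1) (g 1 0) (g 1 1) h1 := by
    apply Subtype.ext
    exact (Matrix.etaExpand_eq (g : Matrix (Fin 2) (Fin 2) (ZMod 3))).symm
  rw [this]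
  exact h _ _ _ _ _

set_option maxRecDepth 100000 in
theorem gen3 : ∀ a b c d : ZMod 3, ∀ (h : a * d - b * c = 1),
    ∃ (p : Fin 4) (q : Fin 2) (r : Fin 3), sl a b c d h = I3 ^ (p : ℕ) * J3 ^ (q : ℕ) * X3 ^ (r : ℕ) := by
  decide

set_option maxRecDepth 100000 in
theorem sq43 : ∀ a b c d : ZMod 3, ∀ (h : a * d - b * c = 1), (sl a b c d h) ^ 4 = 1 →
    ∃ (p : Fin 4) (q : Fin 2), sl a b c d h = I3 ^ (p : ℕ) * J3 ^ (q : ℕ) := by
  decide

theorem sq43' : ∀ g : SpecialLinearGroup (Fin 2) (ZMod 3), g ^ 4 = 1 →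
    ∃ (p : Fin 4) (q : Fin 2), g = I3 ^ (p : ℕ) * J3 ^ (q : ℕ) := all_sl sq43

set_option maxRecDepth 100000 in
theorem cen3 : ∀ a b c d : ZMod 3, ∀ (h : a * d - b * c = 1), (sl a b c d h) * I3 = I3 * (sl a b c d h) →
    (sl a b c d h) * J3 = J3 * (sl a b c d h) → sl a b c d h = 1 ∨ sl a b c d h = I3 * I3 := by
  decide

set_option maxRecDepth 100000 in
theorem pow123 : ∀ a b c d : ZMod 3, ∀ (h : a * d - b * c = 1), (sl a b c d h) ^ 12 = 1 := by
  decide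

set_option maxRecDepth 100000 in
theorem mul3 : ∀ (p : Fin 4) (q : Fin 2) (p' : Fin 4) (q' : Fin 2),
    ((I3 ^ (p : ℕ) * J3 ^ (q : ℕ)) * (I3 ^ (p' : ℕ) * J3 ^ (q' : ℕ))) ^ 4 = 1 := by
  decide

set_option maxRecDepth 100000 in
theorem comm3 : ∀ (p : Fin 4) (q : Fin 2) (p' : Fin 4) (q' : Fin 2),
    (I3 ^ (p : ℕ) * J3 ^ (q : ℕ)) * (I3 ^ (p' : ℕ) * J3 ^ (q' : ℕ)) =
      (I3 ^ (p' : ℕ) * J3 ^ (q' : ℕ)) * (I3 ^ (p : ℕ) * J3 ^ (q : ℕ)) ∨
    (I3 ^ (p : ℕ) * J3 ^ (q : ℕ)) * (I3 ^ (p' : ℕ) * J3 ^ (q' : ℕ)) =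
      (I3 ^ (p' : ℕ) * J3 ^ (q' : ℕ)) * (I3 ^ (p : ℕ) * J3 ^ (q : ℕ)) * (I3 * I3) := by
  decide

set_option maxRecDepth 100000 in
theorem sq23 : ∀ (p : Fin 4) (q : Fin 2), (I3 ^ (p : ℕ) * J3 ^ (q : ℕ)) * (I3 ^ (p : ℕ) * J3 ^ (q : ℕ)) = 1 ∨
    (I3 ^ (p : ℕ) * J3 ^ (q : ℕ)) * (I3 ^ (p : ℕ) * J3 ^ (q : ℕ)) = I3 * I3 := by
  decide

set_option maxRecDepth 100000 in
theorem inj43 : ∀ (a a' : Fin 4) (b b' : Fin 2), I3 ^ (a : ℕ) * J3 ^ (b : ℕ) = I3 ^ (a' : ℕ) * J3 ^ (b' : ℕ) →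
    a = a' ∧ b = b' := by
  decide

set_option maxRecDepth 100000 in
theorem inj23 : ∀ (a a' : Fin 2) (b b' : Fin 2), (I3 ^ (a : ℕ) * J3 ^ (b : ℕ) = I3 ^ (a' : ℕ) * J3 ^ (b' : ℕ) ∨
    I3 ^ (a : ℕ) * J3 ^ (b : ℕ) = I3 ^ (a' : ℕ) * J3 ^ (b' : ℕ) * (I3 * I3)) → a = a' ∧ b = b' := by
  decide

set_option maxRecDepth 100000 in
theorem red3 : ∀ (a : Fin 4), ∃ a' : Fin 2, I3 ^ (a : ℕ) = I3 ^ (a' : ℕ) ∨
    I3 ^ (a : ℕ) = I3 ^ (a' : ℕ) * (I3 * I3) := by
  decide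

set_option maxRecDepth 100000 in
theorem cj3 : ∀ (p : Fin 4) (q : Fin 2), (I3 ^ (p : ℕ) * J3 ^ (q : ℕ) * X3) ^ 3 = 1 →
    ∃ (p' : Fin 4) (q' : Fin 2), I3 ^ (p : ℕ) * J3 ^ (q : ℕ) * X3 =
      (I3 ^ (p' : ℕ) * J3 ^ (q' : ℕ)) * X3 * (I3 ^ (p' : ℕ) * J3 ^ (q' : ℕ))⁻¹ := by
  decide

set_option maxRecDepth 100000 in
theorem pow43 : ∀ (p : Fin 4) (q : Fin 2), (I3 ^ (p : ℕ) * J3 ^ (q : ℕ)) ^ 4 = 1 := by
  decide

set_option maxRecDepth 100000 in
theorem eqv3 : ∀ (p : Fin 4) (q : Fin 2),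
    (I3 ^ (p : ℕ) * J3 ^ (q : ℕ)) * (I3 ^ (p : ℕ) * J3 ^ (q : ℕ)) = I3 * I3 →
    (I3 ^ (p : ℕ) * J3 ^ (q : ℕ)) * (X3 * (I3 ^ (p : ℕ) * J3 ^ (q : ℕ)) * X3⁻¹) =
      X3 * X3 * (I3 ^ (p : ℕ) * J3 ^ (q : ℕ)) * X3⁻¹ * X3⁻¹ →
    (I3 ^ (p : ℕ) * J3 ^ (q : ℕ)) = I3 ∨ (I3 ^ (p : ℕ) * J3 ^ (q : ℕ)) = X3 * I3 * X3⁻¹ ∨
      (I3 ^ (p : ℕ) * J3 ^ (q : ℕ)) = X3⁻¹ * I3 * X3 := by
  decide

set_option maxRecDepth 100000 in
theorem tet3 : Tet I3 J3 X3 where
  jj := by decide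
  ji := by decide
  i4 := by decide
  ne := by decide
  x3 := by decide
  xi := by decide
  xj := by decide
  gen := all_sl gen3
  sq4 := all_sl sq43
  cen := all_sl cen3
  pow12 := all_sl pow123
  mul4 := by
    intro g h hg hh
    obtain ⟨p, q, rfl⟩ := sq43' g hg
    obtain ⟨p', q', rfl⟩ := sq43' h hh
    exact mul3 p q p' q'
  comm4 := by
    intro g h hg hh
    obtain ⟨p, q, rfl⟩ := sq43' g hg
    obtain ⟨p', q', rfl⟩ := sq43' h hh
    exact comm3 p q p' q'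
  sq2 := by
    intro g hg
    obtain ⟨p, q, rfl⟩ := sq43' g hg
    exact sq23 p q
  inj4 := inj43
  inj2 := inj23
  red := red3
  cj := by
    intro g hg h1
    obtain ⟨p, q, rfl⟩ := sq43' g hg
    obtain ⟨p', q', h2⟩ := cj3 p q h1
    exact ⟨_, pow43 p' q', h2⟩
  eqv := by
    intro u hu h1 h2
    obtain ⟨p, q, rfl⟩ := sq43' u hu
    exact eqv3 p q h1 h2

/-- `SL(2,F)`, `|F| = 3`, in coordinates. -/
theorem exists_tet {F : Type*} [Field F] [Fintype F] (h3 : Fintype.card F = 3) {K : Type*} [Group K]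
    (e : K ≃* SpecialLinearGroup (Fin 2) F) : ∃ i j x : K, Tet i j x := by
  have φ : ZMod 3 ≃+* F := ZMod.ringEquivOfPrime F Nat.prime_three h3
  have e1 : SpecialLinearGroup (Fin 2) (ZMod 3) ≃* SpecialLinearGroup (Fin 2) F :=
    { (SpecialLinearGroup.map (φ : ZMod 3 →+* F)) with
      invFun := SpecialLinearGroup.map (φ.symm : F →+* ZMod 3)
      left_inv := by
        intro g
        ext i j
        simp
      right_inv := by
        intro g
        ext i j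
        simp }
  exact ⟨_, _, _, tet3.map (e1.trans e.symm)⟩

end Cfsg.Agent.LFourR.QThreeSL
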