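import Mathlib
import Cfsg.Agent.LFourR.Input

/-!
First consequences of the input: the two sides, the element `w`, the abelian group generated by `a1`, `a2`.
-/

set_option autoImplicit false

namespace Cfsg.Agent.LFourR

open Subgroup

variable {F : Type*} [Field F] [Fintype F] {G : Type*} [Group G]
variable {ε : ℤ} {N k : ℕ} {z e ρ n1 n2 : G} {L1 L2 U : Subgroup G}

theorem conj_comm {x y g : G} (h : x * y = y * x) : g * x * g⁻¹ * (g * y * g⁻¹) = g * y * g⁻¹ * (g * x * g⁻¹) := by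
  calc g * x * g⁻¹ * (g * y * g⁻¹) = g * (x * y) * g⁻¹ := by group
    _ = g * (y * x) * g⁻¹ := by rw [h]
    _ = _ := by group

theorem conj_comm' {x y g : G} (h : x * y = y * x) : g⁻¹ * x * g * (g⁻¹ * y * g) = g⁻¹ * y * g * (g⁻¹ * x * g) := by
  calc g⁻¹ * x * g * (g⁻¹ * y * g) = g⁻¹ * (x * y) * g := by group
    _ = g⁻¹ * (y * x) * g := by rw [h]
    _ = _ := by group

theorem eq_one_of_sq_of_pow {x : G} (h : x * x = 1) {m : ℕ} (hm : Odd m) (hx : x ^ m = 1) : x = 1 := by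
  obtain ⟨j, rfl⟩ := hm
  rw [pow_succ, pow_mul, pow_two, h, one_pow, one_mul] at hx
  exact hx

namespace Inp

variable (H : Inp F ε N k z e ρ n1 n2 L1 L2 U)
include H

theorem exists_side1 : ∃ a1 : G, Side z e a1 L1 N k := by
  obtain ⟨e0⟩ := H.iso1
  obtain ⟨a, ha, hae, hord⟩ := exists_a H.nums H.T_cyc H.T_card
  exact ⟨a, exists_side e0 H.nums (mem_normalizer_iff_cg.2 H.e_norm) H.ee H.e_act H.T_cyc H.T_card H.z_mem H.zz
    H.z_ne ha hae hord⟩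

theorem c_z : n1 * n2 * z = z * (n1 * n2) := by
  obtain ⟨a1, S⟩ := H.exists_side1
  rw [mul_assoc, ← H.comm z H.z_mem n2 H.n2_mem, ← mul_assoc, ← S.z_comm n1 H.n1_mem, mul_assoc]

theorem c_e : n1 * n2 * e = e * (n1 * n2) := by
  have h1 : e * n1 = n1 * z * e := by rw [← H.n1_e]; group
  have h2 : e * n2 = n2 * z * e := by rw [← H.n2_e]; group
  have hz2 : z * n2 = n2 * z := H.comm z H.z_mem n2 H.n2_mem
  calc n1 * n2 * e = n1 * (n2 * (z * z)) * e := by rw [H.zz, mul_one]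
    _ = n1 * (n2 * z) * z * e := by group
    _ = n1 * (z * n2) * z * e := by rw [hz2]
    _ = n1 * z * (n2 * z * e) := by group
    _ = n1 * z * (e * n2) := by rw [h2]
    _ = n1 * z * e * n2 := by group
    _ = e * (n1 * n2) := by rw [← h1]; group

theorem ρ_ze : ρ * (z * e) * ρ⁻¹ = z := by
  calc ρ * (z * e) * ρ⁻¹ = (ρ * z * ρ⁻¹) * (ρ * e * ρ⁻¹) := by group
    _ = e * (z * e) := by rw [H.ρ_z, H.ρ_e]
    _ = z := by rw [H.ze, ← mul_assoc, H.ee, one_mul]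

/-- `ρ` normalises the centraliser of `V` -/
theorem ρ_cent {x : G} (hz : x * z = z * x) (he : x * e = e * x) :
    (ρ * x * ρ⁻¹) * z = z * (ρ * x * ρ⁻¹) ∧ (ρ * x * ρ⁻¹) * e = e * (ρ * x * ρ⁻¹) := by
  constructor
  · have h := conj_comm (g := ρ) (show x * (z * e) = z * e * x by rw [← mul_assoc, hz, mul_assoc, he, mul_assoc])
    rwa [H.ρ_ze] at h
  · have h := conj_comm (g := ρ) hz
    rwa [H.ρ_z] at h

theorem ρ_cent' {x : G} (hz : x * z = z * x) (he : x * e = e * x) :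
    (ρ⁻¹ * x * ρ) * z = z * (ρ⁻¹ * x * ρ) ∧ (ρ⁻¹ * x * ρ) * e = e * (ρ⁻¹ * x * ρ) := by
  have h1 : ρ⁻¹ * e * ρ = z := by rw [← H.ρ_z]; group
  have h2 : ρ⁻¹ * z * ρ = z * e := by
    conv_lhs => rw [← H.ρ_ze]
    group
  have hz' : (ρ⁻¹ * x * ρ) * z = z * (ρ⁻¹ * x * ρ) := by
    have h := conj_comm' (g := ρ) he
    rwa [h1] at h
  refine ⟨hz', ?_⟩
  have h := conj_comm' (g := ρ) hz
  rw [h2] at h
  -- `y (z e) = (z e) y` and `y z = z y` give `y e = e y`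
  have h3 : ρ⁻¹ * x * ρ * (z * e) = z * (ρ⁻¹ * x * ρ * e) := by rw [← mul_assoc, hz', mul_assoc]
  rw [h3, mul_assoc z] at h
  exact mul_left_cancel h

theorem w_z : ρ * (n1 * n2) * ρ⁻¹ * z = z * (ρ * (n1 * n2) * ρ⁻¹) := (H.ρ_cent H.c_z H.c_e).1

theorem w_e : ρ * (n1 * n2) * ρ⁻¹ * e = e * (ρ * (n1 * n2) * ρ⁻¹) := (H.ρ_cent H.c_z H.c_e).2

theorem L1_ne_L2 : L1 ≠ L2 := by
  intro h
  obtain ⟨a1, S⟩ := H.exists_side1
  rcases S.center a1 S.a_mem (fun y hy => H.comm a1 S.a_mem y (h ▸ hy)) with h1 | h1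
  · have := S.ord
    rw [h1, orderOf_one] at this
    have := S.one_lt
    omega
  · have h2 : a1 ^ 2 = 1 := by rw [h1, pow_two, H.zz]
    have h3 := orderOf_dvd_of_pow_eq_one h2
    rw [S.ord] at h3
    have h4 := Nat.le_of_dvd (by norm_num) h3
    have h5 := S.one_lt
    have h6 : N = 2 := by omega
    have h7 := S.odd
    rw [h6] at h7
    exact absurd h7 (by decide)

theorem c_sq : n1 * n2 * (n1 * n2) = 1 := by
  calc n1 * n2 * (n1 * n2) = n1 * (n2 * n1) * n2 := by group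
    _ = n1 * (n1 * n2) * n2 := by rw [H.comm n1 H.n1_mem n2 H.n2_mem]
    _ = (n1 * n1) * (n2 * n2) := by group
    _ = 1 := by rw [H.n1_sq, H.n2_sq, H.zz]

theorem w_sq : ρ * (n1 * n2) * ρ⁻¹ * (ρ * (n1 * n2) * ρ⁻¹) = 1 := by
  calc ρ * (n1 * n2) * ρ⁻¹ * (ρ * (n1 * n2) * ρ⁻¹) = ρ * (n1 * n2 * (n1 * n2)) * ρ⁻¹ := by group
    _ = 1 := by rw [H.c_sq]; group

theorem w_inv : (ρ * (n1 * n2) * ρ⁻¹)⁻¹ = ρ * (n1 * n2) * ρ⁻¹ := inv_eq_of_mul_eq_one_right H.w_sq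

theorem swap2 : cg (ρ * (n1 * n2) * ρ⁻¹) L2 = L1 := by
  rw [← H.swap, ← cg_mul, H.w_sq, cg_one]

theorem z_mem2 : z ∈ L2 := by
  rw [← H.swap, mem_cg]
  have : (ρ * (n1 * n2) * ρ⁻¹)⁻¹ * z * (ρ * (n1 * n2) * ρ⁻¹) = z := by
    rw [mul_assoc, ← H.w_z]; group
  rw [this]; exact H.z_mem

theorem e_norm2 : cg e L2 = L2 := by
  rcases H.perm e H.ze.symm with h | h
  · exact h.2
  · exact absurd (H.e_norm.symm.trans h.1) H.L1_ne_L2

theorem mem_swap {x : G} (hx : x ∈ L1) : ρ * (n1 * n2) * ρ⁻¹ * x * (ρ * (n1 * n2) * ρ⁻¹)⁻¹ ∈ L2 := by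
  rw [← H.swap]; exact conj_mem_cg hx

theorem mem_swap2 {x : G} (hx : x ∈ L2) : ρ * (n1 * n2) * ρ⁻¹ * x * (ρ * (n1 * n2) * ρ⁻¹)⁻¹ ∈ L1 := by
  rw [← H.swap2]; exact conj_mem_cg hx

theorem mem_both {x : G} (h1 : x ∈ L1) (h2 : x ∈ L2) : x = 1 ∨ x = z := by
  obtain ⟨a1, S⟩ := H.exists_side1
  exact S.center x h1 (fun y hy => (H.comm y hy x h2).symm)

theorem exists_side2 {a1 : G} (S : Side z e a1 L1 N k) :
    Side z e (ρ * (n1 * n2) * ρ⁻¹ * a1 * (ρ * (n1 * n2) * ρ⁻¹)⁻¹) L2 N k := by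
  set w := ρ * (n1 * n2) * ρ⁻¹ with hw
  obtain ⟨e0⟩ := H.iso1
  have hwe : w * e = e * w := H.w_e
  -- the isomorphism of the centralisers of `e`
  have hmem : ∀ x, x ∈ (L1 ⊓ centralizer {e} : Subgroup G) → w * x * w⁻¹ ∈ (L2 ⊓ centralizer {e} : Subgroup G) := by
    intro x hx
    obtain ⟨h1, h2⟩ := mem_inf.1 hx
    refine mem_inf.2 ⟨H.mem_swap h1, ?_⟩
    rw [mem_centralizer_singleton_iff] at h2 ⊢
    have := conj_comm (g := w) h2
    have e1 : w * e * w⁻¹ = e := by rw [hwe]; group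
    rwa [e1] at this
  have hmem2 : ∀ x, x ∈ (L2 ⊓ centralizer {e} : Subgroup G) → w * x * w⁻¹ ∈ (L1 ⊓ centralizer {e} : Subgroup G) := by
    intro x hx
    obtain ⟨h1, h2⟩ := mem_inf.1 hx
    refine mem_inf.2 ⟨H.mem_swap2 h1, ?_⟩
    rw [mem_centralizer_singleton_iff] at h2 ⊢
    have := conj_comm (g := w) h2
    have e1 : w * e * w⁻¹ = e := by rw [hwe]; group
    rwa [e1] at this
  have hww : ∀ x, w * (w * x * w⁻¹) * w⁻¹ = x := by
    intro x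
    have h2 : w * w = 1 := H.w_sq
    have h3 : w⁻¹ * w⁻¹ = 1 := by rw [← _root_.mul_inv_rev, h2, inv_one]
    calc w * (w * x * w⁻¹) * w⁻¹ = (w * w) * x * (w⁻¹ * w⁻¹) := by group
      _ = x := by rw [h2, h3, one_mul, mul_one]
  let E : (L1 ⊓ centralizer {e} : Subgroup G) ≃* (L2 ⊓ centralizer {e} : Subgroup G) :=
    { toFun := fun x => ⟨w * x * w⁻¹, hmem x x.2⟩
      invFun := fun x => ⟨w * x * w⁻¹, hmem2 x x.2⟩
      left_inv := fun x => Subtype.ext (hww x)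
      right_inv := fun x => Subtype.ext (hww x)
      map_mul' := fun x y => Subtype.ext (by
        change w * (x * y : G) * w⁻¹ = (w * x * w⁻¹) * (w * y * w⁻¹)
        group) }
  have hcyc := H.T_cyc
  have e2 : L2 ≃* Matrix.SpecialLinearGroup (Fin 2) F :=
    ((MulEquiv.subgroupCongr H.swap.symm).trans (cgEquiv w L1).symm).trans e0
  refine exists_side e2 H.nums (mem_normalizer_iff_cg.2 H.e_norm2) H.ee ?_ (isCyclic_of_surjective E E.surjective)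
    ((Nat.card_congr E.toEquiv).symm.trans H.T_card) H.z_mem2 H.zz H.z_ne (H.mem_swap S.a_mem) ?_ ?_
  · intro h
    apply H.e_act
    intro l hl
    have h1 := h _ (H.mem_swap hl)
    have h2 := conj_comm (g := w) h1
    have e1 : w * e * w⁻¹ = e := by rw [hwe]; group
    have e3 := hww l
    rw [e1] at h2
    change e * (w * (w * l * w⁻¹) * w⁻¹) = w * (w * l * w⁻¹) * w⁻¹ * e at h2
    rwa [e3] at h2
  · have := conj_comm (g := w) S.a_e
    have e1 : w * e * w⁻¹ = e := by rw [hwe]; group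
    rwa [e1] at this
  · have := MulEquiv.orderOf_eq (MulAut.conj w) a1
    rw [← S.ord, ← this]; rfl

end Inp

end Cfsg.Agent.LFourR
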