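import Mathlib
import Cfsg.Agent.LFourR.R1a

/-!
The torus argument: the element `x0` centralising `L1` and `ρ L1 ρ⁻¹` and acting on `L2` as a generator of the odd part
of the torus.
-/

set_option autoImplicit false

namespace Cfsg.Agent.LFourR

open Subgroup

variable {G : Type*} [Group G]

/-- the data for the torus argument -/
structure Core (z e ρ c w a1 a2 : G) (L1 L2 : Subgroup G) (N k : ℕ) : Prop where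
  S1 : Side z e a1 L1 N k
  S2 : Side z e a2 L2 N k
  zz : z * z = 1
  ee : e * e = 1
  ze : z * e = e * z
  comm : ∀ x ∈ L1, ∀ y ∈ L2, x * y = y * x
  perm : ∀ c : G, c * z = z * c → (cg c L1 = L1 ∧ cg c L2 = L2) ∨ (cg c L1 = L2 ∧ cg c L2 = L1)
  cz : c * z = z * c
  ce : c * e = e * c
  wz : w * z = z * w
  we : w * e = e * w
  ww : w * w = 1
  w_def : ρ * c * ρ⁻¹ = w
  c_cent : ∀ d : G, (∀ l ∈ L1, d * l = l * d) → (∀ l ∈ L2, d * l = l * d) → d * c = c * d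
  ca1 : c * a1 * c⁻¹ = a1⁻¹
  ca2 : c * a2 * c⁻¹ = a2⁻¹
  wa1 : w * a1 * w⁻¹ = a2
  wa2 : w * a2 * w⁻¹ = a1
  c'a1 : ρ⁻¹ * c * ρ * a1 * (ρ⁻¹ * c * ρ)⁻¹ = a2⁻¹
  c'a2 : ρ⁻¹ * c * ρ * a2 * (ρ⁻¹ * c * ρ)⁻¹ = a1⁻¹
  w'a1 : ρ * w * ρ⁻¹ * a1 * (ρ * w * ρ⁻¹)⁻¹ = a2⁻¹
  w'a2 : ρ * w * ρ⁻¹ * a2 * (ρ * w * ρ⁻¹)⁻¹ = a1⁻¹
  swap : cg w L1 = L2
  swap2 : cg w L2 = L1
  ne : L1 ≠ L2
  ρ_cent : ∀ x : G, x * z = z * x → x * e = e * x →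
    (ρ * x * ρ⁻¹) * z = z * (ρ * x * ρ⁻¹) ∧ (ρ * x * ρ⁻¹) * e = e * (ρ * x * ρ⁻¹)
  ρ_cent' : ∀ x : G, x * z = z * x → x * e = e * x →
    (ρ⁻¹ * x * ρ) * z = z * (ρ⁻¹ * x * ρ) ∧ (ρ⁻¹ * x * ρ) * e = e * (ρ⁻¹ * x * ρ)

namespace Core

variable {z e ρ c w a1 a2 : G} {L1 L2 : Subgroup G} {N k : ℕ} (C : Core z e ρ c w a1 a2 L1 L2 N k)
include C

theorem mem_both {x : G} (h1 : x ∈ L1) (h2 : x ∈ L2) : x = 1 ∨ x = z :=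
  C.S1.center x h1 (fun y hy => (C.comm y hy x h2).symm)

theorem a1a2 : a1 * a2 = a2 * a1 := C.comm a1 C.S1.a_mem a2 C.S2.a_mem

theorem a1_pow : a1 ^ N = 1 := by rw [← C.S1.ord, pow_orderOf_eq_one]

theorem a2_pow : a2 ^ N = 1 := by rw [← C.S2.ord, pow_orderOf_eq_one]

theorem zpow_comm (i j : ℤ) : a1 ^ i * a2 ^ j = a2 ^ j * a1 ^ i :=
  ((show Commute a1 a2 from C.a1a2).zpow_zpow i j).eq

/-- an element of `L1 ∩ L2` which is a power of `a1` is trivial -/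
theorem eq_one_of_both {i : ℤ} (h : a1 ^ i ∈ L2) : a1 ^ i = 1 := by
  rcases C.mem_both (zpow_mem C.S1.a_mem i) h with h1 | h1
  · exact h1
  · apply eq_one_of_sq_of_pow (m := N) (by rw [h1, C.zz]) C.S1.odd
    rw [← zpow_natCast, ← zpow_mul, mul_comm, zpow_mul, zpow_natCast, C.a1_pow, one_zpow]

theorem eq_one_of_both2 {i : ℤ} (h : a2 ^ i ∈ L1) : a2 ^ i = 1 := by
  rcases C.mem_both h (zpow_mem C.S2.a_mem i) with h1 | h1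
  · exact h1
  · apply eq_one_of_sq_of_pow (m := N) (by rw [h1, C.zz]) C.S1.odd
    rw [← zpow_natCast, ← zpow_mul, mul_comm, zpow_mul, zpow_natCast, C.a2_pow, one_zpow]

theorem w_zpow1 (i : ℤ) : w * a1 ^ i * w⁻¹ = a2 ^ i := by rw [← conj_zpow, C.wa1]

theorem w_zpow2 (i : ℤ) : w * a2 ^ i * w⁻¹ = a1 ^ i := by rw [← conj_zpow, C.wa2]

/-- equal exponents: `a1 ^ i = 1 ↔ a2 ^ i = 1` -/
theorem a1_iff {i : ℤ} : a1 ^ i = 1 ↔ a2 ^ i = 1 := by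
  constructor
  · intro h; rw [← C.w_zpow1, h]; group
  · intro h; rw [← C.w_zpow2, h]; group

/-- the set of products of powers of `a1`, `a2` -/
def InA (a1 a2 x : G) : Prop := ∃ i j : ℤ, x = a1 ^ i * a2 ^ j

omit C in
theorem inA_iff {x : G} : InA a1 a2 x ↔ ∃ i j : ℤ, x = a1 ^ i * a2 ^ j := Iff.rfl

theorem inA_mul {x y : G} (hx : InA a1 a2 x) (hy : InA a1 a2 y) : InA a1 a2 (x * y) := by
  obtain ⟨i, j, rfl⟩ := hx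
  obtain ⟨i', j', rfl⟩ := hy
  refine ⟨i + i', j + j', ?_⟩
  rw [zpow_add, zpow_add]
  calc a1 ^ i * a2 ^ j * (a1 ^ i' * a2 ^ j') = a1 ^ i * (a2 ^ j * a1 ^ i') * a2 ^ j' := by group
    _ = a1 ^ i * (a1 ^ i' * a2 ^ j) * a2 ^ j' := by rw [C.zpow_comm]
    _ = _ := by group

theorem inA_inv {x : G} (hx : InA a1 a2 x) : InA a1 a2 x⁻¹ := by
  obtain ⟨i, j, rfl⟩ := hx
  refine ⟨-i, -j, ?_⟩
  rw [_root_.mul_inv_rev, ← zpow_neg, ← zpow_neg, C.zpow_comm]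

theorem inA_comm {x y : G} (hx : InA a1 a2 x) (hy : InA a1 a2 y) : x * y = y * x := by
  obtain ⟨i, j, rfl⟩ := hx
  obtain ⟨i', j', rfl⟩ := hy
  have h1 : Commute (a1 ^ i) (a1 ^ i' * a2 ^ j') :=
    ((Commute.refl a1).zpow_zpow i i').mul_right ((show Commute a1 a2 from C.a1a2).zpow_zpow i j')
  have h2 : Commute (a2 ^ j) (a1 ^ i' * a2 ^ j') :=
    ((show Commute a2 a1 from C.a1a2.symm).zpow_zpow j i').mul_right ((Commute.refl a2).zpow_zpow j j')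
  exact (h1.mul_left h2).eq

omit C in
theorem inA_a1 : InA a1 a2 a1 := ⟨1, 0, by simp⟩

omit C in
theorem inA_a2 : InA a1 a2 a2 := ⟨0, 1, by simp⟩

theorem inA_c {x : G} (hx : InA a1 a2 x) : c * x * c⁻¹ = x⁻¹ := by
  obtain ⟨i, j, rfl⟩ := hx
  calc c * (a1 ^ i * a2 ^ j) * c⁻¹ = (c * a1 * c⁻¹) ^ i * (c * a2 * c⁻¹) ^ j := by
        rw [conj_zpow, conj_zpow]; group
    _ = (a1 ^ i * a2 ^ j)⁻¹ := by
        rw [C.ca1, C.ca2, _root_.mul_inv_rev, inv_zpow, inv_zpow, ← zpow_neg, ← zpow_neg, C.zpow_comm]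

/-- the elements of `A` commute with `z` and `e` -/
theorem inA_cent {x : G} (hx : InA a1 a2 x) : x * z = z * x ∧ x * e = e * x := by
  obtain ⟨i, j, rfl⟩ := hx
  have h1 : Commute a1 z := (C.S1.z_comm a1 C.S1.a_mem).symm
  have h2 : Commute a2 z := (C.S2.z_comm a2 C.S2.a_mem).symm
  have h3 : Commute a1 e := C.S1.a_e
  have h4 : Commute a2 e := C.S2.a_e
  exact ⟨((h1.zpow_left i).mul_left (h2.zpow_left j)).eq, ((h3.zpow_left i).mul_left (h4.zpow_left j)).eq⟩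

omit C in
theorem conj_pow_eq {g x : G} (m : ℕ) (h : x ^ m = 1) : (g * x * g⁻¹) ^ m = 1 := by
  rw [conj_pow, h]; group

omit C in
theorem conj_pow_eq' {g x : G} (m : ℕ) (h : x ^ m = 1) : (g⁻¹ * x * g) ^ m = 1 := by
  have := conj_pow_eq (g := g⁻¹) m h
  rwa [inv_inv] at this

theorem inA_pow {x : G} (hx : InA a1 a2 x) : x ^ N = 1 := by
  obtain ⟨i, j, rfl⟩ := hx
  have h : Commute (a1 ^ i) (a2 ^ j) := C.zpow_comm i j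
  rw [h.mul_pow, ← zpow_natCast, ← zpow_natCast, ← zpow_mul, ← zpow_mul, mul_comm i, mul_comm j, zpow_mul, zpow_mul,
    zpow_natCast, zpow_natCast, C.a1_pow, C.a2_pow, one_zpow, one_zpow, one_mul]

/-- elements of odd order commuting with `z` normalise `L1` and `L2` -/
theorem odd_norm {y : G} (hz : y * z = z * y) {m : ℕ} (hm : Odd m) (hy : y ^ m = 1) :
    cg y L1 = L1 ∧ cg y L2 = L2 := by
  rcases C.perm y hz with h | h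
  · exact h
  exfalso
  have h2 : cg (y * y) L1 = L1 := by rw [cg_mul, h.1, h.2]
  have h3 : ∀ j : ℕ, cg ((y * y) ^ j) L1 = L1 := by
    intro j
    induction j with
    | zero => rw [pow_zero, cg_one]
    | succ j ih => rw [pow_succ, cg_mul, h2, ih]
  obtain ⟨j, rfl⟩ := hm
  have h4 : cg (y ^ (2 * j + 1)) L1 = L2 := by
    rw [pow_succ', cg_mul, pow_mul, pow_two, h3, h.1]
  rw [hy, cg_one] at h4
  exact C.ne h4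

/-- the centraliser of `V` normalises `A` -/
theorem cent_norm {d : G} (hz : d * z = z * d) (he : d * e = e * d) {x : G} (hx : InA a1 a2 x) :
    InA a1 a2 (d * x * d⁻¹) := by
  have hord : ∀ a : G, orderOf (d * a * d⁻¹) = orderOf a := fun a => MulEquiv.orderOf_eq (MulAut.conj d) a
  have hce : ∀ a : G, a * e = e * a → (d * a * d⁻¹) * e = e * (d * a * d⁻¹) := by
    intro a ha
    have := conj_comm (g := d) ha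
    have e1 : d * e * d⁻¹ = e := by rw [he]; group
    rwa [e1] at this
  have hgen : ∀ i : ℤ, InA a1 a2 (d * a1 ^ i * d⁻¹) ∧ InA a1 a2 (d * a2 ^ i * d⁻¹) := by
    rcases C.perm d hz with h | h
    · have h1 : d * a1 * d⁻¹ ∈ zpowers a1 := C.S1.odd_mem _ (by rw [← h.1]; exact conj_mem_cg C.S1.a_mem)
        (hce a1 C.S1.a_e) (by rw [hord, C.S1.ord]; exact C.S1.odd)
      have h2 : d * a2 * d⁻¹ ∈ zpowers a2 := C.S2.odd_mem _ (by rw [← h.2]; exact conj_mem_cg C.S2.a_mem)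
        (hce a2 C.S2.a_e) (by rw [hord, C.S2.ord]; exact C.S1.odd)
      intro i
      rw [← conj_zpow, ← conj_zpow]
      obtain ⟨j, hj⟩ := mem_zpowers_iff.1 h1
      obtain ⟨j', hj'⟩ := mem_zpowers_iff.1 h2
      rw [← hj, ← hj', ← zpow_mul, ← zpow_mul]
      exact ⟨⟨j * i, 0, by simp⟩, ⟨0, j' * i, by simp⟩⟩
    · have h1 : d * a1 * d⁻¹ ∈ zpowers a2 := C.S2.odd_mem _ (by rw [← h.1]; exact conj_mem_cg C.S1.a_mem)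
        (hce a1 C.S1.a_e) (by rw [hord, C.S1.ord]; exact C.S1.odd)
      have h2 : d * a2 * d⁻¹ ∈ zpowers a1 := C.S1.odd_mem _ (by rw [← h.2]; exact conj_mem_cg C.S2.a_mem)
        (hce a2 C.S2.a_e) (by rw [hord, C.S2.ord]; exact C.S1.odd)
      intro i
      rw [← conj_zpow, ← conj_zpow]
      obtain ⟨j, hj⟩ := mem_zpowers_iff.1 h1
      obtain ⟨j', hj'⟩ := mem_zpowers_iff.1 h2
      rw [← hj, ← hj', ← zpow_mul, ← zpow_mul]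
      exact ⟨⟨0, j * i, by simp⟩, ⟨j' * i, 0, by simp⟩⟩
  obtain ⟨i, j, rfl⟩ := hx
  have : d * (a1 ^ i * a2 ^ j) * d⁻¹ = (d * a1 ^ i * d⁻¹) * (d * a2 ^ j * d⁻¹) := by group
  rw [this]
  exact C.inA_mul (hgen i).1 (hgen j).2

omit C in
theorem norm_mem1 {y : G} (h : cg y L1 = L1) {x : G} (hx : x ∈ L1) : y * x * y⁻¹ ∈ L1 := by
  rw [← h]; exact conj_mem_cg hx

omit C in
theorem norm_mem2 {y : G} (h : cg y L2 = L2) {x : G} (hx : x ∈ L2) : y * x * y⁻¹ ∈ L2 := by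
  rw [← h]; exact conj_mem_cg hx

/-- Abstract claim: let `P` be a set of elements of odd order (dividing `N`) in `C(V)`, invariant under the centraliser
of `V` and closed under products and inverses, all inverted by an element `s` swapping `L1`, `L2`. Then they commute
with `a1`, `a2`. -/
theorem claim (P : G → Prop) (hPz : ∀ y, P y → y * z = z * y)
    (hPN : ∀ y, P y → y ^ N = 1) (hPmul : ∀ x y, P x → P y → P (x * y)) (hPinv : ∀ x, P x → P x⁻¹)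
    (hPn : ∀ d, d * z = z * d → d * e = e * d → ∀ y, P y → P (d * y * d⁻¹))
    (s : G) (hs1 : cg s L1 = L2) (hs2 : cg s L2 = L1) (hPs : ∀ y, P y → s * y * s⁻¹ = y⁻¹) {y : G} (hy : P y) :
    y * a1 = a1 * y ∧ y * a2 = a2 * y := by
  have hn := C.odd_norm (hPz y hy) C.S1.odd (hPN y hy)
  have key : ∀ {x : G}, InA a1 a2 x → P (y * x * y⁻¹ * x⁻¹) := by
    intro x hx
    have h1 := C.inA_cent (C.inA_inv hx)
    have h2 : y * x * y⁻¹ * x⁻¹ = y * (x * y⁻¹ * x⁻¹) := by group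
    rw [h2]
    refine hPmul _ _ hy ?_
    exact hPn x (C.inA_cent hx).1 (C.inA_cent hx).2 _ (hPinv _ hy)
  have hz1 : ∀ x, x = 1 ∨ x = z → x ^ N = 1 → x = 1 := by
    rintro x (h | h) hxN
    · exact h
    · exact eq_one_of_sq_of_pow (by rw [h, C.zz]) C.S1.odd hxN
  constructor
  · have hv := key inA_a1
    have hvm : y * a1 * y⁻¹ * a1⁻¹ ∈ L1 := mul_mem (norm_mem1 hn.1 C.S1.a_mem) (inv_mem C.S1.a_mem)
    have hv2 : y * a1 * y⁻¹ * a1⁻¹ ∈ L2 := by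
      have h1 : s * (y * a1 * y⁻¹ * a1⁻¹) * s⁻¹ ∈ L2 := by rw [← hs1]; exact conj_mem_cg hvm
      rw [hPs _ hv] at h1
      exact inv_mem_iff.1 h1
    have := hz1 _ (C.mem_both hvm hv2) (hPN _ hv)
    have h3 : y * a1 * y⁻¹ = a1 := by rwa [mul_inv_eq_one] at this
    exact mul_inv_eq_iff_eq_mul.1 h3
  · have hv := key inA_a2
    have hvm : y * a2 * y⁻¹ * a2⁻¹ ∈ L2 := mul_mem (norm_mem2 hn.2 C.S2.a_mem) (inv_mem C.S2.a_mem)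
    have hv2 : y * a2 * y⁻¹ * a2⁻¹ ∈ L1 := by
      have h1 : s * (y * a2 * y⁻¹ * a2⁻¹) * s⁻¹ ∈ L1 := by rw [← hs2]; exact conj_mem_cg hvm
      rw [hPs _ hv] at h1
      exact inv_mem_iff.1 h1
    have := hz1 _ (C.mem_both hv2 hvm) (hPN _ hv)
    have h3 : y * a2 * y⁻¹ = a2 := by rwa [mul_inv_eq_one] at this
    exact mul_inv_eq_iff_eq_mul.1 h3

/-- the elements of `ρ A ρ⁻¹` commute with `A` -/
theorem claim_ρ {x : G} (hx : InA a1 a2 x) :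
    (ρ * x * ρ⁻¹) * a1 = a1 * (ρ * x * ρ⁻¹) ∧ (ρ * x * ρ⁻¹) * a2 = a2 * (ρ * x * ρ⁻¹) := by
  refine C.claim (fun y => InA a1 a2 (ρ⁻¹ * y * ρ)) ?_ ?_ ?_ ?_ ?_ w C.swap C.swap2 ?_ (y := ρ * x * ρ⁻¹) ?_
  · intro y hy
    have h1 := C.inA_cent hy
    have h2 := (C.ρ_cent _ h1.1 h1.2).1
    have e1 : ρ * (ρ⁻¹ * y * ρ) * ρ⁻¹ = y := by group
    rwa [e1] at h2
  · intro y hy
    have h1 := conj_pow_eq (g := ρ) N (C.inA_pow hy)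
    have e1 : ρ * (ρ⁻¹ * y * ρ) * ρ⁻¹ = y := by group
    rwa [e1] at h1
  · intro x y hx hy
    have e1 : ρ⁻¹ * (x * y) * ρ = (ρ⁻¹ * x * ρ) * (ρ⁻¹ * y * ρ) := by group
    rw [e1]; exact C.inA_mul hx hy
  · intro x hx
    have e1 : ρ⁻¹ * x⁻¹ * ρ = (ρ⁻¹ * x * ρ)⁻¹ := by group
    rw [e1]; exact C.inA_inv hx
  · intro d hdz hde y hy
    have h1 := C.ρ_cent' d hdz hde
    have e1 : ρ⁻¹ * (d * y * d⁻¹) * ρ = (ρ⁻¹ * d * ρ) * (ρ⁻¹ * y * ρ) * (ρ⁻¹ * d * ρ)⁻¹ := by group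
    rw [e1]; exact C.cent_norm h1.1 h1.2 hy
  · intro y hy
    have h1 := C.inA_c hy
    calc w * y * w⁻¹ = ρ * (c * (ρ⁻¹ * y * ρ) * c⁻¹) * ρ⁻¹ := by rw [← C.w_def]; group
      _ = y⁻¹ := by rw [h1]; group
  · have e1 : ρ⁻¹ * (ρ * x * ρ⁻¹) * ρ = x := by group
    change InA a1 a2 (ρ⁻¹ * (ρ * x * ρ⁻¹) * ρ)
    rw [e1]; exact hx

/-- the elements of `ρ⁻¹ A ρ` commute with `A` -/
theorem claim_ρ' {x : G} (hx : InA a1 a2 x) :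
    (ρ⁻¹ * x * ρ) * a1 = a1 * (ρ⁻¹ * x * ρ) ∧ (ρ⁻¹ * x * ρ) * a2 = a2 * (ρ⁻¹ * x * ρ) := by
  have hc1 : cg c L1 = L1 ∧ cg c L2 = L2 := by
    rcases C.perm c C.cz with h | h
    · exact h
    · exfalso
      have h1 : c * a1 * c⁻¹ ∈ L2 := by rw [← h.1]; exact conj_mem_cg C.S1.a_mem
      rw [C.ca1, inv_mem_iff] at h1
      have h2 := C.eq_one_of_both (i := 1) (by rwa [zpow_one])
      rw [zpow_one] at h2
      have h3 := C.S1.ord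
      rw [h2, orderOf_one] at h3
      have := C.S1.one_lt
      omega
  refine C.claim (fun y => InA a1 a2 (ρ * y * ρ⁻¹)) ?_ ?_ ?_ ?_ ?_ (c * w) (by rw [cg_mul, C.swap, hc1.2])
    (by rw [cg_mul, C.swap2, hc1.1]) ?_ (y := ρ⁻¹ * x * ρ) ?_
  · intro y hy
    have h1 := C.inA_cent hy
    have h2 := (C.ρ_cent' _ h1.1 h1.2).1
    have e1 : ρ⁻¹ * (ρ * y * ρ⁻¹) * ρ = y := by group
    rwa [e1] at h2
  · intro y hy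
    have h1 := conj_pow_eq' (g := ρ) N (C.inA_pow hy)
    have e1 : ρ⁻¹ * (ρ * y * ρ⁻¹) * ρ = y := by group
    rwa [e1] at h1
  · intro x y hx hy
    have e1 : ρ * (x * y) * ρ⁻¹ = (ρ * x * ρ⁻¹) * (ρ * y * ρ⁻¹) := by group
    rw [e1]; exact C.inA_mul hx hy
  · intro x hx
    have e1 : ρ * x⁻¹ * ρ⁻¹ = (ρ * x * ρ⁻¹)⁻¹ := by group
    rw [e1]; exact C.inA_inv hx
  · intro d hdz hde y hy
    have h1 := C.ρ_cent d hdz hde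
    have e1 : ρ * (d * y * d⁻¹) * ρ⁻¹ = (ρ * d * ρ⁻¹) * (ρ * y * ρ⁻¹) * (ρ * d * ρ⁻¹)⁻¹ := by group
    rw [e1]; exact C.cent_norm h1.1 h1.2 hy
  · intro y hy
    -- `ρ (c w) ρ⁻¹ = w (ρ w ρ⁻¹)` acts on `A` as inversion
    have hw' : ∀ x, InA a1 a2 x → (ρ * w * ρ⁻¹) * x * (ρ * w * ρ⁻¹)⁻¹ = (w * x * w⁻¹)⁻¹ := by
      rintro x ⟨i, j, rfl⟩
      have e1 : (ρ * w * ρ⁻¹) * (a1 ^ i * a2 ^ j) * (ρ * w * ρ⁻¹)⁻¹ =
          (ρ * w * ρ⁻¹ * a1 * (ρ * w * ρ⁻¹)⁻¹) ^ i * (ρ * w * ρ⁻¹ * a2 * (ρ * w * ρ⁻¹)⁻¹) ^ j := by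
        rw [conj_zpow, conj_zpow]; group
      have e2 : w * (a1 ^ i * a2 ^ j) * w⁻¹ = (w * a1 ^ i * w⁻¹) * (w * a2 ^ j * w⁻¹) := by group
      rw [e1, C.w'a1, C.w'a2, e2, C.w_zpow1, C.w_zpow2, _root_.mul_inv_rev, inv_zpow, inv_zpow, ← zpow_neg, ← zpow_neg,
        C.zpow_comm]
    have hwinv : w⁻¹ = w := inv_eq_of_mul_eq_one_right C.ww
    have h1 := hw' _ hy
    have h2 : InA a1 a2 ((ρ * w * ρ⁻¹) * (ρ * y * ρ⁻¹) * (ρ * w * ρ⁻¹)⁻¹) := by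
      have hc := C.ρ_cent w C.wz C.we
      exact C.cent_norm hc.1 hc.2 hy
    have h3 : w * ((ρ * w * ρ⁻¹) * (ρ * y * ρ⁻¹) * (ρ * w * ρ⁻¹)⁻¹) * w⁻¹ = (ρ * y * ρ⁻¹)⁻¹ := by
      rw [h1, hwinv]
      have e1 : w * (w * (ρ * y * ρ⁻¹) * w)⁻¹ * w = (w * w⁻¹) * (ρ * y * ρ⁻¹)⁻¹ * (w⁻¹ * w) := by group
      rw [e1]; group
    calc c * w * y * (c * w)⁻¹ = ρ⁻¹ * ((ρ * c * ρ⁻¹) * ((ρ * w * ρ⁻¹) * (ρ * y * ρ⁻¹) * (ρ * w * ρ⁻¹)⁻¹) *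
          (ρ * c * ρ⁻¹)⁻¹) * ρ := by group
      _ = ρ⁻¹ * (ρ * y * ρ⁻¹)⁻¹ * ρ := by rw [C.w_def, h3]
      _ = y⁻¹ := by group
  · have e1 : ρ * (ρ⁻¹ * x * ρ) * ρ⁻¹ = x := by group
    change InA a1 a2 (ρ * (ρ⁻¹ * x * ρ) * ρ⁻¹)
    rw [e1]; exact hx

/-- elements of order dividing `N` in `C(z)` commuting with `a1`, `a2` -/
theorem decomp {y : G} (hz : y * z = z * y) (hN : y ^ N = 1) (h1 : y * a1 = a1 * y) (h2 : y * a2 = a2 * y) :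
    ∃ i j : ℤ, ∃ d : G, y = a1 ^ i * a2 ^ j * d ∧ (∀ l ∈ L1, d * l = l * d) ∧ (∀ l ∈ L2, d * l = l * d) := by
  have hn := C.odd_norm hz C.S1.odd hN
  obtain ⟨t1, ht1, ht1'⟩ := C.S1.fix_odd y (mem_normalizer_iff_cg.2 hn.1) h1 N C.S1.odd (by
    intro l _; rw [hN, one_mul, mul_one])
  obtain ⟨t2, ht2, ht2'⟩ := C.S2.fix_odd y (mem_normalizer_iff_cg.2 hn.2) h2 N C.S1.odd (by
    intro l _; rw [hN, one_mul, mul_one])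
  obtain ⟨i, rfl⟩ := mem_zpowers_iff.1 ht1
  obtain ⟨j, rfl⟩ := mem_zpowers_iff.1 ht2
  refine ⟨i, j, (a1 ^ i * a2 ^ j)⁻¹ * y, by group, ?_, ?_⟩
  · intro l hl
    have e1 : (a1 ^ i * a2 ^ j)⁻¹ * y * l * ((a1 ^ i * a2 ^ j)⁻¹ * y)⁻¹ = l := by
      have hc : a2 ^ j * l = l * a2 ^ j := (C.comm l hl _ (zpow_mem C.S2.a_mem j)).symm
      calc (a1 ^ i * a2 ^ j)⁻¹ * y * l * ((a1 ^ i * a2 ^ j)⁻¹ * y)⁻¹
          = (a1 ^ i * a2 ^ j)⁻¹ * (y * l * y⁻¹) * (a1 ^ i * a2 ^ j) := by group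
        _ = (a1 ^ i * a2 ^ j)⁻¹ * (a1 ^ i * l * (a1 ^ i)⁻¹) * (a1 ^ i * a2 ^ j) := by rw [ht1' l hl]
        _ = (a2 ^ j)⁻¹ * (l * a2 ^ j) := by group
        _ = l := by rw [← hc]; group
    exact (mul_inv_eq_iff_eq_mul.1 e1)
  · intro l hl
    have e1 : (a1 ^ i * a2 ^ j)⁻¹ * y * l * ((a1 ^ i * a2 ^ j)⁻¹ * y)⁻¹ = l := by
      have hc : a1 ^ i * l = l * a1 ^ i := C.comm _ (zpow_mem C.S1.a_mem i) l hl
      calc (a1 ^ i * a2 ^ j)⁻¹ * y * l * ((a1 ^ i * a2 ^ j)⁻¹ * y)⁻¹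
          = (a2 ^ j * a1 ^ i)⁻¹ * (y * l * y⁻¹) * (a2 ^ j * a1 ^ i) := by rw [C.zpow_comm]; group
        _ = (a2 ^ j * a1 ^ i)⁻¹ * (a2 ^ j * l * (a2 ^ j)⁻¹) * (a2 ^ j * a1 ^ i) := by rw [ht2' l hl]
        _ = (a1 ^ i)⁻¹ * (l * a1 ^ i) := by group
        _ = l := by rw [← hc]; group
    exact (mul_inv_eq_iff_eq_mul.1 e1)

theorem a_cent_d {d : G} (h1 : ∀ l ∈ L1, d * l = l * d) (h2 : ∀ l ∈ L2, d * l = l * d) (i j : ℤ) :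
    d * (a1 ^ i * a2 ^ j) = a1 ^ i * a2 ^ j * d := by
  rw [← mul_assoc, h1 _ (zpow_mem C.S1.a_mem i), mul_assoc, h2 _ (zpow_mem C.S2.a_mem j), mul_assoc]

/-- `c` commutes with `y`: then `y` centralises `L1` and `L2` -/
theorem central_of_comm_c {y : G} (hz : y * z = z * y) (hN : y ^ N = 1) (h1 : y * a1 = a1 * y)
    (h2 : y * a2 = a2 * y) (hc : c * y * c⁻¹ = y) : (∀ l ∈ L1, y * l = l * y) ∧ (∀ l ∈ L2, y * l = l * y) := by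
  obtain ⟨i, j, d, rfl, hd1, hd2⟩ := C.decomp hz hN h1 h2
  have hcd := C.c_cent d hd1 hd2
  have hA : InA a1 a2 (a1 ^ i * a2 ^ j) := ⟨i, j, rfl⟩
  have e1 : c * (a1 ^ i * a2 ^ j * d) * c⁻¹ = (a1 ^ i * a2 ^ j)⁻¹ * d := by
    calc c * (a1 ^ i * a2 ^ j * d) * c⁻¹ = (c * (a1 ^ i * a2 ^ j) * c⁻¹) * (c * d * c⁻¹) := by group
      _ = (a1 ^ i * a2 ^ j)⁻¹ * d := by
          rw [C.inA_c hA, ← hcd]; group
  rw [e1] at hc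
  have e2 : (a1 ^ i * a2 ^ j) * (a1 ^ i * a2 ^ j) = 1 := by
    have h3 := mul_right_cancel hc
    calc (a1 ^ i * a2 ^ j) * (a1 ^ i * a2 ^ j) = (a1 ^ i * a2 ^ j) * (a1 ^ i * a2 ^ j)⁻¹ := by rw [h3]
      _ = 1 := mul_inv_cancel _
  have e3 : a1 ^ i * a2 ^ j = 1 := eq_one_of_sq_of_pow e2 C.S1.odd (C.inA_pow hA)
  rw [e3, one_mul]
  exact ⟨hd1, hd2⟩

/-- (i): `ρ (a1 a2⁻¹) ρ⁻¹` centralises `L1`, `L2` -/
theorem b1_cent : (∀ l ∈ L1, (ρ * (a1 * a2⁻¹) * ρ⁻¹) * l = l * (ρ * (a1 * a2⁻¹) * ρ⁻¹)) ∧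
    (∀ l ∈ L2, (ρ * (a1 * a2⁻¹) * ρ⁻¹) * l = l * (ρ * (a1 * a2⁻¹) * ρ⁻¹)) := by
  have hA : InA a1 a2 (a1 * a2⁻¹) := ⟨1, -1, by simp⟩
  have hcent := C.inA_cent hA
  have hc := C.ρ_cent _ hcent.1 hcent.2
  have h3 := C.claim_ρ hA
  refine C.central_of_comm_c hc.1 (conj_pow_eq N (C.inA_pow hA)) h3.1 h3.2 ?_
  have e1 : ρ⁻¹ * c * ρ * (a1 * a2⁻¹) * (ρ⁻¹ * c * ρ)⁻¹ = a1 * a2⁻¹ := by
    calc ρ⁻¹ * c * ρ * (a1 * a2⁻¹) * (ρ⁻¹ * c * ρ)⁻¹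
        = (ρ⁻¹ * c * ρ * a1 * (ρ⁻¹ * c * ρ)⁻¹) * (ρ⁻¹ * c * ρ * a2 * (ρ⁻¹ * c * ρ)⁻¹)⁻¹ := by group
      _ = a2⁻¹ * a1 := by rw [C.c'a1, C.c'a2, inv_inv]
      _ = a1 * a2⁻¹ := by
          have : Commute a1 a2 := C.a1a2
          exact this.symm.inv_left.eq
  calc c * (ρ * (a1 * a2⁻¹) * ρ⁻¹) * c⁻¹ = ρ * (ρ⁻¹ * c * ρ * (a1 * a2⁻¹) * (ρ⁻¹ * c * ρ)⁻¹) * ρ⁻¹ := by group
    _ = _ := by rw [e1]

/-- (ii): `ρ⁻¹ (a1 a2) ρ` centralises `L1`, `L2` -/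
theorem b2_cent : (∀ l ∈ L1, (ρ⁻¹ * (a1 * a2) * ρ) * l = l * (ρ⁻¹ * (a1 * a2) * ρ)) ∧
    (∀ l ∈ L2, (ρ⁻¹ * (a1 * a2) * ρ) * l = l * (ρ⁻¹ * (a1 * a2) * ρ)) := by
  have hA : InA a1 a2 (a1 * a2) := ⟨1, 1, by simp⟩
  have hcent := C.inA_cent hA
  have hc := C.ρ_cent' _ hcent.1 hcent.2
  have h3 := C.claim_ρ' hA
  refine C.central_of_comm_c hc.1 (conj_pow_eq' N (C.inA_pow hA)) h3.1 h3.2 ?_
  have e1 : w * (a1 * a2) * w⁻¹ = a1 * a2 := by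
    calc w * (a1 * a2) * w⁻¹ = (w * a1 * w⁻¹) * (w * a2 * w⁻¹) := by group
      _ = a1 * a2 := by rw [C.wa1, C.wa2, C.a1a2]
  calc c * (ρ⁻¹ * (a1 * a2) * ρ) * c⁻¹ = ρ⁻¹ * ((ρ * c * ρ⁻¹) * (a1 * a2) * (ρ * c * ρ⁻¹)⁻¹) * ρ := by group
    _ = _ := by rw [C.w_def, e1]

/-- (iii): `ρ⁻¹ (a1 a2⁻¹) ρ` is a power of `a1 a2` -/
theorem b3_rot : ∃ i : ℤ, ρ⁻¹ * (a1 * a2⁻¹) * ρ = a1 ^ i * a2 ^ i := by
  have hA : InA a1 a2 (a1 * a2⁻¹) := ⟨1, -1, by simp⟩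
  have hcent := C.inA_cent hA
  have hc := C.ρ_cent' _ hcent.1 hcent.2
  have h3 := C.claim_ρ' hA
  have hN := conj_pow_eq' (g := ρ) N (C.inA_pow hA)
  obtain ⟨i, j, d, hy, hd1, hd2⟩ := C.decomp hc.1 hN h3.1 h3.2
  have hcd := C.c_cent d hd1 hd2
  have hA' : InA a1 a2 (a1 ^ i * a2 ^ j) := ⟨i, j, rfl⟩
  have hda := C.a_cent_d hd1 hd2 i j
  -- `c` inverts `y`
  have e0 : w * (a1 * a2⁻¹) * w⁻¹ = (a1 * a2⁻¹)⁻¹ := by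
    calc w * (a1 * a2⁻¹) * w⁻¹ = (w * a1 * w⁻¹) * (w * a2 * w⁻¹)⁻¹ := by group
      _ = (a1 * a2⁻¹)⁻¹ := by rw [C.wa1, C.wa2]; group
  have e1 : c * (ρ⁻¹ * (a1 * a2⁻¹) * ρ) * c⁻¹ = (ρ⁻¹ * (a1 * a2⁻¹) * ρ)⁻¹ := by
    calc c * (ρ⁻¹ * (a1 * a2⁻¹) * ρ) * c⁻¹ = ρ⁻¹ * ((ρ * c * ρ⁻¹) * (a1 * a2⁻¹) * (ρ * c * ρ⁻¹)⁻¹) * ρ := by group
      _ = ρ⁻¹ * (a1 * a2⁻¹)⁻¹ * ρ := by rw [C.w_def, e0]
      _ = _ := by group
  rw [hy] at e1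
  have e2 : c * (a1 ^ i * a2 ^ j * d) * c⁻¹ = (a1 ^ i * a2 ^ j)⁻¹ * d := by
    calc c * (a1 ^ i * a2 ^ j * d) * c⁻¹ = (c * (a1 ^ i * a2 ^ j) * c⁻¹) * (c * d * c⁻¹) := by group
      _ = (a1 ^ i * a2 ^ j)⁻¹ * d := by rw [C.inA_c hA', ← hcd]; group
  have e1' : (a1 ^ i * a2 ^ j * d)⁻¹ = (a1 ^ i * a2 ^ j)⁻¹ * d⁻¹ := by rw [← hda, _root_.mul_inv_rev]
  rw [e2, e1'] at e1
  have hdd : d * d = 1 := by
    have h4 := mul_left_cancel e1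
    calc d * d = d * d⁻¹ := by rw [← h4]
      _ = 1 := mul_inv_cancel d
  have hdN : d ^ N = 1 := by
    rw [hy] at hN
    have hcm : Commute (a1 ^ i * a2 ^ j) d := hda.symm
    rw [hcm.mul_pow, C.inA_pow hA', one_mul] at hN
    exact hN
  have hd : d = 1 := eq_one_of_sq_of_pow hdd C.S1.odd hdN
  rw [hd, mul_one] at hy
  -- `w` centralises `y`
  have e3 : w * (ρ⁻¹ * (a1 * a2⁻¹) * ρ) * w⁻¹ = ρ⁻¹ * (a1 * a2⁻¹) * ρ := by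
    have e4 : ρ * w * ρ⁻¹ * (a1 * a2⁻¹) * (ρ * w * ρ⁻¹)⁻¹ = a1 * a2⁻¹ := by
      calc ρ * w * ρ⁻¹ * (a1 * a2⁻¹) * (ρ * w * ρ⁻¹)⁻¹
          = (ρ * w * ρ⁻¹ * a1 * (ρ * w * ρ⁻¹)⁻¹) * (ρ * w * ρ⁻¹ * a2 * (ρ * w * ρ⁻¹)⁻¹)⁻¹ := by group
        _ = a2⁻¹ * a1 := by rw [C.w'a1, C.w'a2, inv_inv]
        _ = a1 * a2⁻¹ := by
            have : Commute a1 a2 := C.a1a2
            exact this.symm.inv_left.eq
    calc w * (ρ⁻¹ * (a1 * a2⁻¹) * ρ) * w⁻¹ = ρ⁻¹ * (ρ * w * ρ⁻¹ * (a1 * a2⁻¹) * (ρ * w * ρ⁻¹)⁻¹) * ρ := by group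
      _ = _ := by rw [e4]
  rw [hy] at e3
  have e5 : w * (a1 ^ i * a2 ^ j) * w⁻¹ = a2 ^ i * a1 ^ j := by
    calc w * (a1 ^ i * a2 ^ j) * w⁻¹ = (w * a1 ^ i * w⁻¹) * (w * a2 ^ j * w⁻¹) := by group
      _ = _ := by rw [C.w_zpow1, C.w_zpow2]
  rw [e5, ← C.zpow_comm] at e3
  have e6 : a1 ^ (j - i) = a2 ^ (j - i) := by
    rw [zpow_sub, zpow_sub]
    calc a1 ^ j * (a1 ^ i)⁻¹ = (a1 ^ i)⁻¹ * (a1 ^ j * a2 ^ i) * (a2 ^ i)⁻¹ := by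
          have : Commute (a1 ^ j) (a1 ^ i) := (Commute.refl a1).zpow_zpow j i
          rw [this.inv_right.eq]; group
      _ = (a1 ^ i)⁻¹ * (a1 ^ i * a2 ^ j) * (a2 ^ i)⁻¹ := by rw [e3]
      _ = _ := by group
  have e7 : a1 ^ (j - i) = 1 := C.eq_one_of_both (by rw [e6]; exact zpow_mem C.S2.a_mem _)
  have e8 : a2 ^ j = a2 ^ i := by
    have := e6.symm.trans e7
    rw [zpow_sub, mul_inv_eq_one] at this
    exact this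
  exact ⟨i, by rw [hy, e8]⟩

end Core

end Cfsg.Agent.LFourR
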