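import Mathlib
import Cfsg.Agent.LFourR.R1b

/-!
The element `x0`; the relation between the actions on `a1` and `a2`; elements of `L2` centralising `ρ L1 ρ⁻¹`.
-/

set_option autoImplicit false

namespace Cfsg.Agent.LFourR

open Subgroup

variable {G : Type*} [Group G]

namespace Core

variable {z e ρ c w a1 a2 : G} {L1 L2 : Subgroup G} {N k : ℕ} (C : Core z e ρ c w a1 a2 L1 L2 N k)
include C

/-- the relation between the actions on `a1` and `a2` -/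
theorem P1 {d : G} (hz : d * z = z * d) (he : d * e = e * d) : d * a2 = a2 * d ↔ d * a1 = a1 * d := by
  have hord : ∀ a : G, orderOf (d * a * d⁻¹) = orderOf a := fun a => MulEquiv.orderOf_eq (MulAut.conj d) a
  have hce : ∀ a : G, a * e = e * a → (d * a * d⁻¹) * e = e * (d * a * d⁻¹) := by
    intro a ha
    have := conj_comm (g := d) ha
    have e1 : d * e * d⁻¹ = e := by rw [he]; group
    rwa [e1] at this
  obtain ⟨i, hi⟩ := C.b3_rot
  -- `d b3 d⁻¹` is inverted by `w`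
  have hinv : w * (d * (a1 * a2⁻¹) * d⁻¹) * w⁻¹ = (d * (a1 * a2⁻¹) * d⁻¹)⁻¹ := by
    have h1 := C.ρ_cent' d hz he
    have h2 : InA a1 a2 ((ρ⁻¹ * d * ρ) * (a1 ^ i * a2 ^ i) * (ρ⁻¹ * d * ρ)⁻¹) := C.cent_norm h1.1 h1.2 ⟨i, i, rfl⟩
    have e1 : d * (a1 * a2⁻¹) * d⁻¹ = ρ * ((ρ⁻¹ * d * ρ) * (a1 ^ i * a2 ^ i) * (ρ⁻¹ * d * ρ)⁻¹) * ρ⁻¹ := by
      rw [← hi]; group
    rw [e1]
    set y := (ρ⁻¹ * d * ρ) * (a1 ^ i * a2 ^ i) * (ρ⁻¹ * d * ρ)⁻¹ with hy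
    calc w * (ρ * y * ρ⁻¹) * w⁻¹ = ρ * (c * y * c⁻¹) * ρ⁻¹ := by rw [← C.w_def]; group
      _ = (ρ * y * ρ⁻¹)⁻¹ := by rw [C.inA_c h2]; group
  have hone : ∀ j : ℤ, a1 ^ j = 1 → a2 ^ j = 1 := fun j h => C.a1_iff.1 h
  have hsplit : d * (a1 * a2⁻¹) * d⁻¹ = (d * a1 * d⁻¹) * (d * a2 * d⁻¹)⁻¹ := by group
  have hnotN : a1 ≠ 1 := by
    intro h
    have h3 := C.S1.ord
    rw [h, orderOf_one] at h3
    have := C.S1.one_lt
    omega
  have hnotN2 : a2 ≠ 1 := by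
    intro h
    have h3 := C.S2.ord
    rw [h, orderOf_one] at h3
    have := C.S1.one_lt
    omega
  constructor
  · intro h
    have h2 : d * a2 * d⁻¹ = a2 := by rw [h]; group
    have hnorm : cg d L1 = L1 := by
      rcases C.perm d hz with h' | h'
      · exact h'.1
      · exfalso
        have h3 : d * a2 * d⁻¹ ∈ L1 := by rw [← h'.2]; exact conj_mem_cg C.S2.a_mem
        rw [h2] at h3
        have := C.eq_one_of_both2 (i := 1) (by rwa [zpow_one])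
        rw [zpow_one] at this
        exact hnotN2 this
    have h1 : d * a1 * d⁻¹ ∈ zpowers a1 := C.S1.odd_mem _ (by rw [← hnorm]; exact conj_mem_cg C.S1.a_mem)
        (hce a1 C.S1.a_e) (by rw [hord, C.S1.ord]; exact C.S1.odd)
    obtain ⟨j, hj⟩ := mem_zpowers_iff.1 h1
    rw [hsplit, ← hj, h2] at hinv
    -- `w (a1^j a2⁻¹) w⁻¹ = a2^j a1⁻¹ = a2 a1^-j`
    have e1 : w * (a1 ^ j * a2⁻¹) * w⁻¹ = a2 ^ j * a1⁻¹ := by
      calc w * (a1 ^ j * a2⁻¹) * w⁻¹ = (w * a1 ^ j * w⁻¹) * (w * a2 * w⁻¹)⁻¹ := by group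
        _ = _ := by rw [C.w_zpow1, C.wa2]
    have hinv' : a2 ^ j * a1⁻¹ = a2 * a1 ^ (-j) := by
      rw [← e1, hinv, _root_.mul_inv_rev, inv_inv, zpow_neg]
    have e2 : a2 ^ (j - 1) = a1 ^ (1 - j) := by
      have hc : Commute a1 a2 := C.a1a2
      calc a2 ^ (j - 1) = a2⁻¹ * (a2 ^ j * a1⁻¹) * a1 := by
            rw [zpow_sub_one]
            have : Commute (a2 ^ j) a2⁻¹ := (Commute.refl a2).zpow_left j |>.inv_right
            rw [this.eq]; group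
        _ = a2⁻¹ * (a2 * a1 ^ (-j)) * a1 := by rw [hinv']
        _ = a1 ^ (1 - j) := by
            have : (1 - j) = -j + 1 := by ring
            rw [this, zpow_add, zpow_one]; group
    have e3 : a2 ^ (j - 1) = 1 := C.eq_one_of_both2 (by rw [e2]; exact zpow_mem C.S1.a_mem _)
    have e4 : a1 ^ (j - 1) = 1 := C.a1_iff.2 e3
    have e5 : a1 ^ j = a1 := by
      rw [zpow_sub_one, mul_inv_eq_one] at e4
      exact e4
    rw [e5] at hj
    exact (mul_inv_eq_iff_eq_mul.1 hj.symm)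
  · intro h
    have h2 : d * a1 * d⁻¹ = a1 := by rw [h]; group
    have hnorm : cg d L2 = L2 := by
      rcases C.perm d hz with h' | h'
      · exact h'.2
      · exfalso
        have h3 : d * a1 * d⁻¹ ∈ L2 := by rw [← h'.1]; exact conj_mem_cg C.S1.a_mem
        rw [h2] at h3
        have := C.eq_one_of_both (i := 1) (by rwa [zpow_one])
        rw [zpow_one] at this
        exact hnotN this
    have h1 : d * a2 * d⁻¹ ∈ zpowers a2 := C.S2.odd_mem _ (by rw [← hnorm]; exact conj_mem_cg C.S2.a_mem)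
        (hce a2 C.S2.a_e) (by rw [hord, C.S2.ord]; exact C.S1.odd)
    obtain ⟨j, hj⟩ := mem_zpowers_iff.1 h1
    rw [hsplit, ← hj, h2] at hinv
    have e1 : w * (a1 * (a2 ^ j)⁻¹) * w⁻¹ = a2 * (a1 ^ j)⁻¹ := by
      calc w * (a1 * (a2 ^ j)⁻¹) * w⁻¹ = (w * a1 * w⁻¹) * (w * a2 ^ j * w⁻¹)⁻¹ := by group
        _ = _ := by rw [C.w_zpow2, C.wa1]
    have hinv' : a2 * (a1 ^ j)⁻¹ = a2 ^ j * a1⁻¹ := by
      rw [← e1, hinv, _root_.mul_inv_rev, inv_inv]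
    have e2 : a2 ^ (1 - j) = a1 ^ (j - 1) := by
      calc a2 ^ (1 - j) = (a2 ^ j)⁻¹ * (a2 * (a1 ^ j)⁻¹) * a1 ^ j := by
            have : Commute a2 ((a2 ^ j)⁻¹) := ((Commute.refl a2).zpow_right j).inv_right
            have h3 : (1 - j) = 1 + -j := by ring
            rw [h3, zpow_add, zpow_one, zpow_neg, this.eq]; group
        _ = (a2 ^ j)⁻¹ * (a2 ^ j * a1⁻¹) * a1 ^ j := by rw [hinv']
        _ = a1 ^ (j - 1) := by
            have : (j - 1) = -1 + j := by ring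
            rw [this, zpow_add]; group
    have e3 : a2 ^ (1 - j) = 1 := C.eq_one_of_both2 (by rw [e2]; exact zpow_mem C.S1.a_mem _)
    have e5 : a2 ^ j = a2 := by
      have h3 : (1 - j) = 1 + -j := by ring
      rw [h3, zpow_add, zpow_one, zpow_neg, mul_inv_eq_one] at e3
      exact e3.symm
    rw [e5] at hj
    exact (mul_inv_eq_iff_eq_mul.1 hj.symm)

/-- the element `x0` -/
theorem exists_x0 : ∃ x0 : G, (∀ l ∈ L1, x0 * l = l * x0) ∧ (∀ l ∈ cg ρ L1, x0 * l = l * x0) ∧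
    (∀ l ∈ L2, x0 * l * x0⁻¹ = (a2 ^ (-2 : ℤ)) * l * (a2 ^ (-2 : ℤ))⁻¹) ∧ x0 ^ N = 1 ∧
    (¬ ∀ l ∈ cg ρ L2, x0 * l = l * x0) ∧
    (∀ f : G, f * a1 = a1 * f → f * a2 = a2 * f → (ρ⁻¹ * f * ρ) * a1 = a1 * (ρ⁻¹ * f * ρ) →
      (ρ⁻¹ * f * ρ) * a2 = a2 * (ρ⁻¹ * f * ρ) → f * x0 = x0 * f) := by
  obtain ⟨i, hi⟩ := C.b3_rot
  have hb1 := C.b1_cent
  have hb2 := C.b2_cent
  set b1 := ρ * (a1 * a2⁻¹) * ρ⁻¹ with hb1d
  set y' := ρ⁻¹ * (a1 * a2) * ρ with hy'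
  have hc : Commute a1 a2 := C.a1a2
  have hpow1 : ∀ (j : ℤ), (∀ l ∈ L1, b1 ^ j * l = l * b1 ^ j) ∧ (∀ l ∈ L2, b1 ^ j * l = l * b1 ^ j) := by
    intro j
    exact ⟨fun l hl => ((show Commute b1 l from hb1.1 l hl).zpow_left j).eq,
      fun l hl => ((show Commute b1 l from hb1.2 l hl).zpow_left j).eq⟩
  -- `ρ⁻¹ x0 ρ = a2 ^ (2 i) * y'⁻¹`
  have hkey : ρ⁻¹ * (b1 ^ (-i) * a2 ^ (-2 : ℤ)) * ρ = a2 ^ (2 * i) * y'⁻¹ := by
    have e1 : ρ⁻¹ * b1 ^ (-i) * ρ = (a1 * a2⁻¹) ^ (-i) := by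
      have : ρ⁻¹ * b1 * ρ = a1 * a2⁻¹ := by rw [hb1d]; group
      rw [← this]
      have := conj_zpow (i := -i) (a := ρ⁻¹) (b := b1)
      rw [inv_inv] at this
      exact this.symm
    have e2 : a2 ^ (-2 : ℤ) = (a1 * a2)⁻¹ * (a1 * a2⁻¹) := by
      rw [_root_.mul_inv_rev]
      calc a2 ^ (-2 : ℤ) = a2⁻¹ * a2⁻¹ := by rw [← zpow_neg_one, ← zpow_add]; norm_num
        _ = a2⁻¹ * a1⁻¹ * (a1 * a2⁻¹) := by group
    have e3 : ρ⁻¹ * a2 ^ (-2 : ℤ) * ρ = y'⁻¹ * (a1 ^ i * a2 ^ i) := by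
      rw [e2, ← hi, hy']; group
    have e4 : (a1 * a2⁻¹) ^ (-i) = a1 ^ (-i) * a2 ^ i := by
      rw [hc.inv_right.mul_zpow, inv_zpow, ← zpow_neg, neg_neg]
    have e5 : y'⁻¹ * (a1 ^ i * a2 ^ i) = a1 ^ i * a2 ^ i * y'⁻¹ := by
      have h1 := C.a_cent_d hb2.1 hb2.2 i i
      have : Commute y' (a1 ^ i * a2 ^ i) := h1
      exact this.inv_left.eq
    calc ρ⁻¹ * (b1 ^ (-i) * a2 ^ (-2 : ℤ)) * ρ = (ρ⁻¹ * b1 ^ (-i) * ρ) * (ρ⁻¹ * a2 ^ (-2 : ℤ) * ρ) := by group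
      _ = a1 ^ (-i) * a2 ^ i * (a1 ^ i * a2 ^ i * y'⁻¹) := by rw [e1, e3, e4, e5]
      _ = a1 ^ (-i) * (a2 ^ i * a1 ^ i) * a2 ^ i * y'⁻¹ := by group
      _ = a1 ^ (-i) * (a1 ^ i * a2 ^ i) * a2 ^ i * y'⁻¹ := by rw [C.zpow_comm]
      _ = a2 ^ (2 * i) * y'⁻¹ := by rw [two_mul, zpow_add]; group
  refine ⟨b1 ^ (-i) * a2 ^ (-2 : ℤ), ?_, ?_, ?_, ?_, ?_, ?_⟩
  · intro l hl
    have h1 : Commute (b1 ^ (-i)) l := (hpow1 (-i)).1 l hl
    have h2 : Commute (a2 ^ (-2 : ℤ)) l := (C.comm l hl _ (zpow_mem C.S2.a_mem _)).symm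
    exact (h1.mul_left h2).eq
  · intro l hl
    rw [mem_cg] at hl
    have h1 : Commute (a2 ^ (2 * i)) (ρ⁻¹ * l * ρ) := (C.comm _ hl _ (zpow_mem C.S2.a_mem _)).symm
    have h2 : Commute y' (ρ⁻¹ * l * ρ) := hb2.1 _ hl
    have h3 : Commute (a2 ^ (2 * i) * y'⁻¹) (ρ⁻¹ * l * ρ) := h1.mul_left h2.inv_left
    rw [← hkey] at h3
    have h4 := conj_comm (g := ρ) h3.eq
    have e1 : ∀ x, ρ * (ρ⁻¹ * x * ρ) * ρ⁻¹ = x := by intro x; group
    rwa [e1, e1] at h4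
  · intro l hl
    have hm : a2 ^ (-2 : ℤ) * l * (a2 ^ (-2 : ℤ))⁻¹ ∈ L2 :=
      mul_mem (mul_mem (zpow_mem C.S2.a_mem _) hl) (inv_mem (zpow_mem C.S2.a_mem _))
    have h1 := (hpow1 (-i)).2 _ hm
    calc b1 ^ (-i) * a2 ^ (-2 : ℤ) * l * (b1 ^ (-i) * a2 ^ (-2 : ℤ))⁻¹
        = b1 ^ (-i) * (a2 ^ (-2 : ℤ) * l * (a2 ^ (-2 : ℤ))⁻¹) * (b1 ^ (-i))⁻¹ := by group
      _ = _ := by rw [h1]; group
  · have h1 : b1 ^ N = 1 := conj_pow_eq N (C.inA_pow ⟨1, -1, by simp⟩)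
    have h2 : Commute (b1 ^ (-i)) (a2 ^ (-2 : ℤ)) := (hpow1 (-i)).2 _ (zpow_mem C.S2.a_mem _)
    rw [h2.mul_pow, ← zpow_natCast, ← zpow_natCast, ← zpow_mul, ← zpow_mul, mul_comm (-i), mul_comm (-2 : ℤ), zpow_mul,
      zpow_mul, zpow_natCast, zpow_natCast, h1, C.a2_pow, one_zpow, one_zpow, one_mul]
  · intro hall
    -- then `a2 ^ (2 i)` centralises `L2`
    have h1 : ∀ l ∈ L2, a2 ^ (2 * i) * l = l * a2 ^ (2 * i) := by
      intro l hl
      have h2 := hall (ρ * l * ρ⁻¹) (conj_mem_cg hl)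
      have h3 := conj_comm' (g := ρ) h2
      have e1 : ρ⁻¹ * (ρ * l * ρ⁻¹) * ρ = l := by group
      rw [e1, hkey] at h3
      have h4 : Commute y' l := hb2.2 l hl
      have h5 : Commute (a2 ^ (2 * i) * y'⁻¹) l := h3
      have h6 := h5.mul_left h4
      rw [inv_mul_cancel_right] at h6
      exact h6.eq
    rcases C.S2.center _ (zpow_mem C.S2.a_mem _) h1 with h2 | h2
    · -- `a2 ^ (2 i) = 1`
      have h3 : a2 ^ i = 1 := by
        apply eq_one_of_sq_of_pow (m := N) _ C.S1.odd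
        · rw [← zpow_natCast, ← zpow_mul, mul_comm, zpow_mul, zpow_natCast, C.a2_pow, one_zpow]
        · rw [← zpow_add, ← two_mul]; exact h2
      have h4 : a1 ^ i = 1 := C.a1_iff.2 h3
      rw [h3, h4, mul_one] at hi
      have h5 : a1 * a2⁻¹ = 1 := by
        have : ρ * (ρ⁻¹ * (a1 * a2⁻¹) * ρ) * ρ⁻¹ = a1 * a2⁻¹ := by group
        rw [← this, hi]; group
      have h6 : a1 = a2 := by rwa [mul_inv_eq_one] at h5
      have h7 := C.eq_one_of_both (i := 1) (by rw [zpow_one, h6]; exact C.S2.a_mem)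
      rw [zpow_one] at h7
      have h8 := C.S1.ord
      rw [h7, orderOf_one] at h8
      have := C.S1.one_lt
      omega
    · -- odd order
      have h3 : z = 1 := by
        apply eq_one_of_sq_of_pow C.zz C.S1.odd
        rw [← h2, ← zpow_natCast, ← zpow_mul, mul_comm, zpow_mul, zpow_natCast, C.a2_pow, one_zpow]
      exact C.S1.z_ne h3
  · intro f hf1 hf2 hf3 hf4
    have h1 : Commute f (a2 ^ (-2 : ℤ)) := (show Commute f a2 from hf2).zpow_right _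
    have h2 : Commute (ρ⁻¹ * f * ρ) (a1 * a2⁻¹) :=
      (show Commute (ρ⁻¹ * f * ρ) a1 from hf3).mul_right (show Commute (ρ⁻¹ * f * ρ) a2 from hf4).inv_right
    have h3 := conj_comm (g := ρ) h2.eq
    have e1 : ρ * (ρ⁻¹ * f * ρ) * ρ⁻¹ = f := by group
    rw [e1] at h3
    have h4 : Commute f b1 := h3
    exact ((h4.zpow_right (-i)).mul_right h1).eq

/-- elements of `L2` centralising `ρ L1 ρ⁻¹` -/
theorem T2X (hρz : ρ * z * ρ⁻¹ = e) (hρze : ρ * (z * e) * ρ⁻¹ = z) {t : G} (ht : t ∈ L2)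
    (htc : ∀ l ∈ cg ρ L1, t * l = l * t) : t = 1 := by
  have he : t * e = e * t := htc e (by rw [← hρz]; exact conj_mem_cg C.S1.z_mem)
  -- `z` is not a power of `t`
  have hz : ∀ m : ℕ, t ^ m ≠ z := by
    intro m hm
    have h1 : ∀ l ∈ cg ρ L1, z * l = l * z := by
      intro l hl
      rw [← hm]
      exact ((show Commute t l from htc l hl).pow_left m).eq
    have h2 : ρ⁻¹ * z * ρ = z * e := by
      conv_lhs => rw [← hρze]
      group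
    apply C.S1.not_comm
    intro l hl
    have h3 := conj_comm' (g := ρ) (h1 _ (conj_mem_cg hl))
    have e1 : ρ⁻¹ * (ρ * l * ρ⁻¹) * ρ = l := by group
    rw [e1, h2] at h3
    have h4 : z * (e * l) = z * (l * e) := by
      rw [← mul_assoc, h3, ← mul_assoc, ← mul_assoc, C.S1.z_comm l hl]
    exact mul_left_cancel h4
  -- the order of `t` is odd
  have hfin : 0 < orderOf t := by
    have hmem : t ∈ (L2 ⊓ centralizer {e} : Subgroup G) := mem_inf.2 ⟨ht, mem_centralizer_singleton_iff.2 he⟩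
    have h1 : t ^ (N * 2 ^ k) = 1 := by
      have := pow_card_eq_one' (x := (⟨t, hmem⟩ : (L2 ⊓ centralizer {e} : Subgroup G)))
      rw [C.S2.T_card] at this
      exact congrArg Subtype.val this
    have h2 := C.S1.one_lt
    exact orderOf_pos_iff.2 (isOfFinOrder_iff_pow_eq_one.2 ⟨N * 2 ^ k, by positivity, h1⟩)
  have hodd : Odd (orderOf t) := by
    by_contra hev
    rw [Nat.not_odd_iff_even] at hev
    obtain ⟨m, hm⟩ := hev
    have h1 : t ^ m * t ^ m = 1 := by rw [← pow_add, ← hm, pow_orderOf_eq_one]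
    rcases C.S2.invol _ (pow_mem ht m) h1 with h2 | h2
    · have h3 := orderOf_dvd_of_pow_eq_one h2
      have h4 := Nat.le_of_dvd (by omega) h3
      omega
    · exact hz m h2
  obtain ⟨m, rfl⟩ := mem_zpowers_iff.1 (C.S2.odd_mem t ht he hodd)
  -- write `m = 2 m'` modulo `N`
  obtain ⟨r, hr⟩ := C.S1.odd
  have hm2 : a2 ^ m = a2 ^ (2 * (m * (r + 1))) := by
    have : 2 * (m * ((r : ℤ) + 1)) = m + m * N := by rw [hr]; push_cast; ring
    rw [this, zpow_add, mul_comm m, zpow_mul, zpow_natCast, C.a2_pow, one_zpow, mul_one]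
  set m' := m * ((r : ℤ) + 1) with hm'
  obtain ⟨i, hi⟩ := C.b3_rot
  have hb2 := C.b2_cent
  set y' := ρ⁻¹ * (a1 * a2) * ρ with hy'
  have hc : Commute a1 a2 := C.a1a2
  have e2 : a2 ^ (2 : ℤ) = (a1 * a2) * (a1 * a2⁻¹)⁻¹ := by
    rw [_root_.mul_inv_rev, inv_inv]
    calc a2 ^ (2 : ℤ) = a2 * a2 := zpow_two a2
      _ = a1 * a2 * a2 * a1⁻¹ := by
          have : Commute a1 (a2 * a2) := hc.mul_right hc
          rw [mul_assoc a1, this.eq, mul_assoc, mul_inv_cancel, mul_one]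
      _ = a1 * a2 * (a2 * a1⁻¹) := by group
  have hcomm0 : Commute (a1 * a2) (a1 * a2⁻¹) := C.inA_comm (⟨1, 1, by simp⟩ : InA a1 a2 (a1 * a2)) ⟨1, -1, by simp⟩
  -- `ρ⁻¹ a2^(2m') ρ = y' ^ m' * (a1^i a2^i)^(-m')`
  have e3 : ρ⁻¹ * a2 ^ (2 * m') * ρ = y' ^ m' * (a1 ^ i * a2 ^ i) ^ (-m') := by
    rw [zpow_mul, e2, hcomm0.inv_right.mul_zpow, inv_zpow, ← hi, hy']
    have h1 : ∀ x : G, ∀ j : ℤ, ρ⁻¹ * x ^ j * ρ = (ρ⁻¹ * x * ρ) ^ j := by
      intro x j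
      have := conj_zpow (i := j) (a := ρ⁻¹) (b := x)
      rw [inv_inv] at this
      exact this.symm
    rw [← h1, ← h1, zpow_neg]; group
  -- `(a1^i a2^i)^m'` centralises `L1`
  have h4 : ∀ l ∈ L1, a1 ^ (i * m') * l = l * a1 ^ (i * m') := by
    intro l hl
    have h5 := htc (ρ * l * ρ⁻¹) (conj_mem_cg hl)
    rw [hm2] at h5
    have h6 := conj_comm' (g := ρ) h5
    have e1 : ρ⁻¹ * (ρ * l * ρ⁻¹) * ρ = l := by group
    rw [e1, e3] at h6
    have h7 : Commute (y' ^ m') l := (show Commute y' l from hb2.1 l hl).zpow_left m'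
    have h8 : Commute (y' ^ m' * (a1 ^ i * a2 ^ i) ^ (-m')) l := h6
    have h9 : Commute ((a1 ^ i * a2 ^ i) ^ (-m')) l := by
      have := h7.inv_left.mul_left h8
      rwa [inv_mul_cancel_left] at this
    have hci : Commute (a1 ^ i) (a2 ^ i) := C.zpow_comm i i
    have h10 : (a1 ^ i * a2 ^ i) ^ (-m') = (a1 ^ (i * m'))⁻¹ * (a2 ^ (i * m'))⁻¹ := by
      rw [hci.mul_zpow, ← zpow_mul, ← zpow_mul, mul_neg, zpow_neg, zpow_neg]
    rw [h10] at h9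
    have h11 : Commute (a2 ^ (i * m')) l := (C.comm l hl _ (zpow_mem C.S2.a_mem _)).symm
    have h12 := h9.mul_left h11
    rw [inv_mul_cancel_right] at h12
    have h13 := h12.inv_left
    rw [inv_inv] at h13
    exact h13.eq
  have h5 : a1 ^ (i * m') = 1 := by
    rcases C.S1.center _ (zpow_mem C.S1.a_mem _) h4 with h | h
    · exact h
    · exfalso
      have h3 : z = 1 := by
        apply eq_one_of_sq_of_pow C.zz C.S1.odd
        rw [← h, ← zpow_natCast, ← zpow_mul, mul_comm, zpow_mul, zpow_natCast, C.a1_pow, one_zpow]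
      exact C.S1.z_ne h3
  have h6 : a2 ^ (i * m') = 1 := C.a1_iff.1 h5
  -- then `(a1 a2⁻¹) ^ m' = 1`
  have h7 : (a1 * a2⁻¹) ^ m' = 1 := by
    have h8 : (ρ⁻¹ * (a1 * a2⁻¹) * ρ) ^ m' = 1 := by
      have hci : Commute (a1 ^ i) (a2 ^ i) := C.zpow_comm i i
      rw [hi, hci.mul_zpow, ← zpow_mul, ← zpow_mul, h5, h6, mul_one]
    have h9 : ρ * (ρ⁻¹ * (a1 * a2⁻¹) * ρ) ^ m' * ρ⁻¹ = (a1 * a2⁻¹) ^ m' := by
      rw [← conj_zpow]; congr 1; group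
    rw [← h9, h8]; group
  have h8 : a1 ^ m' = a2 ^ m' := by
    rw [hc.inv_right.mul_zpow, inv_zpow, mul_inv_eq_one] at h7
    exact h7
  have h9 : a1 ^ m' = 1 := C.eq_one_of_both (by rw [h8]; exact zpow_mem C.S2.a_mem _)
  rw [hm2, mul_comm, zpow_mul, ← h8, h9, one_zpow]

end Core

end Cfsg.Agent.LFourR
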