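import Mathlib
import Cfsg.Agent.LFourR.R1c

/-!
From the input to the local configuration: the element `g` of order three on `V`, the element `x0`, the swaps.
-/

set_option autoImplicit false

namespace Cfsg.Agent.LFourR

open Subgroup

/-- the local configuration -/
structure Loc (F : Type*) [Field F] [Fintype F] {G : Type*} [Group G] (ε : ℤ) (N k : ℕ) (z e g x0 a1 a2 : G)
    (L1 L2 : Subgroup G) : Prop where
  nums : Nums F ε N k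
  S1 : Side z e a1 L1 N k
  S2 : Side z e a2 L2 N k
  iso1 : Nonempty (L1 ≃* Matrix.SpecialLinearGroup (Fin 2) F)
  ee : e * e = 1
  ze : z * e = e * z
  e_ne_z : e ≠ z
  comm : ∀ x ∈ L1, ∀ y ∈ L2, x * y = y * x
  perm : ∀ c : G, c * z = z * c → (cg c L1 = L1 ∧ cg c L2 = L2) ∨ (cg c L1 = L2 ∧ cg c L2 = L1)
  g_z : g * z * g⁻¹ = e
  g_e : g * e * g⁻¹ = z * e
  g_mem : g ∈ L1 ⊔ cg g L1
  x0_1 : ∀ l ∈ L1, x0 * l = l * x0
  x0_g : x0 * g = g * x0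
  x0_2 : ∀ l ∈ L2, x0 * l * x0⁻¹ = a2 ^ (-2 : ℤ) * l * (a2 ^ (-2 : ℤ))⁻¹
  x0_pow : x0 ^ N = 1
  P1 : ∀ d : G, d * z = z * d → d * e = e * d → (d * a2 = a2 * d ↔ d * a1 = a1 * d)
  T2X : ∀ t ∈ L2, (∀ l ∈ cg g L1, t * l = l * t) → t = 1
  Z : ∀ x : G, (∀ l ∈ L1, x * l = l * x) → (∀ l ∈ L2, x * l = l * x) → x * e = e * x ∧ (x * x = 1 → x = 1 ∨ x = z)
  two : ∀ x : G, (∀ l ∈ L1, x * l = l * x) → (∃ m : ℕ, x ^ 2 ^ m = 1) → x ∈ L2
  f : k = 1 ∨ (k = 2 ∧ ∃ f : G, f * f = e ∧ f * z = z * f ∧ f * a1 = a1 * f ∧ f * a2 = a2 * f ∧ f * x0 = x0 * f)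
  gen : ∀ x : G, (∀ l ∈ L1, x * l = l * x) → (∀ l ∈ L2, x * l = l * x) → (∀ l ∈ cg g L1, x * l = l * x) → x = 1

variable {F : Type*} [Field F] [Fintype F] {G : Type*} [Group G]
variable {ε : ℤ} {N k : ℕ} {z e ρ n1 n2 : G} {L1 L2 U : Subgroup G}

namespace Inp

variable (H : Inp F ε N k z e ρ n1 n2 L1 L2 U)
include H

theorem U_norm {u : G} (hu : u ∈ U) : cg u L1 = L1 ∧ cg u L2 = L2 := by
  obtain ⟨a1, S⟩ := H.exists_side1
  rcases H.perm u (H.U_z u hu) with h | h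
  · exact h
  · exfalso
    -- `u` centralises `a1`
    have h1 : u * a1 = a1 * u := H.U_T1 u hu a1 S.a_mem S.a_e
    have h2 : u * a1 * u⁻¹ ∈ L2 := by rw [← h.1]; exact conj_mem_cg S.a_mem
    rw [h1, mul_inv_cancel_right] at h2
    rcases H.mem_both S.a_mem h2 with h3 | h3
    · have := S.ord
      rw [h3, orderOf_one] at this
      have := S.one_lt
      omega
    · have h4 : a1 = 1 := eq_one_of_sq_of_pow (m := N) (by rw [h3, H.zz]) S.odd (by rw [← S.ord, pow_orderOf_eq_one])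
      have := S.ord
      rw [h4, orderOf_one] at this
      have := S.one_lt
      omega

/-- the data for the torus argument -/
theorem core {a1 : G} (S : Side z e a1 L1 N k) :
    Core z e ρ (n1 * n2) (ρ * (n1 * n2) * ρ⁻¹) a1 (ρ * (n1 * n2) * ρ⁻¹ * a1 * (ρ * (n1 * n2) * ρ⁻¹)⁻¹) L1 L2 N k := by
  set c := n1 * n2 with hc
  set w := ρ * c * ρ⁻¹ with hw
  set a2 := w * a1 * w⁻¹ with ha2
  have S2 : Side z e a2 L2 N k := H.exists_side2 S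
  have hww : w * w = 1 := H.w_sq
  have hwinv : w⁻¹ = w := inv_eq_of_mul_eq_one_right hww
  have hcc : c * c = 1 := H.c_sq
  have hcinv : c⁻¹ = c := inv_eq_of_mul_eq_one_right hcc
  have hwa2 : w * a2 * w⁻¹ = a1 := by
    rw [ha2, hwinv]
    calc w * (w * a1 * w) * w = (w * w) * a1 * (w * w) := by group
      _ = a1 := by rw [hww, one_mul, mul_one]
  have hca1 : c * a1 * c⁻¹ = a1⁻¹ := by
    calc c * a1 * c⁻¹ = n1 * (n2 * a1 * n2⁻¹) * n1⁻¹ := by rw [hc]; group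
      _ = n1 * a1 * n1⁻¹ := by rw [← H.comm a1 S.a_mem n2 H.n2_mem]; group
      _ = a1⁻¹ := H.n1_inv a1 S.a_mem S.a_e
  have hca2 : c * a2 * c⁻¹ = a2⁻¹ := by
    have h1 : n2 * a2 * n2⁻¹ = a2⁻¹ := H.n2_inv a2 S2.a_mem S2.a_e
    calc c * a2 * c⁻¹ = n1 * (n2 * a2 * n2⁻¹) * n1⁻¹ := by rw [hc]; group
      _ = n1 * a2⁻¹ * n1⁻¹ := by rw [h1]
      _ = a2⁻¹ := by rw [H.comm n1 H.n1_mem _ (inv_mem S2.a_mem)]; group
  -- elements of `U` centralise `a1`, `a2`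
  have hU1 : ∀ u ∈ U, u * a1 * u⁻¹ = a1 := fun u hu => by
    rw [H.U_T1 u hu a1 S.a_mem S.a_e, mul_inv_cancel_right]
  have hU2 : ∀ u ∈ U, u * a2 * u⁻¹ = a2 := fun u hu => by
    rw [H.U_T2 u hu a2 S2.a_mem S2.a_e, mul_inv_cancel_right]
  have hcw1 : (c * w) * a1 * (c * w)⁻¹ = a2⁻¹ := by
    calc (c * w) * a1 * (c * w)⁻¹ = c * (w * a1 * w⁻¹) * c⁻¹ := by group
      _ = a2⁻¹ := hca2
  have hcw2 : (c * w) * a2 * (c * w)⁻¹ = a1⁻¹ := by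
    calc (c * w) * a2 * (c * w)⁻¹ = c * (w * a2 * w⁻¹) * c⁻¹ := by group
      _ = a1⁻¹ := by rw [hwa2, hca1]
  have key : ∀ v : G, v * (c * w)⁻¹ ∈ U → v * a1 * v⁻¹ = a2⁻¹ ∧ v * a2 * v⁻¹ = a1⁻¹ := by
    intro v hv
    have e1 : v = (v * (c * w)⁻¹) * (c * w) := by group
    constructor
    · rw [e1]
      calc (v * (c * w)⁻¹) * (c * w) * a1 * ((v * (c * w)⁻¹) * (c * w))⁻¹
          = (v * (c * w)⁻¹) * ((c * w) * a1 * (c * w)⁻¹) * (v * (c * w)⁻¹)⁻¹ := by group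
        _ = ((v * (c * w)⁻¹) * a2 * (v * (c * w)⁻¹)⁻¹)⁻¹ := by rw [hcw1]; group
        _ = a2⁻¹ := by rw [hU2 _ hv]
    · rw [e1]
      calc (v * (c * w)⁻¹) * (c * w) * a2 * ((v * (c * w)⁻¹) * (c * w))⁻¹
          = (v * (c * w)⁻¹) * ((c * w) * a2 * (c * w)⁻¹) * (v * (c * w)⁻¹)⁻¹ := by group
        _ = ((v * (c * w)⁻¹) * a1 * (v * (c * w)⁻¹)⁻¹)⁻¹ := by rw [hcw2]; group
        _ = a1⁻¹ := by rw [hU1 _ hv]
  have hc' := key _ H.c_rot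
  have hw' := key _ H.w_rot
  exact
    { S1 := S
      S2 := S2
      zz := H.zz
      ee := H.ee
      ze := H.ze
      comm := H.comm
      perm := H.perm
      cz := H.c_z
      ce := H.c_e
      wz := H.w_z
      we := H.w_e
      ww := hww
      w_def := rfl
      c_cent := by
        intro d h1 h2
        rw [hc, ← mul_assoc, h1 n1 H.n1_mem, mul_assoc, h2 n2 H.n2_mem, mul_assoc]
      ca1 := hca1
      ca2 := hca2
      wa1 := rfl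
      wa2 := hwa2
      c'a1 := hc'.1
      c'a2 := hc'.2
      w'a1 := hw'.1
      w'a2 := hw'.2
      swap := H.swap
      swap2 := H.swap2
      ne := H.L1_ne_L2
      ρ_cent := fun x h1 h2 => H.ρ_cent h1 h2
      ρ_cent' := fun x h1 h2 => H.ρ_cent' h1 h2 }

omit [Fintype F] [Field F] H in
theorem cent_cg {x y : G} {L : Subgroup G} (h : x * y = y * x) (hL : ∀ l ∈ L, x * l = l * x) :
    ∀ l ∈ cg y L, x * l = l * x := by
  intro l hl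
  rw [mem_cg] at hl
  have h1 : Commute x (y⁻¹ * l * y) := hL _ hl
  have h2 : Commute x y := h
  have h3 : Commute x (y * (y⁻¹ * l * y) * y⁻¹) := (h2.mul_right h1).mul_right h2.inv_right
  have e : y * (y⁻¹ * l * y) * y⁻¹ = l := by group
  rw [e] at h3
  exact h3.eq

theorem n1z : n1 * z = z * n1 := by
  obtain ⟨a1, S⟩ := H.exists_side1
  exact (S.z_comm n1 H.n1_mem).symm

theorem n1_conj_e : n1 * e * n1⁻¹ = z * e := by
  have h1 : e * n1 = n1 * z * e := by rw [← H.n1_e]; group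
  have h2 : n1 * (z * e) = e * n1 := by rw [← mul_assoc]; exact h1.symm
  have h3 : n1 * (z * e) * n1⁻¹ = e := by rw [h2, mul_inv_cancel_right]
  calc n1 * e * n1⁻¹ = z * z * (n1 * e * n1⁻¹) := by rw [H.zz, one_mul]
    _ = z * (z * n1 * e * n1⁻¹) := by group
    _ = z * (n1 * (z * e) * n1⁻¹) := by rw [← H.n1z]; group
    _ = z * e := by rw [h3]

theorem n2_conj_e : n2 * e * n2⁻¹ = z * e := by
  have hz2 : z * n2 = n2 * z := H.comm z H.z_mem n2 H.n2_mem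
  have h1 : e * n2 = n2 * z * e := by rw [← H.n2_e]; group
  have h2 : n2 * (z * e) = e * n2 := by rw [← mul_assoc]; exact h1.symm
  have h3 : n2 * (z * e) * n2⁻¹ = e := by rw [h2, mul_inv_cancel_right]
  calc n2 * e * n2⁻¹ = z * z * (n2 * e * n2⁻¹) := by rw [H.zz, one_mul]
    _ = z * (z * n2 * e * n2⁻¹) := by group
    _ = z * (n2 * (z * e) * n2⁻¹) := by rw [hz2]; group
    _ = z * e := by rw [h3]

theorem ρ_inv_z : ρ⁻¹ * z * ρ = z * e := by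
  conv_lhs => rw [← H.ρ_ze]
  group

theorem ρ_inv_e : ρ⁻¹ * e * ρ = z := by
  rw [← H.ρ_z]; group

theorem n1'_z : (ρ * n1 * ρ⁻¹) * z * (ρ * n1 * ρ⁻¹)⁻¹ = z * e := by
  calc (ρ * n1 * ρ⁻¹) * z * (ρ * n1 * ρ⁻¹)⁻¹ = ρ * (n1 * (ρ⁻¹ * z * ρ) * n1⁻¹) * ρ⁻¹ := by group
    _ = ρ * ((n1 * z) * e * n1⁻¹) * ρ⁻¹ := by rw [H.ρ_inv_z]; group
    _ = ρ * (z * (n1 * e * n1⁻¹)) * ρ⁻¹ := by rw [H.n1z]; group
    _ = ρ * (z * z * e) * ρ⁻¹ := by rw [H.n1_conj_e]; group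
    _ = z * e := by rw [H.zz, one_mul, H.ρ_e]

theorem n1'_e : (ρ * n1 * ρ⁻¹) * e * (ρ * n1 * ρ⁻¹)⁻¹ = e := by
  calc (ρ * n1 * ρ⁻¹) * e * (ρ * n1 * ρ⁻¹)⁻¹ = ρ * (n1 * (ρ⁻¹ * e * ρ) * n1⁻¹) * ρ⁻¹ := by group
    _ = ρ * (n1 * z * n1⁻¹) * ρ⁻¹ := by rw [H.ρ_inv_e]
    _ = ρ * z * ρ⁻¹ := by rw [H.n1z]; group
    _ = e := H.ρ_z

theorem g_z : (n1 * (ρ * n1 * ρ⁻¹)) * z * (n1 * (ρ * n1 * ρ⁻¹))⁻¹ = e := by
  calc (n1 * (ρ * n1 * ρ⁻¹)) * z * (n1 * (ρ * n1 * ρ⁻¹))⁻¹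
      = n1 * ((ρ * n1 * ρ⁻¹) * z * (ρ * n1 * ρ⁻¹)⁻¹) * n1⁻¹ := by group
    _ = (n1 * z) * e * n1⁻¹ := by rw [H.n1'_z]; group
    _ = z * (n1 * e * n1⁻¹) := by rw [H.n1z]; group
    _ = z * z * e := by rw [H.n1_conj_e]; group
    _ = e := by rw [H.zz, one_mul]

theorem g_e : (n1 * (ρ * n1 * ρ⁻¹)) * e * (n1 * (ρ * n1 * ρ⁻¹))⁻¹ = z * e := by
  calc (n1 * (ρ * n1 * ρ⁻¹)) * e * (n1 * (ρ * n1 * ρ⁻¹))⁻¹
      = n1 * ((ρ * n1 * ρ⁻¹) * e * (ρ * n1 * ρ⁻¹)⁻¹) * n1⁻¹ := by group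
    _ = z * e := by rw [H.n1'_e, H.n1_conj_e]

theorem exists_loc : ∃ x0 a1 a2 : G, Loc F ε N k z e (n1 * (ρ * n1 * ρ⁻¹)) x0 a1 a2 L1 L2 ∧
    cg (n1 * (ρ * n1 * ρ⁻¹)) L1 = cg ρ L1 := by
  obtain ⟨a1, S⟩ := H.exists_side1
  have C := H.core S
  have S2 := H.exists_side2 S
  set w := ρ * (n1 * n2) * ρ⁻¹ with hw
  set a2 := w * a1 * w⁻¹ with ha2
  obtain ⟨x0, hx1, hx2, hx3, hx4, hx5, hx6⟩ := C.exists_x0
  set n1' := ρ * n1 * ρ⁻¹ with hn1'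
  set g := n1 * n1' with hg
  have hxn1 : x0 * n1 = n1 * x0 := hx1 n1 H.n1_mem
  have hxn1' : x0 * n1' = n1' * x0 := hx2 n1' (conj_mem_cg H.n1_mem)
  have hxg : x0 * g = g * x0 := ((show Commute x0 n1 from hxn1).mul_right (show Commute x0 n1' from hxn1')).eq
  have hgz : g * z * g⁻¹ = e := H.g_z
  have hρg : (ρ⁻¹ * g) * z = z * (ρ⁻¹ * g) := by
    have h1 : (ρ⁻¹ * g) * z * (ρ⁻¹ * g)⁻¹ = z := by
      calc (ρ⁻¹ * g) * z * (ρ⁻¹ * g)⁻¹ = ρ⁻¹ * (g * z * g⁻¹) * ρ := by group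
        _ = z := by rw [hgz, H.ρ_inv_e]
    exact mul_inv_eq_iff_eq_mul.1 h1
  have hcgg : cg g L1 = cg ρ L1 := by
    have e1 : ∀ L : Subgroup G, cg ρ (cg (ρ⁻¹ * g) L) = cg g L := by
      intro L; rw [← cg_mul, mul_inv_cancel_left]
    rcases H.perm _ hρg with h | h
    · rw [← e1, h.1]
    · exfalso
      apply hx5
      rw [← h.1, e1]
      exact cent_cg hxg hx1
  refine ⟨x0, a1, a2, ?_, hcgg⟩
  exact
    { nums := H.nums
      S1 := S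
      S2 := S2
      iso1 := H.iso1
      ee := H.ee
      ze := H.ze
      e_ne_z := H.e_ne_z
      comm := H.comm
      perm := H.perm
      g_z := hgz
      g_e := H.g_e
      g_mem := by
        rw [hcgg]
        exact mul_mem (mem_sup_left H.n1_mem) (mem_sup_right (conj_mem_cg H.n1_mem))
      x0_1 := hx1
      x0_g := hxg
      x0_2 := hx3
      x0_pow := hx4
      P1 := fun d h1 h2 => C.P1 h1 h2
      T2X := by
        intro t ht htc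
        rw [hcgg] at htc
        exact C.T2X H.ρ_z H.ρ_ze ht htc
      Z := H.Z
      two := H.two
      f := by
        rcases H.f with h | ⟨h, f, hf, hff⟩
        · left; exact h
        · right
          refine ⟨h, f, hff, H.U_z f hf, H.U_T1 f hf a1 S.a_mem S.a_e, H.U_T2 f hf a2 S2.a_mem S2.a_e, ?_⟩
          have hf' : ρ⁻¹ * f * ρ ∈ U := by
            rw [← mem_cg, H.U_ρ]; exact hf
          exact hx6 f (H.U_T1 f hf a1 S.a_mem S.a_e) (H.U_T2 f hf a2 S2.a_mem S2.a_e)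
            (H.U_T1 _ hf' a1 S.a_mem S.a_e) (H.U_T2 _ hf' a2 S2.a_mem S2.a_e)
      gen := by
        intro x h1 h2 h3
        rw [hcgg] at h3
        exact H.gen x h1 h2 h3 }

end Inp

end Cfsg.Agent.LFourR
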