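import Mathlib
import Cfsg.Agent.LFourR.R1d

/-!
Elements commuting with `x0`; the swaps of the six subgroups.
-/

set_option autoImplicit false

namespace Cfsg.Agent.LFourR

open Subgroup

variable {F : Type*} [Field F] [Fintype F] {G : Type*} [Group G]

theorem cg_eq_of_comm {y : G} {L : Subgroup G} (h : ∀ l ∈ L, y * l = l * y) : cg y L = L := by
  ext x
  rw [mem_cg]
  constructor
  · intro hx
    have h1 := h _ hx
    have e1 : y * (y⁻¹ * x * y) = x * y := by group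
    rw [e1] at h1
    rw [mul_right_cancel h1]
    exact hx
  · intro hx
    have h1 := h x hx
    have e1 : y⁻¹ * x * y = x := by rw [mul_assoc, ← h1]; group
    rw [e1]; exact hx

namespace Loc

variable {ε : ℤ} {N k : ℕ} {z e g x0 a1 a2 : G} {L1 L2 : Subgroup G}
variable (H : Loc F ε N k z e g x0 a1 a2 L1 L2)
include H

theorem zz : z * z = 1 := H.S1.zz

theorem a2_ne : a2 ≠ 1 := by
  intro h
  have h1 := H.S2.ord
  rw [h, orderOf_one] at h1
  have := H.S2.one_lt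
  omega

theorem a1_ne : a1 ≠ 1 := by
  intro h
  have h1 := H.S1.ord
  rw [h, orderOf_one] at h1
  have := H.S1.one_lt
  omega

theorem a2_pow : a2 ^ N = 1 := by rw [← H.S2.ord, pow_orderOf_eq_one]

theorem a1_pow : a1 ^ N = 1 := by rw [← H.S1.ord, pow_orderOf_eq_one]

/-- a power of `a2` in the centre is trivial -/
theorem a2_zpow_center {j : ℤ} (h : ∀ l ∈ L2, a2 ^ j * l = l * a2 ^ j) : a2 ^ j = 1 := by
  rcases H.S2.center _ (zpow_mem H.S2.a_mem _) h with h1 | h1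
  · exact h1
  · exfalso
    apply H.S1.z_ne
    apply eq_one_of_sq_of_pow H.zz H.S1.odd
    rw [← h1, ← zpow_natCast, ← zpow_mul, mul_comm, zpow_mul, zpow_natCast, H.a2_pow, one_zpow]

theorem a2_of_sq {j : ℤ} (h : a2 ^ (2 * j) = 1) : a2 ^ j = 1 := by
  apply eq_one_of_sq_of_pow (m := N) _ H.S1.odd
  · rw [← zpow_natCast, ← zpow_mul, mul_comm, zpow_mul, zpow_natCast, H.a2_pow, one_zpow]
  · rw [← zpow_add, ← two_mul]; exact h

theorem x0_not : ¬ ∀ l ∈ L2, x0 * l = l * x0 := by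
  intro h
  have h1 : ∀ l ∈ L2, a2 ^ (-2 : ℤ) * l = l * a2 ^ (-2 : ℤ) := by
    intro l hl
    have h2 := H.x0_2 l hl
    rw [h l hl, mul_inv_cancel_right] at h2
    exact (mul_inv_eq_iff_eq_mul.1 h2.symm)
  have h2 := H.a2_zpow_center h1
  have h3 : a2 ^ (-1 : ℤ) = 1 := H.a2_of_sq (j := -1) (by
    rw [show (2 * (-1 : ℤ)) = -2 by norm_num]; exact h2)
  rw [zpow_neg_one, inv_eq_one] at h3
  exact H.a2_ne h3

/-- elements commuting with `x0` and `z` normalise `L1` and `L2` -/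
theorem norm_of_comm {y : G} (hx : y * x0 = x0 * y) (hz : y * z = z * y) : cg y L1 = L1 ∧ cg y L2 = L2 := by
  rcases H.perm y hz with h | h
  · exact h
  · exfalso
    apply H.x0_not
    rw [← h.1]
    exact Inp.cent_cg hx.symm H.x0_1

theorem g_ze : g * (z * e) * g⁻¹ = z := by
  calc g * (z * e) * g⁻¹ = (g * z * g⁻¹) * (g * e * g⁻¹) := by group
    _ = e * (z * e) := by rw [H.g_z, H.g_e]
    _ = z := by rw [H.ze, ← mul_assoc, H.ee, one_mul]

theorem g_inv_e : g⁻¹ * e * g = z := by rw [← H.g_z]; group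

theorem g_inv_z : g⁻¹ * z * g = z * e := by
  conv_lhs => rw [← H.g_ze]
  group

theorem g_inv_ze : g⁻¹ * (z * e) * g = e := by rw [← H.g_e]; group

theorem x0_comm_z : x0 * z = z * x0 := H.x0_1 z H.S1.z_mem

theorem x0_comm_e : x0 * e = e * x0 := by
  rw [← H.g_z]
  exact Inp.cent_cg H.x0_g H.x0_1 _ (conj_mem_cg H.S1.z_mem)

theorem comm_g {x : G} (hx : x * x0 = x0 * x) : (g * x * g⁻¹) * x0 = x0 * (g * x * g⁻¹) := by
  have h1 : Commute x x0 := hx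
  have h2 : Commute g x0 := H.x0_g.symm
  exact ((h2.mul_left h1).mul_left h2.inv_left).eq

theorem comm_g' {x : G} (hx : x * x0 = x0 * x) : (g⁻¹ * x * g) * x0 = x0 * (g⁻¹ * x * g) := by
  have h1 : Commute x x0 := hx
  have h2 : Commute g x0 := H.x0_g.symm
  exact ((h2.inv_left.mul_left h1).mul_left h2).eq

/-- conjugation by `y` with `y g z g⁻¹ y⁻¹ = h z h⁻¹`, all commuting with `x0` -/
theorem cg_of_conj {y h h' : G} (hy : y * x0 = x0 * y) (hh : h * x0 = x0 * h) (hh' : h' * x0 = x0 * h')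
    (hc : y * (h * z * h⁻¹) * y⁻¹ = h' * z * h'⁻¹) : cg y (cg h L1) = cg h' L1 ∧ cg y (cg h L2) = cg h' L2 := by
  have h1 : (h'⁻¹ * y * h) * x0 = x0 * (h'⁻¹ * y * h) := by
    have e1 : Commute h' x0 := hh'
    have e2 : Commute y x0 := hy
    have e3 : Commute h x0 := hh
    exact ((e1.inv_left.mul_left e2).mul_left e3).eq
  have h2 : (h'⁻¹ * y * h) * z = z * (h'⁻¹ * y * h) := by
    have : (h'⁻¹ * y * h) * z * (h'⁻¹ * y * h)⁻¹ = z := by
      calc (h'⁻¹ * y * h) * z * (h'⁻¹ * y * h)⁻¹ = h'⁻¹ * (y * (h * z * h⁻¹) * y⁻¹) * h' := by group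
        _ = z := by rw [hc]; group
    exact mul_inv_eq_iff_eq_mul.1 this
  have h3 := H.norm_of_comm h1 h2
  have e : ∀ L : Subgroup G, cg y (cg h L) = cg h' (cg (h'⁻¹ * y * h) L) := by
    intro L
    rw [← cg_mul, ← cg_mul]
    congr 1
    group
  rw [e, e, h3.1, h3.2]
  exact ⟨rfl, rfl⟩

theorem gg_z : (g * g) * z * (g * g)⁻¹ = z * e := by
  calc (g * g) * z * (g * g)⁻¹ = g * (g * z * g⁻¹) * g⁻¹ := by group
    _ = z * e := by rw [H.g_z, H.g_e]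

theorem ggg_z : (g * g * g) * z * (g * g * g)⁻¹ = z := by
  calc (g * g * g) * z * (g * g * g)⁻¹ = g * ((g * g) * z * (g * g)⁻¹) * g⁻¹ := by group
    _ = z := by rw [H.gg_z, H.g_ze]

theorem x0_gg : (g * g) * x0 = x0 * (g * g) := by
  have h2 : Commute g x0 := H.x0_g.symm
  exact (h2.mul_left h2).eq

theorem x0_ggg : (g * g * g) * x0 = x0 * (g * g * g) := by
  have h2 : Commute g x0 := H.x0_g.symm
  exact ((h2.mul_left h2).mul_left h2).eq

theorem g3 : cg (g * g * g) L1 = L1 ∧ cg (g * g * g) L2 = L2 := by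
  apply H.norm_of_comm H.x0_ggg
  exact mul_inv_eq_iff_eq_mul.1 H.ggg_z

/-- a Weyl element of `L1` -/
theorem n1_swap {n1 : G} (hn : n1 ∈ L1) (he : n1 * e * n1⁻¹ = z * e) :
    (cg n1 (cg g L1) = cg (g * g) L1 ∧ cg n1 (cg g L2) = cg (g * g) L2) ∧
    (cg n1 (cg (g * g) L1) = cg g L1 ∧ cg n1 (cg (g * g) L2) = cg g L2) := by
  have hx : n1 * x0 = x0 * n1 := (H.x0_1 n1 hn).symm
  have hz : n1 * z = z * n1 := (H.S1.z_comm n1 hn).symm
  constructor
  · refine H.cg_of_conj hx H.x0_g.symm H.x0_gg ?_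
    rw [H.g_z, H.gg_z, he]
  · refine H.cg_of_conj hx H.x0_gg H.x0_g.symm ?_
    rw [H.g_z, H.gg_z]
    calc n1 * (z * e) * n1⁻¹ = (n1 * z) * e * n1⁻¹ := by group
      _ = z * (n1 * e * n1⁻¹) := by rw [hz]; group
      _ = e := by rw [he, ← mul_assoc, H.zz, one_mul]

theorem z_norm : (cg z (cg g L1) = cg g L1 ∧ cg z (cg g L2) = cg g L2) ∧
    (cg z (cg (g * g) L1) = cg (g * g) L1 ∧ cg z (cg (g * g) L2) = cg (g * g) L2) := by
  have hx : z * x0 = x0 * z := H.x0_comm_z.symm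
  constructor
  · refine H.cg_of_conj hx H.x0_g.symm H.x0_g.symm ?_
    rw [H.g_z, H.ze]; group
  · refine H.cg_of_conj hx H.x0_gg H.x0_gg ?_
    rw [H.gg_z, ← mul_assoc, H.zz, one_mul]
    have h1 : Commute z e := H.ze
    have h2 : Commute z⁻¹ e := h1.inv_left
    calc e * z⁻¹ = z⁻¹ * e := h2.eq.symm
      _ = z * e := by rw [inv_eq_of_mul_eq_one_right H.zz]

end Loc

/-- the swaps -/
structure Swaps {G : Type*} [Group G] (g n1 n2 : G) (L1 L2 : Subgroup G) : Prop where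
  g31 : cg (g * g * g) L1 = L1
  g32 : cg (g * g * g) L2 = L2
  n1_13 : cg n1 (cg g L1) = cg (g * g) L1
  n1_23 : cg n1 (cg (g * g) L1) = cg g L1
  n1_24 : cg n1 (cg g L2) = cg (g * g) L2
  n1_14 : cg n1 (cg (g * g) L2) = cg g L2
  n2_13 : cg n2 (cg g L1) = cg (g * g) L2
  n2_14 : cg n2 (cg (g * g) L2) = cg g L1
  n2_23 : cg n2 (cg (g * g) L1) = cg g L2
  n2_24 : cg n2 (cg g L2) = cg (g * g) L1

namespace Inp

variable {ε : ℤ} {N k : ℕ} {z e ρ n1 n2 x0 a1 a2 : G} {L1 L2 U : Subgroup G}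

theorem swaps (H : Inp F ε N k z e ρ n1 n2 L1 L2 U)
    (Q : Loc F ε N k z e (n1 * (ρ * n1 * ρ⁻¹)) x0 a1 a2 L1 L2) (hg : cg (n1 * (ρ * n1 * ρ⁻¹)) L1 = cg ρ L1) :
    Swaps (n1 * (ρ * n1 * ρ⁻¹)) n1 n2 L1 L2 := by
  set g := n1 * (ρ * n1 * ρ⁻¹) with hgd
  have h1 := Q.n1_swap H.n1_mem H.n1_conj_e
  have h3 := Q.g3
  have hz := Q.z_norm
  -- `cg g L2 = cg ρ L2`
  have hρg : (ρ⁻¹ * g) * z = z * (ρ⁻¹ * g) := by
    have h1 : (ρ⁻¹ * g) * z * (ρ⁻¹ * g)⁻¹ = z := by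
      calc (ρ⁻¹ * g) * z * (ρ⁻¹ * g)⁻¹ = ρ⁻¹ * (g * z * g⁻¹) * ρ := by group
        _ = z := by rw [Q.g_z, H.ρ_inv_e]
    exact mul_inv_eq_iff_eq_mul.1 h1
  have e1 : ∀ L : Subgroup G, cg ρ (cg (ρ⁻¹ * g) L) = cg g L := by
    intro L; rw [← cg_mul, mul_inv_cancel_left]
  have hg1 : cg (ρ⁻¹ * g) L1 = L1 := by
    rw [cg_mul, hg, ← cg_mul, inv_mul_cancel, cg_one]
  have hg2 : cg g L2 = cg ρ L2 := by
    rcases H.perm _ hρg with h | h
    · rw [← e1, h.2]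
    · exact absurd (hg1.symm.trans h.1) H.L1_ne_L2
  -- `c` swaps
  set c := n1 * n2 with hc
  have hcρ : cg (ρ⁻¹ * c * ρ) L1 = L2 := by
    have hu := H.U_norm H.c_rot
    have hcn : cg c L2 = L2 := by
      have h4 : cg n2 L2 = L2 := mem_normalizer_iff_cg.1 (le_normalizer H.n2_mem)
      have h5 : cg n1 L2 = L2 := cg_eq_of_comm (H.comm n1 H.n1_mem)
      rw [hc, cg_mul, h4, h5]
    have e2 : ρ⁻¹ * c * ρ = (ρ⁻¹ * c * ρ * (c * (ρ * c * ρ⁻¹))⁻¹) * (c * (ρ * c * ρ⁻¹)) := by group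
    rw [e2, cg_mul, cg_mul c, H.swap, hcn]
    exact hu.2
  have hcc : c * c = 1 := H.c_sq
  have hc1 : cg c (cg g L1) = cg g L2 := by
    rw [hg, hg2, ← hcρ, ← cg_mul, ← cg_mul]
    congr 1
    group
  have hc2 : cg c (cg g L2) = cg g L1 := by
    rw [← hc1, ← cg_mul, hcc, cg_one]
  have hn2 : n2 = n1⁻¹ * c := by rw [hc]; group
  have h13 : cg n2 (cg g L1) = cg (g * g) L2 := by
    rw [hn2, cg_mul, hc1]
    exact cg_inv_eq h1.2.2
  have h24 : cg n2 (cg g L2) = cg (g * g) L1 := by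
    rw [hn2, cg_mul, hc2]
    exact cg_inv_eq h1.2.1
  refine ⟨h3.1, h3.2, h1.1.1, h1.2.1, h1.1.2, h1.2.2, h13, ?_, ?_, h24⟩
  · rw [← h13, ← cg_mul, H.n2_sq]
    exact hz.1.1
  · rw [← h24, ← cg_mul, H.n2_sq]
    exact hz.1.2

end Inp

end Cfsg.Agent.LFourR
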