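import Mathlib
import Cfsg.Agent.LFourR.R1e

/-!
The centraliser of `x0`: the subgroups `D = C(x0) ∩ C(z)`, `B = C(x0) ∩ C(V)`, and `C(L1) ∩ C(x0) = T2 X`.
-/

set_option autoImplicit false

namespace Cfsg.Agent.LFourR

open Subgroup

variable {G : Type*} [Group G]

/-- every element of finite order is a product of a `2`-element and an element of odd order, both powers of it -/
theorem exists_two_odd {x : G} (hx : 0 < orderOf x) : ∃ (u v : ℤ) (s r : ℕ), Odd r ∧ x = x ^ u * x ^ v ∧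
    (x ^ u) ^ r = 1 ∧ (x ^ v) ^ 2 ^ s = 1 := by
  obtain ⟨s, r, hr, hn⟩ := Nat.exists_eq_two_pow_mul_odd (n := orderOf x) hx.ne'
  have hcop : Nat.Coprime (2 ^ s) r := Nat.Coprime.pow_left s (Nat.coprime_two_left.2 hr)
  have hb := Nat.gcd_eq_gcd_ab (2 ^ s) r
  rw [hcop] at hb
  refine ⟨(2 ^ s : ℕ) * Nat.gcdA (2 ^ s) r, r * Nat.gcdB (2 ^ s) r, s, r, hr, ?_, ?_, ?_⟩
  · rw [← zpow_add, ← hb]; simp
  · rw [← zpow_natCast, ← zpow_mul]
    have e1 : ((2 ^ s : ℕ) : ℤ) * Nat.gcdA (2 ^ s) r * (r : ℤ) = (orderOf x : ℤ) * Nat.gcdA (2 ^ s) r := by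
      rw [hn]; push_cast; ring
    rw [e1, zpow_mul, zpow_natCast, pow_orderOf_eq_one, one_zpow]
  · rw [← zpow_natCast, ← zpow_mul]
    have e1 : (r : ℤ) * Nat.gcdB (2 ^ s) r * ((2 ^ s : ℕ) : ℤ) = (orderOf x : ℤ) * Nat.gcdB (2 ^ s) r := by
      rw [hn]; push_cast; ring
    rw [e1, zpow_mul, zpow_natCast, pow_orderOf_eq_one, one_zpow]

/-- commutators of elements commuting with `a` act trivially -/
theorem Side.comm_cent {z e a : G} {L : Subgroup G} {N k : ℕ} (S : Side z e a L N k) {x y : G} (hx : cg x L = L)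
    (hy : cg y L = L) (hxa : x * a = a * x) (hya : y * a = a * y) :
    ∀ l ∈ L, (x * y * x⁻¹ * y⁻¹) * l = l * (x * y * x⁻¹ * y⁻¹) := by
  intro l hl
  have hx' := mem_normalizer_iff_cg.2 hx
  have hy' := mem_normalizer_iff_cg.2 hy
  have hyx : cg (y * x) L = L := by rw [cg_mul, hx, hy]
  have hl' : (y * x)⁻¹ * l * (y * x) ∈ L := by rw [← mem_cg, hyx]; exact hl
  have h := S.fix_comm x hx' y hy' hxa hya _ hl'
  have e1 : (y * x) * ((y * x)⁻¹ * l * (y * x)) * (y * x)⁻¹ = l := by group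
  rw [e1] at h
  apply mul_inv_eq_iff_eq_mul.1
  calc (x * y * x⁻¹ * y⁻¹) * l * (x * y * x⁻¹ * y⁻¹)⁻¹
      = (x * y) * ((y * x)⁻¹ * l * (y * x)) * (x * y)⁻¹ := by group
    _ = l := h

theorem conj_e_of_n {z e n : G} (hzn : z * n = n * z) (hzz : z * z = 1) (h : e * n * e⁻¹ = n * z) :
    n * e * n⁻¹ = z * e := by
  have h1 : e * n = n * z * e := by rw [← h]; group
  have h2 : n * (z * e) = e * n := by rw [← mul_assoc]; exact h1.symm
  have h3 : n * (z * e) * n⁻¹ = e := by rw [h2, mul_inv_cancel_right]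
  calc n * e * n⁻¹ = z * z * (n * e * n⁻¹) := by rw [hzz, one_mul]
    _ = z * (z * n * e * n⁻¹) := by group
    _ = z * (n * (z * e) * n⁻¹) := by rw [hzn]; group
    _ = z * e := by rw [h3]

namespace Loc

variable {F : Type*} [Field F] [Fintype F]
variable {ε : ℤ} {N k : ℕ} {z e g x0 a1 a2 : G} {L1 L2 : Subgroup G}
variable (H : Loc F ε N k z e g x0 a1 a2 L1 L2)
include H

theorem L1_ne : L1 ≠ L2 := by
  intro h
  apply H.x0_not
  rw [← h]; exact H.x0_1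

theorem exists_n : ∃ n ∈ L1, n * n = z ∧ (∀ t ∈ L1, t * e = e * t → n * t * n⁻¹ = t⁻¹) ∧ n * e * n⁻¹ = z * e := by
  obtain ⟨n, h1, h2, h3, h4⟩ := H.S1.exists_n
  exact ⟨n, h1, h2, h3, conj_e_of_n (H.S1.z_comm n h1) H.zz h4⟩

/-- `a2` is a power of `a2 ^ (-2)` -/
theorem exists_half : ∃ r : ℤ, (a2 ^ (-2 : ℤ)) ^ r = a2 := by
  obtain ⟨r, hr⟩ := H.S1.odd
  refine ⟨r, ?_⟩
  rw [← zpow_mul]
  have e1 : (-2 : ℤ) * (r : ℤ) = 1 + (N : ℤ) * (-1) := by rw [hr]; push_cast; ring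
  rw [e1, zpow_add, zpow_mul, zpow_natCast, H.a2_pow, one_zpow, mul_one, zpow_one]

theorem D_a2 {d : G} (hx : d * x0 = x0 * d) (hz : d * z = z * d) : d * a2 = a2 * d := by
  have hn := H.norm_of_comm hx hz
  set s := a2 ^ (-2 : ℤ) with hs
  have hsm : s ∈ L2 := zpow_mem H.S2.a_mem _
  have hdm : d * s * d⁻¹ ∈ L2 := Core.norm_mem2 hn.2 hsm
  have hsN : s ^ N = 1 := by
    rw [hs, ← zpow_natCast, ← zpow_mul, mul_comm, zpow_mul, zpow_natCast, H.a2_pow, one_zpow]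
  have key : ∀ l ∈ L2, (s⁻¹ * (d * s * d⁻¹)) * l = l * (s⁻¹ * (d * s * d⁻¹)) := by
    intro l hl
    have hl' : d⁻¹ * l * d ∈ L2 := by rw [← mem_cg, hn.2]; exact hl
    have h1 := H.x0_2 _ hl'
    have h2 := H.x0_2 l hl
    have h3 : d * (x0 * (d⁻¹ * l * d) * x0⁻¹) * d⁻¹ = x0 * l * x0⁻¹ := by
      calc d * (x0 * (d⁻¹ * l * d) * x0⁻¹) * d⁻¹ = (d * x0 * d⁻¹) * l * (d * x0 * d⁻¹)⁻¹ := by group
        _ = x0 * l * x0⁻¹ := by rw [hx, mul_inv_cancel_right]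
    rw [h1, h2] at h3
    apply mul_inv_eq_iff_eq_mul.1
    calc s⁻¹ * (d * s * d⁻¹) * l * (s⁻¹ * (d * s * d⁻¹))⁻¹
        = s⁻¹ * (d * (s * (d⁻¹ * l * d) * s⁻¹) * d⁻¹) * s := by group
      _ = s⁻¹ * (s * l * s⁻¹) * s := by rw [h3]
      _ = l := by group
  have hc := H.S2.center _ (mul_mem (inv_mem hsm) hdm) key
  have hds : d * s * d⁻¹ = s := by
    rcases hc with h | h
    · rw [inv_mul_eq_one] at h; exact h.symm
    · exfalso
      have h1 : d * s * d⁻¹ = s * z := by rw [← h]; group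
      have h2 : (d * s * d⁻¹) ^ N = 1 := by rw [conj_pow, hsN]; group
      rw [h1, (show Commute s z from (H.S2.z_comm s hsm).symm).mul_pow, hsN, one_mul] at h2
      exact H.S1.z_ne (eq_one_of_sq_of_pow H.zz H.S1.odd h2)
  have hcs : Commute d s := mul_inv_eq_iff_eq_mul.1 hds
  obtain ⟨r, hr⟩ := H.exists_half
  rw [← hr]
  exact (hcs.zpow_right r).eq

/-- an element with commuting actions: `p e p⁻¹ = e` or `z e` -/
theorem conj_e_cases {p : G} (h1 : ∀ l ∈ L1, (p * e * p⁻¹ * e⁻¹) * l = l * (p * e * p⁻¹ * e⁻¹))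
    (h2 : ∀ l ∈ L2, (p * e * p⁻¹ * e⁻¹) * l = l * (p * e * p⁻¹ * e⁻¹)) :
    p * e * p⁻¹ = e ∨ p * e * p⁻¹ = z * e := by
  set u := p * e * p⁻¹ * e⁻¹ with hu
  have hZ := H.Z u h1 h2
  have hue : u * e = p * e * p⁻¹ := by rw [hu]; group
  have h3 : (u * e) * (u * e) = 1 := by
    rw [hue]
    calc p * e * p⁻¹ * (p * e * p⁻¹) = p * (e * e) * p⁻¹ := by group
      _ = 1 := by rw [H.ee]; group
  have h4 : u * u = 1 := by
    calc u * u = u * u * (e * e) := by rw [H.ee, mul_one]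
      _ = u * (u * e) * e := by group
      _ = u * (e * u) * e := by rw [hZ.1]
      _ = 1 := by rw [← h3]; group
  rcases hZ.2 h4 with h | h
  · left; rw [← hue, h, one_mul]
  · right; rw [← hue, h]

theorem e_norm2 : cg e L2 = L2 := mem_normalizer_iff_cg.1 H.S2.e_norm

theorem e_norm1 : cg e L1 = L1 := mem_normalizer_iff_cg.1 H.S1.e_norm

theorem D_split {d : G} (hx : d * x0 = x0 * d) (hz : d * z = z * d) : ∃ s ∈ L1, (s * d) * e = e * (s * d) := by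
  have hn := H.norm_of_comm hx hz
  obtain ⟨s, hs, hs'⟩ := H.S1.conj_inner d (mem_normalizer_iff_cg.2 hn.1)
  set p := s * d with hp
  have hpx : p * x0 = x0 * p := ((show Commute s x0 from (H.x0_1 s hs).symm).mul_left (show Commute d x0 from hx)).eq
  have hpz : p * z = z * p :=
    ((show Commute s z from (H.S1.z_comm s hs).symm).mul_left (show Commute d z from hz)).eq
  have hpn := H.norm_of_comm hpx hpz
  have hpa := H.D_a2 hpx hpz
  have h2 := H.S2.comm_cent hpn.2 H.e_norm2 hpa H.S2.a_e.symm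
  have h1 : ∀ l ∈ L1, (p * e * p⁻¹ * e⁻¹) * l = l * (p * e * p⁻¹ * e⁻¹) := by
    intro l hl
    have hl' : e⁻¹ * l * e ∈ L1 := by rw [← mem_cg, H.e_norm1]; exact hl
    have h3 := hs' _ hl'
    apply mul_inv_eq_iff_eq_mul.1
    calc (p * e * p⁻¹ * e⁻¹) * l * (p * e * p⁻¹ * e⁻¹)⁻¹
        = (s * (d * e * d⁻¹) * s⁻¹) * (e⁻¹ * l * e) * (s * (d * e * d⁻¹) * s⁻¹)⁻¹ := by rw [hp]; group
      _ = l := by rw [h3]; group
  rcases H.conj_e_cases h1 h2 with h | h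
  · exact ⟨s, hs, mul_inv_eq_iff_eq_mul.1 h⟩
  · obtain ⟨n, hn1, -, -, hn4⟩ := H.exists_n
    refine ⟨n⁻¹ * s, mul_mem (inv_mem hn1) hs, ?_⟩
    apply mul_inv_eq_iff_eq_mul.1
    calc n⁻¹ * s * d * e * (n⁻¹ * s * d)⁻¹ = n⁻¹ * (p * e * p⁻¹) * n := by rw [hp]; group
      _ = n⁻¹ * (n * e * n⁻¹) * n := by rw [h, hn4]
      _ = e := by group

theorem B_a1 {b : G} (hx : b * x0 = x0 * b) (hz : b * z = z * b) (he : b * e = e * b) : b * a1 = a1 * b :=
  (H.P1 b hz he).1 (H.D_a2 hx hz)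

/-- conjugation by `g` preserves the centraliser of `V` -/
theorem g_B {b : G} (hz : b * z = z * b) (he : b * e = e * b) :
    (g * b * g⁻¹) * z = z * (g * b * g⁻¹) ∧ (g * b * g⁻¹) * e = e * (g * b * g⁻¹) := by
  constructor
  · have h1 : Commute b (z * e) := (show Commute b z from hz).mul_right (show Commute b e from he)
    have h2 := conj_comm (g := g) h1.eq
    rwa [H.g_ze] at h2
  · have h2 := conj_comm (g := g) hz
    rwa [H.g_z] at h2

theorem g_B' {b : G} (hz : b * z = z * b) (he : b * e = e * b) :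
    (g⁻¹ * b * g) * z = z * (g⁻¹ * b * g) ∧ (g⁻¹ * b * g) * e = e * (g⁻¹ * b * g) := by
  constructor
  · have h2 := conj_comm' (g := g) he
    rwa [H.g_inv_e] at h2
  · have h1 : Commute b (z * e) := (show Commute b z from hz).mul_right (show Commute b e from he)
    have h2 := conj_comm' (g := g) h1.eq
    rwa [H.g_inv_ze] at h2

/-- powers of `x0` act on `L2` as powers of `a2 ^ (-2)` -/
theorem x0_zpow (m : ℤ) : ∀ l ∈ L2, x0 ^ m * l * (x0 ^ m)⁻¹ = (a2 ^ (-2 : ℤ)) ^ m * l * ((a2 ^ (-2 : ℤ)) ^ m)⁻¹ := by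
  set s := a2 ^ (-2 : ℤ) with hs
  have hsm : s ∈ L2 := zpow_mem H.S2.a_mem _
  set y := s⁻¹ * x0 with hy
  have hyc : ∀ l ∈ L2, y * l = l * y := by
    intro l hl
    have h2 : x0 * l * x0⁻¹ = s * l * s⁻¹ := H.x0_2 l hl
    apply mul_inv_eq_iff_eq_mul.1
    calc y * l * y⁻¹ = s⁻¹ * (x0 * l * x0⁻¹) * s := by rw [hy]; group
      _ = l := by rw [h2]; group
  have hxy : x0 = s * y := by rw [hy]; group
  have hc : Commute s y := (hyc s hsm).symm
  intro l hl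
  have h1 : Commute (y ^ m) l := (show Commute y l from hyc l hl).zpow_left m
  calc x0 ^ m * l * (x0 ^ m)⁻¹ = s ^ m * (y ^ m * l * (y ^ m)⁻¹) * (s ^ m)⁻¹ := by
        rw [hxy, hc.mul_zpow]; group
    _ = s ^ m * l * (s ^ m)⁻¹ := by rw [h1.eq, mul_inv_cancel_right]

/-- the centraliser of `L1` and `g L1 g⁻¹` -/
theorem X_eq [Finite G] {x : G} (h1 : ∀ l ∈ L1, x * l = l * x) (h3 : ∀ l ∈ cg g L1, x * l = l * x) :
    x ∈ zpowers x0 := by
  have hxz : x * z = z * x := h1 z H.S1.z_mem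
  have hxe : x * e = e * x := h3 e (by rw [← H.g_z]; exact conj_mem_cg H.S1.z_mem)
  have hn1 : cg x L1 = L1 := cg_eq_of_comm h1
  have hn2 : cg x L2 = L2 := by
    rcases H.perm x hxz with h | h
    · exact h.2
    · exact absurd (hn1.symm.trans h.1) H.L1_ne
  have ha1 : x * a1 = a1 * x := h1 a1 H.S1.a_mem
  have ha2 : x * a2 = a2 * x := (H.P1 x hxz hxe).2 ha1
  -- the order of `x` is odd
  have hodd : ∃ r : ℕ, Odd r ∧ x ^ r = 1 := by
    obtain ⟨u, v, s, r, hr, hx, hu, hv⟩ := exists_two_odd (orderOf_pos x)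
    have hv1 : ∀ l ∈ L1, x ^ v * l = l * x ^ v := fun l hl => ((show Commute x l from h1 l hl).zpow_left v).eq
    have hv3 : ∀ l ∈ cg g L1, x ^ v * l = l * x ^ v := fun l hl => ((show Commute x l from h3 l hl).zpow_left v).eq
    have hvL := H.two _ hv1 ⟨s, hv⟩
    have hv0 := H.T2X _ hvL hv3
    rw [hv0, mul_one] at hx
    exact ⟨r, hr, by rw [hx]; exact hu⟩
  obtain ⟨r, hr, hxr⟩ := hodd
  obtain ⟨t, ht, ht'⟩ := H.S2.fix_odd x (mem_normalizer_iff_cg.2 hn2) ha2 r hr (by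
    intro l _; rw [hxr, one_mul, mul_one])
  obtain ⟨j, rfl⟩ := mem_zpowers_iff.1 ht
  obtain ⟨h, hh⟩ := H.exists_half
  -- `x0 ^ (h j)` acts as `a2 ^ j`
  have hact : ∀ l ∈ L2, x0 ^ (h * j) * l * (x0 ^ (h * j))⁻¹ = a2 ^ j * l * (a2 ^ j)⁻¹ := by
    intro l hl
    rw [H.x0_zpow (h * j) l hl, zpow_mul, hh]
  have hx0 : ∀ l ∈ L1, x0 ^ (h * j) * l = l * x0 ^ (h * j) :=
    fun l hl => ((show Commute x0 l from H.x0_1 l hl).zpow_left _).eq
  have hx0' : ∀ l ∈ cg g L1, x0 ^ (h * j) * l = l * x0 ^ (h * j) :=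
    fun l hl => ((show Commute x0 l from Inp.cent_cg H.x0_g H.x0_1 l hl).zpow_left _).eq
  have hone : (x0 ^ (h * j))⁻¹ * x = 1 := by
    apply H.gen
    · intro l hl
      exact ((show Commute (x0 ^ (h * j)) l from hx0 l hl).inv_left.mul_left (show Commute x l from h1 l hl)).eq
    · intro l hl
      apply mul_inv_eq_iff_eq_mul.1
      calc (x0 ^ (h * j))⁻¹ * x * l * ((x0 ^ (h * j))⁻¹ * x)⁻¹
          = (x0 ^ (h * j))⁻¹ * (x * l * x⁻¹) * x0 ^ (h * j) := by group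
        _ = (x0 ^ (h * j))⁻¹ * (x0 ^ (h * j) * l * (x0 ^ (h * j))⁻¹) * x0 ^ (h * j) := by rw [ht' l hl, hact l hl]
        _ = l := by group
    · intro l hl
      exact ((show Commute (x0 ^ (h * j)) l from hx0' l hl).inv_left.mul_left (show Commute x l from h3 l hl)).eq
  rw [inv_mul_eq_one] at hone
  rw [← hone]
  exact zpow_mem (mem_zpowers x0) _

omit [Field F] [Fintype F] H in
theorem cent_cg_iff {x : G} : (∀ l ∈ cg g L1, x * l = l * x) ↔ ∀ l ∈ L1, (g⁻¹ * x * g) * l = l * (g⁻¹ * x * g) := by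
  constructor
  · intro h l hl
    have h1 := conj_comm' (g := g) (h _ (conj_mem_cg hl))
    have e1 : g⁻¹ * (g * l * g⁻¹) * g = l := by group
    rwa [e1] at h1
  · intro h l hl
    rw [mem_cg] at hl
    have h1 := conj_comm (g := g) (h _ hl)
    have e1 : ∀ y, g * (g⁻¹ * y * g) * g⁻¹ = y := by intro y; group
    rwa [e1, e1] at h1

theorem B_comm [Finite G] {b c : G} (hbx : b * x0 = x0 * b) (hbz : b * z = z * b) (hbe : b * e = e * b)
    (hcx : c * x0 = x0 * c) (hcz : c * z = z * c) (hce : c * e = e * c) : b * c * b⁻¹ * c⁻¹ ∈ zpowers x0 := by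
  apply H.X_eq
  · exact H.S1.comm_cent (H.norm_of_comm hbx hbz).1 (H.norm_of_comm hcx hcz).1 (H.B_a1 hbx hbz hbe)
      (H.B_a1 hcx hcz hce)
  · rw [cent_cg_iff]
    have hb := H.g_B' hbz hbe
    have hc := H.g_B' hcz hce
    have hb' := H.comm_g' hbx
    have hc' := H.comm_g' hcx
    have h := H.S1.comm_cent (H.norm_of_comm hb' hb.1).1 (H.norm_of_comm hc' hc.1).1 (H.B_a1 hb' hb.1 hb.2)
      (H.B_a1 hc' hc.1 hc.2)
    have e1 : g⁻¹ * (b * c * b⁻¹ * c⁻¹) * g =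
        (g⁻¹ * b * g) * (g⁻¹ * c * g) * (g⁻¹ * b * g)⁻¹ * (g⁻¹ * c * g)⁻¹ := by group
    rw [e1]; exact h

/-- elements of `D` centralising `L1` commute with `e` -/
theorem E_e {d : G} (hx : d * x0 = x0 * d) (h1 : ∀ l ∈ L1, d * l = l * d) : d * e = e * d := by
  have hz : d * z = z * d := h1 z H.S1.z_mem
  have hn := H.norm_of_comm hx hz
  have hc1 := H.S1.comm_cent hn.1 H.e_norm1 (h1 a1 H.S1.a_mem) H.S1.a_e.symm
  have hc2 := H.S2.comm_cent hn.2 H.e_norm2 (H.D_a2 hx hz) H.S2.a_e.symm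
  rcases H.conj_e_cases hc1 hc2 with h | h
  · exact mul_inv_eq_iff_eq_mul.1 h
  · exfalso
    obtain ⟨n, hn1, -, hn3, hn4⟩ := H.exists_n
    set b := n⁻¹ * d with hb
    have hbx : b * x0 = x0 * b :=
      ((show Commute n x0 from (H.x0_1 n hn1).symm).inv_left.mul_left (show Commute d x0 from hx)).eq
    have hbz : b * z = z * b :=
      ((show Commute n z from (H.S1.z_comm n hn1).symm).inv_left.mul_left (show Commute d z from hz)).eq
    have hbe : b * e = e * b := by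
      apply mul_inv_eq_iff_eq_mul.1
      calc b * e * b⁻¹ = n⁻¹ * (d * e * d⁻¹) * n := by rw [hb]; group
        _ = n⁻¹ * (n * e * n⁻¹) * n := by rw [h, hn4]
        _ = e := by group
    have hba := H.B_a1 hbx hbz hbe
    have hna : n * a1 * n⁻¹ = a1 := by
      have e1 : n = d * b⁻¹ := by rw [hb]; group
      have h3 : Commute b a1 := hba
      have h4 : Commute d a1 := h1 a1 H.S1.a_mem
      have h5 : Commute n a1 := by rw [e1]; exact h4.mul_left h3.inv_left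
      rw [h5.eq, mul_inv_cancel_right]
    rw [hn3 a1 H.S1.a_mem H.S1.a_e] at hna
    have h6 : a1 * a1 = 1 := by
      calc a1 * a1 = a1⁻¹ * a1 := by rw [hna]
        _ = 1 := inv_mul_cancel a1
    exact H.a1_ne (eq_one_of_sq_of_pow h6 H.S1.odd H.a1_pow)

/-- elements of `T2` commute with `x0` -/
theorem T2_x0 {t : G} (ht : t ∈ L2) (hte : t * e = e * t) : t * x0 = x0 * t := by
  have h1 := H.x0_2 t ht
  have h2 : Commute t (a2 ^ (-2 : ℤ)) := (show Commute t a2 from (H.S2.cent t ht).1 hte).zpow_right _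
  rw [← h2.eq, mul_inv_cancel_right] at h1
  exact (mul_inv_eq_iff_eq_mul.1 h1).symm

theorem zpow_T2X {t : G} (ht : t ∈ L2) (hx : t ∈ zpowers x0) : t = 1 := by
  apply H.T2X t ht
  intro l hl
  obtain ⟨m, rfl⟩ := mem_zpowers_iff.1 hx
  exact ((show Commute x0 l from Inp.cent_cg H.x0_g H.x0_1 l hl).zpow_left m).eq

/-- the centraliser of `L1` in the centraliser of `x0` is `T2 X` -/
theorem E_eq [Finite G] {d : G} (hx : d * x0 = x0 * d) (h1 : ∀ l ∈ L1, d * l = l * d) :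
    ∃ t ∈ L2, t * e = e * t ∧ ∃ x ∈ zpowers x0, d = t * x := by
  have he := H.E_e hx h1
  have hz : d * z = z * d := h1 z H.S1.z_mem
  obtain ⟨u, v, s, r, hr, hd, hu, hv⟩ := exists_two_odd (orderOf_pos d)
  have hzp : ∀ (j : ℤ) (y : G), d * y = y * d → d ^ j * y = y * d ^ j :=
    fun j y h => ((show Commute d y from h).zpow_left j).eq
  -- the `2`-part
  have hvL := H.two _ (fun l hl => hzp v l (h1 l hl)) ⟨s, hv⟩
  -- the odd part
  set d1 := d ^ u with hd1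
  have h11 : ∀ l ∈ L1, d1 * l = l * d1 := fun l hl => hzp u l (h1 l hl)
  have h1x := hzp u x0 hx
  have h1z := hzp u z hz
  have h1e := hzp u e he
  have hc := H.g_B' h1z h1e
  have hcx := H.comm_g' h1x
  obtain ⟨t', ht', ht''⟩ := H.S1.fix_odd (g⁻¹ * d1 * g) (mem_normalizer_iff_cg.2 (H.norm_of_comm hcx hc.1).1)
    (H.B_a1 hcx hc.1 hc.2) r hr (by
      intro l _
      rw [Core.conj_pow_eq' r hu, one_mul, mul_one])
  -- the action of `a2`
  have ha2x := H.T2_x0 H.S2.a_mem H.S2.a_e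
  have ha2z : a2 * z = z * a2 := (H.S2.z_comm a2 H.S2.a_mem).symm
  have hac := H.g_B' ha2z H.S2.a_e
  have hacx := H.comm_g' ha2x
  obtain ⟨t, ht, htt⟩ := H.S1.fix_odd (g⁻¹ * a2 * g) (mem_normalizer_iff_cg.2 (H.norm_of_comm hacx hac.1).1)
    (H.B_a1 hacx hac.1 hac.2) N H.S1.odd (by
      intro l _
      rw [Core.conj_pow_eq' N H.a2_pow, one_mul, mul_one])
  have htL : t ∈ L1 := by
    obtain ⟨m, rfl⟩ := mem_zpowers_iff.1 ht
    exact zpow_mem H.S1.a_mem _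
  -- `g⁻¹ a2 g` acts on `L1` as `t`, with powers
  have hpow : ∀ m : ℤ, ∀ l ∈ L1, (g⁻¹ * a2 * g) ^ m * l * ((g⁻¹ * a2 * g) ^ m)⁻¹ = t ^ m * l * (t ^ m)⁻¹ := by
    intro m l hl
    set y := t⁻¹ * (g⁻¹ * a2 * g) with hy
    have hyc : ∀ l ∈ L1, y * l = l * y := by
      intro l hl
      apply mul_inv_eq_iff_eq_mul.1
      calc y * l * y⁻¹ = t⁻¹ * ((g⁻¹ * a2 * g) * l * (g⁻¹ * a2 * g)⁻¹) * t := by rw [hy]; group
        _ = l := by rw [htt l hl]; group
    have hxy : (g⁻¹ * a2 * g) = t * y := by rw [hy]; group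
    have hc : Commute t y := (hyc t htL).symm
    have h1 : Commute (y ^ m) l := (show Commute y l from hyc l hl).zpow_left m
    calc (g⁻¹ * a2 * g) ^ m * l * ((g⁻¹ * a2 * g) ^ m)⁻¹ = t ^ m * (y ^ m * l * (y ^ m)⁻¹) * (t ^ m)⁻¹ := by
          rw [hxy, hc.mul_zpow]; group
      _ = t ^ m * l * (t ^ m)⁻¹ := by rw [h1.eq, mul_inv_cancel_right]
  have hcj : ∀ m : ℤ, (g⁻¹ * a2 * g) ^ m = g⁻¹ * a2 ^ m * g := by
    intro m
    have := conj_zpow (i := m) (a := g⁻¹) (b := a2)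
    rwa [inv_inv] at this
  have htord : orderOf t = N := by
    apply Nat.dvd_antisymm
    · apply orderOf_dvd_of_pow_eq_one
      obtain ⟨m, rfl⟩ := mem_zpowers_iff.1 ht
      rw [← zpow_natCast, ← zpow_mul, mul_comm, zpow_mul, zpow_natCast, H.a1_pow, one_zpow]
    · rw [← H.S2.ord]
      apply orderOf_dvd_of_pow_eq_one
      apply H.T2X _ (pow_mem H.S2.a_mem _)
      rw [cent_cg_iff]
      intro l hl
      have h2 := hpow (orderOf t : ℕ) l hl
      rw [zpow_natCast, zpow_natCast, pow_orderOf_eq_one, one_mul, inv_one, mul_one, ← zpow_natCast, hcj,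
        zpow_natCast] at h2
      exact mul_inv_eq_iff_eq_mul.1 h2
  have hzp' : zpowers t = zpowers a1 := zpowers_eq_of_mem ht (by rw [htord, H.S1.ord]) (by
    rw [H.S1.ord]; have := H.S1.one_lt; omega)
  rw [← hzp'] at ht'
  obtain ⟨i, hi⟩ := mem_zpowers_iff.1 ht'
  have ha2i : ∀ y : G, a2 * y = y * a2 → a2 ^ (-i) * y = y * a2 ^ (-i) :=
    fun y h => ((show Commute a2 y from h).zpow_left (-i)).eq
  have hX : a2 ^ (-i) * d1 ∈ zpowers x0 := by
    apply H.X_eq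
    · intro l hl
      have h2 : Commute (a2 ^ (-i)) l := (H.comm l hl _ (zpow_mem H.S2.a_mem _)).symm
      exact (h2.mul_left (show Commute d1 l from h11 l hl)).eq
    · rw [cent_cg_iff]
      intro l hl
      apply mul_inv_eq_iff_eq_mul.1
      calc g⁻¹ * (a2 ^ (-i) * d1) * g * l * (g⁻¹ * (a2 ^ (-i) * d1) * g)⁻¹
          = (g⁻¹ * a2 ^ i * g)⁻¹ * ((g⁻¹ * d1 * g) * l * (g⁻¹ * d1 * g)⁻¹) * (g⁻¹ * a2 ^ i * g) := by group
        _ = ((g⁻¹ * a2 * g) ^ i)⁻¹ * (t ^ i * l * (t ^ i)⁻¹) * (g⁻¹ * a2 * g) ^ i := by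
            rw [ht'' l hl, ← hi, hcj]
        _ = ((g⁻¹ * a2 * g) ^ i)⁻¹ * ((g⁻¹ * a2 * g) ^ i * l * ((g⁻¹ * a2 * g) ^ i)⁻¹) * (g⁻¹ * a2 * g) ^ i := by
            rw [hpow i l hl]
        _ = l := by group
  have hve : d ^ v * e = e * d ^ v := hzp v e he
  have hvx : d ^ v * x0 = x0 * d ^ v := hzp v x0 hx
  refine ⟨d ^ v * a2 ^ i, mul_mem hvL (zpow_mem H.S2.a_mem _), ?_, a2 ^ (-i) * d1, hX, ?_⟩
  · exact ((show Commute (d ^ v) e from hve).mul_left ((show Commute a2 e from H.S2.a_e).zpow_left i)).eq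
  · calc d = d1 * d ^ v := hd
      _ = d ^ v * d1 := by rw [hd1, ← zpow_add, ← zpow_add, add_comm]
      _ = d ^ v * a2 ^ i * (a2 ^ (-i) * d1) := by group

end Loc

end Cfsg.Agent.LFourR
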