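import Mathlib
import Cfsg.Agent.LFourR.R2a

/-!
The outer element `f`, the structure of `D`, the subgroup `Ĵ = ⟨L1, g L1 g⁻¹, x0⟩`.
-/

set_option autoImplicit false

namespace Cfsg.Agent.LFourR

open Subgroup

variable {G : Type*} [Group G]

/-- the subgroup generated by `L1`, `g L1 g⁻¹` and `x0` -/
def Jhat (g x0 : G) (L1 : Subgroup G) : Subgroup G := L1 ⊔ cg g L1 ⊔ zpowers x0

namespace Loc

variable {F : Type*} [Field F] [Fintype F]
variable {ε : ℤ} {N k : ℕ} {z e g x0 a1 a2 : G} {L1 L2 : Subgroup G}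
variable (H : Loc F ε N k z e g x0 a1 a2 L1 L2)
include H

omit [Field F] [Fintype F] H in
theorem L1_le_J : L1 ≤ Jhat g x0 L1 := le_sup_of_le_left le_sup_left

omit [Field F] [Fintype F] H in
theorem cg_le_J : cg g L1 ≤ Jhat g x0 L1 := le_sup_of_le_left le_sup_right

omit [Field F] [Fintype F] H in
theorem X_le_J : zpowers x0 ≤ Jhat g x0 L1 := le_sup_right

omit [Field F] [Fintype F] H in
theorem x0_mem_J : x0 ∈ Jhat g x0 L1 := X_le_J (mem_zpowers x0)

theorem g_mem_J : g ∈ Jhat g x0 L1 := (le_sup_left : L1 ⊔ cg g L1 ≤ _) H.g_mem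

theorem z_mem_J : z ∈ Jhat g x0 L1 := L1_le_J H.S1.z_mem

theorem e_mem_cg : e ∈ cg g L1 := by rw [← H.g_z]; exact conj_mem_cg H.S1.z_mem

theorem e_mem_J : e ∈ Jhat g x0 L1 := cg_le_J H.e_mem_cg

theorem J_x0 {j : G} (hj : j ∈ Jhat g x0 L1) : j * x0 = x0 * j := by
  have h1 : Jhat g x0 L1 ≤ centralizer {x0} := by
    refine sup_le (sup_le ?_ ?_) ?_
    · intro l hl
      rw [mem_centralizer_singleton_iff]; exact (H.x0_1 l hl).symm
    · intro l hl
      rw [mem_centralizer_singleton_iff]; exact (Inp.cent_cg H.x0_g H.x0_1 l hl).symm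
    · rw [zpowers_le, mem_centralizer_singleton_iff]
  exact mem_centralizer_singleton_iff.1 (h1 hj)

theorem x0_odd {x : G} (hx : x ∈ zpowers x0) : x ^ N = 1 := by
  obtain ⟨m, rfl⟩ := mem_zpowers_iff.1 hx
  rw [← zpow_natCast, ← zpow_mul, mul_comm, zpow_mul, zpow_natCast, H.x0_pow, one_zpow]

/-- elements of `X` are central in the centraliser of `x0` -/
theorem X_comm {x y : G} (hx : x ∈ zpowers x0) (hy : y * x0 = x0 * y) : x * y = y * x := by
  obtain ⟨m, rfl⟩ := mem_zpowers_iff.1 hx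
  exact ((show Commute y x0 from hy).symm.zpow_left m).eq

/-- involutions of `B` modulo `X` -/
theorem invol_B [Finite G] {b : G} (hbx : b * x0 = x0 * b) (hbz : b * z = z * b) (hbe : b * e = e * b)
    (hbb : b * b ∈ zpowers x0) : ∃ v ∈ Jhat g x0 L1, ∃ x ∈ zpowers x0, b = v * x := by
  have key : ∀ c : G, c * x0 = x0 * c → (∀ l ∈ L1, c * l = l * c) → c * c ∈ zpowers x0 →
      ∃ v : G, (v = 1 ∨ v = z) ∧ ∃ x ∈ zpowers x0, c = v * x := by
    intro c hcx hc1 hcc
    obtain ⟨t, ht, hte, x, hx, rfl⟩ := H.E_eq hcx hc1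
    have htx := H.T2_x0 ht hte
    have hxt := H.X_comm hx htx
    have h1 : t * t ∈ zpowers x0 := by
      have e1 : t * t = (t * x * (t * x)) * (x * x)⁻¹ := by
        calc t * t = t * (t * x) * x⁻¹ := by group
          _ = t * (x * t) * x⁻¹ := by rw [hxt]
          _ = (t * x * (t * x)) * (x * x)⁻¹ := by group
      rw [e1]
      exact mul_mem hcc (inv_mem (mul_mem hx hx))
    have h2 : t * t = 1 := H.zpow_T2X (mul_mem ht ht) h1
    exact ⟨t, H.S2.invol t ht h2, x, hx, rfl⟩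
  have hb := H.norm_of_comm hbx hbz
  have hbb1 : ∀ l ∈ L1, (b * b) * l = l * (b * b) := by
    intro l hl
    exact H.X_comm hbb (H.x0_1 l hl).symm
  rcases H.S1.invol_unique b (mem_normalizer_iff_cg.2 hb.1) (H.B_a1 hbx hbz hbe) hbb1 with h | h
  · obtain ⟨v, hv, x, hx, rfl⟩ := key b hbx h hbb
    refine ⟨v, ?_, x, hx, rfl⟩
    rcases hv with rfl | rfl
    · exact one_mem _
    · exact H.z_mem_J
  · have hex := H.x0_comm_e
    have hbe' : Commute b e := hbe
    obtain ⟨v, hv, x, hx, hvx⟩ := key (b * e) (by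
        exact ((show Commute b x0 from hbx).mul_left (show Commute e x0 from hex.symm)).eq) (by
        intro l hl
        have hl' : e * l * e⁻¹ ∈ L1 := Core.norm_mem1 H.e_norm1 hl
        have h1 := h _ hl'
        apply mul_inv_eq_iff_eq_mul.1
        have hee : e⁻¹ = e := inv_eq_of_mul_eq_one_right H.ee
        calc b * e * l * (b * e)⁻¹ = b * (e * l * e⁻¹) * b⁻¹ := by group
          _ = e * (e * l * e⁻¹) * e⁻¹ := h1
          _ = (e * e) * l * (e⁻¹ * e⁻¹) := by group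
          _ = l := by rw [hee, H.ee, one_mul, mul_one]) (by
        have e1 : b * e * (b * e) = b * b := by
          calc b * e * (b * e) = b * (e * b) * e := by group
            _ = b * (b * e) * e := by rw [hbe]
            _ = b * b * (e * e) := by group
            _ = b * b := by rw [H.ee, mul_one]
        rw [e1]; exact hbb)
    have hb2 : b = v * e * x := by
      calc b = b * e * e := by rw [mul_assoc, H.ee, mul_one]
        _ = v * (x * e) := by rw [hvx, mul_assoc]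
        _ = v * e * x := by rw [H.X_comm hx H.x0_comm_e.symm, mul_assoc]
    refine ⟨v * e, mul_mem ?_ H.e_mem_J, x, hx, hb2⟩
    rcases hv with rfl | rfl
    · exact one_mem _
    · exact H.z_mem_J

/-- not induced by an element of `T1` -/
def Outer (e : G) (L1 : Subgroup G) (f : G) : Prop :=
  ¬ ∃ s ∈ L1, s * e = e * s ∧ ∀ l ∈ L1, f * l * f⁻¹ = s * l * s⁻¹

theorem T1_pow {s : G} (hs : s ∈ L1) (hse : s * e = e * s) : s ^ (N * 2 ^ k) = 1 := by
  have hmem : s ∈ (L1 ⊓ centralizer {e} : Subgroup G) := mem_inf.2 ⟨hs, mem_centralizer_singleton_iff.2 hse⟩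
  have := pow_card_eq_one' (x := (⟨s, hmem⟩ : (L1 ⊓ centralizer {e} : Subgroup G)))
  rw [H.S1.T_card] at this
  exact congrArg Subtype.val this

theorem z_pow_N : z ^ N = z := by
  obtain ⟨r, hr⟩ := H.S1.odd
  rw [hr, pow_succ, pow_mul, pow_two, H.zz, one_pow, one_mul]

/-- if `s ∈ T1` acts as `e`, then `s * s = z` -/
theorem sq_of_e {s : G} (hs : s ∈ L1) (h : ∀ l ∈ L1, e * l * e⁻¹ = s * l * s⁻¹) : s * s = z := by
  have hss : ∀ l ∈ L1, s * s * l = l * (s * s) := by
    intro l hl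
    have h1 := h _ (mul_mem (mul_mem hs hl) (inv_mem hs))
    have h2 := h l hl
    apply mul_inv_eq_iff_eq_mul.1
    have hee : e⁻¹ = e := inv_eq_of_mul_eq_one_right H.ee
    calc s * s * l * (s * s)⁻¹ = s * (s * l * s⁻¹) * s⁻¹ := by group
      _ = e * (e * l * e⁻¹) * e⁻¹ := by rw [← h1, ← h2]
      _ = (e * e) * l * (e⁻¹ * e⁻¹) := by group
      _ = l := by rw [hee, H.ee, one_mul, mul_one]
  rcases H.S1.center _ (mul_mem hs hs) hss with h1 | h1
  · exfalso
    have h2 : ∀ l ∈ L1, s * l = l * s := by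
      rcases H.S1.invol s hs h1 with rfl | rfl
      · intro l _; rw [one_mul, mul_one]
      · exact H.S1.z_comm
    apply H.S1.not_comm
    intro l hl
    have h3 := h l hl
    rw [h2 l hl, mul_inv_cancel_right] at h3
    exact mul_inv_eq_iff_eq_mul.1 h3
  · exact h1

/-- `e = v ^ 2 ^ (k-1)` cannot be a power of an element of `T1` acting on `L1`: an element of order `2 ^ (k + 1)` -/
theorem no_root {s : G} (hs : s ∈ L1) (hse : s * e = e * s)
    (h : ∀ l ∈ L1, e * l * e⁻¹ = s ^ 2 ^ (k - 1) * l * (s ^ 2 ^ (k - 1))⁻¹) (hk : 1 ≤ k) : False := by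
  have h1 := H.sq_of_e (pow_mem hs _) h
  rw [← pow_add, ← two_mul, ← pow_succ', Nat.sub_add_cancel hk] at h1
  have h2 := H.T1_pow hs hse
  rw [mul_comm, pow_mul, h1, H.z_pow_N] at h2
  exact H.S1.z_ne h2

omit [Field F] [Fintype F] H in
theorem act_mul {x y s t : G} (hs : s ∈ L1) (ht : t ∈ L1) (hx : ∀ l ∈ L1, x * l * x⁻¹ = s * l * s⁻¹)
    (hy : ∀ l ∈ L1, y * l * y⁻¹ = t * l * t⁻¹) : ∀ l ∈ L1, (x * y) * l * (x * y)⁻¹ = (s * t) * l * (s * t)⁻¹ := by
  intro l hl
  calc (x * y) * l * (x * y)⁻¹ = x * (y * l * y⁻¹) * x⁻¹ := by group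
    _ = s * (t * l * t⁻¹) * s⁻¹ := by rw [hy l hl, hx _ (mul_mem (mul_mem ht hl) (inv_mem ht))]
    _ = _ := by group

omit [Field F] [Fintype F] H in
theorem act_inv {x s : G} (hs : s ∈ L1) (hx : ∀ l ∈ L1, x * l * x⁻¹ = s * l * s⁻¹) :
    ∀ l ∈ L1, x⁻¹ * l * x⁻¹⁻¹ = s⁻¹ * l * s⁻¹⁻¹ := by
  intro l hl
  have h := hx (s⁻¹ * l * s) (mul_mem (mul_mem (inv_mem hs) hl) hs)
  have e1 : s * (s⁻¹ * l * s) * s⁻¹ = l := by group
  rw [e1] at h
  calc x⁻¹ * l * x⁻¹⁻¹ = x⁻¹ * (x * (s⁻¹ * l * s) * x⁻¹) * x := by rw [h]; group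
    _ = _ := by group

/-- a decomposition of `D` relative to an outer element -/
theorem D_cover [Finite G] {f : G} (hfx : f * x0 = x0 * f) (hfz : f * z = z * f) (hfe : f * e = e * f)
    (hf : Outer e L1 f) {d : G} (hx : d * x0 = x0 * d) (hz : d * z = z * d) :
    ∃ l ∈ L1, ∃ t ∈ L2, t * e = e * t ∧ ∃ x ∈ zpowers x0, d = l * t * x ∨ d = l * t * x * f := by
  obtain ⟨s, hs, hse⟩ := H.D_split hx hz
  have hsx : s * x0 = x0 * s := (H.x0_1 s hs).symm
  have hsz : s * z = z * s := (H.S1.z_comm s hs).symm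
  set b := s * d with hb
  have hbx : b * x0 = x0 * b := ((show Commute s x0 from hsx).mul_left (show Commute d x0 from hx)).eq
  have hbz : b * z = z * b := ((show Commute s z from hsz).mul_left (show Commute d z from hz)).eq
  have hbn := H.norm_of_comm hbx hbz
  have hfn := H.norm_of_comm hfx hfz
  have hba := H.B_a1 hbx hbz hse
  have hfa := H.B_a1 hfx hfz hfe
  -- inner elements
  have inner : ∀ c : G, c * x0 = x0 * c → (∃ s ∈ L1, s * e = e * s ∧ ∀ l ∈ L1, c * l * c⁻¹ = s * l * s⁻¹) →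
      ∃ l ∈ L1, ∃ t ∈ L2, t * e = e * t ∧ ∃ x ∈ zpowers x0, c = l * t * x := by
    rintro c hcx ⟨s', hs', -, hact⟩
    have hc1 : ∀ l ∈ L1, (s'⁻¹ * c) * l = l * (s'⁻¹ * c) := by
      intro l hl
      apply mul_inv_eq_iff_eq_mul.1
      calc s'⁻¹ * c * l * (s'⁻¹ * c)⁻¹ = s'⁻¹ * (c * l * c⁻¹) * s' := by group
        _ = l := by rw [hact l hl]; group
    obtain ⟨t, ht, hte, x, hx, htx⟩ := H.E_eq
      ((show Commute s' x0 from (H.x0_1 s' hs').symm).inv_left.mul_left (show Commute c x0 from hcx)).eq hc1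
    refine ⟨s', hs', t, ht, hte, x, hx, ?_⟩
    rw [mul_assoc, ← htx]; group
  by_cases hin : ∃ s ∈ L1, s * e = e * s ∧ ∀ l ∈ L1, b * l * b⁻¹ = s * l * s⁻¹
  · obtain ⟨l, hl, t, ht, hte, x, hx, hlt⟩ := inner b hbx hin
    refine ⟨s⁻¹ * l, mul_mem (inv_mem hs) hl, t, ht, hte, x, hx, Or.inl ?_⟩
    calc d = s⁻¹ * b := by rw [hb]; group
      _ = _ := by rw [hlt]; group
  · have hfinv : ¬ ∃ s ∈ L1, s * e = e * s ∧ ∀ l ∈ L1, f⁻¹ * l * f⁻¹⁻¹ = s * l * s⁻¹ := by
      rintro ⟨s', hs', hse', h⟩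
      apply hf
      refine ⟨s'⁻¹, inv_mem hs', (show Commute s' e from hse').inv_left.eq, ?_⟩
      have := act_inv hs' h
      rw [inv_inv] at this
      exact this
    have hbf := H.S1.outer_mul b (mem_normalizer_iff_cg.2 hbn.1) f⁻¹ (inv_mem (mem_normalizer_iff_cg.2 hfn.1)) hba
      (show Commute f a1 from hfa).inv_left.eq hin hfinv
    have hbfx : (b * f⁻¹) * x0 = x0 * (b * f⁻¹) :=
      ((show Commute b x0 from hbx).mul_left (show Commute f x0 from hfx).inv_left).eq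
    obtain ⟨l, hl, t, ht, hte, x, hx, hlt⟩ := inner (b * f⁻¹) hbfx hbf
    refine ⟨s⁻¹ * l, mul_mem (inv_mem hs) hl, t, ht, hte, x, hx, Or.inr ?_⟩
    calc d = s⁻¹ * (b * f⁻¹) * f := by rw [hb]; group
      _ = _ := by rw [hlt]; group

/-- the elements of `B` normalise `Ĵ` -/
theorem B_norm_J {b : G} (hbx : b * x0 = x0 * b) (hbz : b * z = z * b) (hbe : b * e = e * b) {j : G}
    (hj : j ∈ Jhat g x0 L1) : b * j * b⁻¹ ∈ Jhat g x0 L1 := by
  have h1 := H.norm_of_comm hbx hbz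
  have h2 := H.norm_of_comm (H.comm_g' hbx) (H.g_B' hbz hbe).1
  have h3 : cg b (cg g L1) = cg g L1 := by
    have : cg b (cg g L1) = cg g (cg (g⁻¹ * b * g) L1) := by
      rw [← cg_mul, ← cg_mul]; congr 1; group
    rw [this, h2.1]
  have h4 : cg b (zpowers x0) = zpowers x0 := by
    apply cg_eq_of_comm
    intro l hl
    exact (H.X_comm hl hbx).symm
  have h5 : cg b (Jhat g x0 L1) = Jhat g x0 L1 := by
    rw [Jhat, cg, Subgroup.map_sup, Subgroup.map_sup]
    change cg b L1 ⊔ cg b (cg g L1) ⊔ cg b (zpowers x0) = _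
    rw [h1.1, h3, h4]
  rw [← h5]
  exact conj_mem_cg hj

/-- the existence of the outer element -/
theorem exists_f [Finite G] : ∃ f t1 u : G, f * x0 = x0 * f ∧ f * z = z * f ∧ f * e = e * f ∧ Outer e L1 f ∧
    f ∈ Jhat g x0 L1 ∧ t1 ∈ L1 ∧ u ∈ L2 ∧ u * e = e * u ∧ u ∈ Jhat g x0 L1 ∧ f * f = t1 * u ∧
    ((k = 1 ∧ t1 = 1 ∧ u = 1) ∨ (k = 2 ∧ t1 * t1 = z ∧ u * u = z)) := by
  rcases H.f with hk | ⟨hk, f, hff, hfz, hfa1, hfa2, hfx⟩
  · refine ⟨e, 1, 1, H.x0_comm_e.symm, H.ze.symm, rfl, ?_, H.e_mem_J, one_mem _, one_mem _, by rw [one_mul, mul_one],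
      one_mem _, by rw [H.ee, one_mul], Or.inl ⟨hk, rfl, rfl⟩⟩
    rintro ⟨s, hs, hse, h⟩
    apply H.no_root hs hse _ (by omega)
    rw [hk]
    simpa using h
  · have hfe : f * e = e * f := by rw [← hff, mul_assoc]
    have hfn := H.norm_of_comm hfx hfz
    have hfo : Outer e L1 f := by
      rintro ⟨s, hs, hse, h⟩
      apply H.no_root hs hse _ (by omega)
      rw [hk]
      have := act_mul hs hs h h
      rw [hff] at this
      simpa [pow_two] using this
    -- `f * f = e` is inner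
    obtain ⟨t1, ht1, ht1e, hact⟩ := H.S1.outer_mul f (mem_normalizer_iff_cg.2 hfn.1) f
      (mem_normalizer_iff_cg.2 hfn.1) hfa1 hfa1 hfo hfo
    rw [hff] at hact
    have ht1sq := H.sq_of_e ht1 hact
    have hu1 : ∀ l ∈ L1, (t1⁻¹ * e) * l = l * (t1⁻¹ * e) := by
      intro l hl
      apply mul_inv_eq_iff_eq_mul.1
      calc t1⁻¹ * e * l * (t1⁻¹ * e)⁻¹ = t1⁻¹ * (e * l * e⁻¹) * t1 := by group
        _ = l := by rw [hact l hl]; group
    obtain ⟨u, hu, hue, x, hx, hux⟩ := H.E_eq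
      ((show Commute t1 x0 from (H.x0_1 t1 ht1).symm).inv_left.mul_left (show Commute e x0 from H.x0_comm_e.symm)).eq
      hu1
    have he : e = t1 * u * x := by rw [mul_assoc, ← hux]; group
    have hux0 := H.T2_x0 hu hue
    have hxu := H.X_comm hx hux0
    have hxt := H.X_comm hx (H.x0_1 t1 ht1).symm
    have htu := H.comm t1 ht1 u hu
    have hsq : t1 * t1 * (u * u) * (x * x) = 1 := by
      calc t1 * t1 * (u * u) * (x * x) = t1 * (t1 * u) * (u * x) * x := by group
        _ = t1 * (u * t1) * (x * u) * x := by rw [htu, hxu]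
        _ = t1 * u * (t1 * x) * u * x := by group
        _ = t1 * u * (x * t1) * u * x := by rw [hxt]
        _ = (t1 * u * x) * (t1 * u * x) := by group
        _ = 1 := by rw [← he, H.ee]
    have hxx : x * x ∈ L2 := by
      have : x * x = (z * (u * u))⁻¹ := by
        rw [ht1sq] at hsq
        exact (inv_eq_of_mul_eq_one_right hsq).symm
      rw [this]
      exact inv_mem (mul_mem H.S2.z_mem (mul_mem hu hu))
    have hxx1 : x * x = 1 := H.zpow_T2X hxx (mul_mem hx hx)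
    have hx1 : x = 1 := eq_one_of_sq_of_pow hxx1 H.S1.odd (H.x0_odd hx)
    rw [hx1, mul_one] at he
    have huu : u * u = z := by
      rw [ht1sq, hxx1, mul_one] at hsq
      calc u * u = z * z * (u * u) := by rw [H.zz, one_mul]
        _ = z * (z * (u * u)) := by group
        _ = z := by rw [hsq, mul_one]
    have huJ : u ∈ Jhat g x0 L1 := by
      have : u = t1⁻¹ * e := by rw [he]; group
      rw [this]
      exact mul_mem (inv_mem (L1_le_J ht1)) H.e_mem_J
    refine ⟨f, t1, u, hfx, hfz, hfe, hfo, ?_, ht1, hu, hue, huJ, by rw [hff, ← he], Or.inr ⟨hk, ht1sq, huu⟩⟩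
    -- `f ∈ Ĵ`
    set f2 := g * f * g⁻¹ with hf2
    set f3 := g * f2 * g⁻¹ with hf3
    have h2 := H.g_B hfz hfe
    have h2x := H.comm_g hfx
    have h3 := H.g_B h2.1 h2.2
    have h3x := H.comm_g h2x
    rw [← hf2] at h2 h2x h3 h3x
    rw [← hf3] at h3 h3x
    have c1 := H.B_comm h3x h3.1 h3.2 hfx hfz hfe
    have c2 := H.B_comm h3x h3.1 h3.2 h2x h2.1 h2.2
    have c3 := H.B_comm h2x h2.1 h2.2 hfx hfz hfe
    have e2 : f2 * f2 = z * e := by
      calc f2 * f2 = g * (f * f) * g⁻¹ := by rw [hf2]; group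
        _ = z * e := by rw [hff, H.g_e]
    have e3 : f3 * f3 = z := by
      calc f3 * f3 = g * (f2 * f2) * g⁻¹ := by rw [hf3]; group
        _ = z := by rw [e2, H.g_ze]
    have hp : (f * f2 * f3) * (f * f2 * f3) ∈ zpowers x0 := by
      set d1 := f3 * f * f3⁻¹ * f⁻¹ with hd1
      set d2 := f3 * f2 * f3⁻¹ * f2⁻¹ with hd2
      set d3 := f2 * f * f2⁻¹ * f⁻¹ with hd3
      have g1 : f3 * f = d1 * (f * f3) := by rw [hd1]; group
      have g2 : f3 * f2 = d2 * (f2 * f3) := by rw [hd2]; group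
      have g3 : f2 * f = d3 * (f * f2) := by rw [hd3]; group
      have x1f := H.X_comm c1 hfx
      have x1f2 := H.X_comm c1 h2x
      have x2f := H.X_comm c2 hfx
      have x2f2 := H.X_comm c2 h2x
      have x3f := H.X_comm c3 hfx
      have hef3 : Commute f3 z := h3.1
      have : (f * f2 * f3) * (f * f2 * f3) = d1 * d2 * d3 := by
        calc (f * f2 * f3) * (f * f2 * f3) = f * f2 * (f3 * f) * f2 * f3 := by group
          _ = f * (f2 * d1) * (f * f3) * f2 * f3 := by rw [g1]; group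
          _ = (f * d1) * f2 * f * f3 * f2 * f3 := by rw [← x1f2]; group
          _ = d1 * (f * f2 * f * (f3 * f2) * f3) := by rw [← x1f]; group
          _ = d1 * (f * f2 * (f * d2) * (f2 * f3) * f3) := by rw [g2]; group
          _ = d1 * (f * (f2 * d2) * f * (f2 * f3) * f3) := by rw [← x2f]; group
          _ = d1 * ((f * d2) * f2 * f * (f2 * f3) * f3) := by rw [← x2f2]; group
          _ = d1 * (d2 * (f * (f2 * f) * (f2 * f3) * f3)) := by rw [← x2f]; group
          _ = d1 * (d2 * ((f * d3) * (f * f2) * (f2 * f3) * f3)) := by rw [g3]; group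
          _ = d1 * d2 * (d3 * ((f * f) * (f2 * f2) * (f3 * f3))) := by rw [← x3f]; group
          _ = d1 * d2 * d3 := by
              rw [hff, e2, e3]
              have : e * (z * e) * z = 1 := by
                rw [H.ze, ← mul_assoc e e z, H.ee, one_mul, H.zz]
              rw [this, mul_one]
      rw [this]
      exact mul_mem (mul_mem c1 c2) c3
    have hpx : (f * f2 * f3) * x0 = x0 * (f * f2 * f3) :=
      (((show Commute f x0 from hfx).mul_left (show Commute f2 x0 from h2x)).mul_left (show Commute f3 x0 from h3x)).eq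
    have hpz : (f * f2 * f3) * z = z * (f * f2 * f3) :=
      (((show Commute f z from hfz).mul_left (show Commute f2 z from h2.1)).mul_left (show Commute f3 z from h3.1)).eq
    have hpe : (f * f2 * f3) * e = e * (f * f2 * f3) :=
      (((show Commute f e from hfe).mul_left (show Commute f2 e from h2.2)).mul_left (show Commute f3 e from h3.2)).eq
    obtain ⟨v, hv, x', hx', hpv⟩ := H.invol_B hpx hpz hpe hp
    have hpJ : f * f2 * f3 ∈ Jhat g x0 L1 := by rw [hpv]; exact mul_mem hv (X_le_J hx')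
    -- `f2 = f * j2`, `f3 = f * j3`
    have hnJ : ∀ j ∈ Jhat g x0 L1, f⁻¹ * j * f ∈ Jhat g x0 L1 := by
      intro j hj
      have := H.B_norm_J (b := f⁻¹) (show Commute f x0 from hfx).inv_left.eq (show Commute f z from hfz).inv_left.eq
        (show Commute f e from hfe).inv_left.eq hj
      rwa [inv_inv] at this
    have hgJ := H.g_mem_J
    set j2 := f⁻¹ * g * f * g⁻¹ with hj2
    have hj2m : j2 ∈ Jhat g x0 L1 := mul_mem (hnJ g hgJ) (inv_mem hgJ)
    set j3 := f⁻¹ * g * f * (j2 * g⁻¹) with hj3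
    have hj3m : j3 ∈ Jhat g x0 L1 := mul_mem (hnJ g hgJ) (mul_mem hj2m (inv_mem hgJ))
    have h4 : f * f2 * f3 = e * f * ((f⁻¹ * j2 * f) * j3) := by
      rw [← hff, hf3, hf2, hj3, hj2]; group
    rw [h4] at hpJ
    have h5 : e * f ∈ Jhat g x0 L1 := by
      have := mul_mem hpJ (inv_mem (mul_mem (hnJ j2 hj2m) hj3m))
      rwa [mul_inv_cancel_right] at this
    have h6 := mul_mem (inv_mem H.e_mem_J) h5
    rwa [inv_mul_cancel_left] at h6

end Loc

end Cfsg.Agent.LFourR
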