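import Mathlib
import Cfsg.Agent.LFourR.R2b
import Cfsg.Agent.PermutationGroups.OddKlein

/-!
The quotient of `Ĵ` by `X` is simple; the centraliser of `z` in it.
-/

set_option autoImplicit false

namespace Cfsg.Agent.LFourR

open Subgroup
open scoped commutatorElement

theorem odd_of_fixed {M : Type*} [Finite M] (σ : M → M) (hσ : ∀ x, σ (σ x) = x)
    (h : Odd (Nat.card {x // σ x = x})) : Odd (Nat.card M) := by
  classical
  have := Fintype.ofFinite M
  set f : Equiv.Perm M := Function.Involutive.toPerm σ hσ with hf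
  have h0 : f ^ 2 ^ 1 = 1 := by
    ext x
    rw [pow_one, pow_two]
    exact hσ x
  have h1 := Equiv.Perm.card_compl_support_modEq h0
  have h2 : (f.supportᶜ).card = Nat.card {x // σ x = x} := by
    rw [← Nat.card_eq_finsetCard]
    apply Nat.card_congr
    refine Equiv.subtypeEquivRight ?_
    intro x
    rw [Finset.mem_compl, Equiv.Perm.mem_support, not_not]
    rfl
  have h3 : Fintype.card M = Nat.card M := (Nat.card_eq_fintype_card).symm
  have h4 : Nat.card {x // σ x = x} % 2 = Nat.card M % 2 := by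
    rw [← h2, ← h3]; exact h1
  rw [Nat.odd_iff] at h ⊢
  rw [← h4, h]

variable {G : Type*} [Group G]

/-- a perfect subgroup centralised modulo a central subgroup is centralised -/
theorem comm_of_perfect {L : Subgroup G} {z e : G} (hL : ⁅L, L⁆ = L) (hz : ∀ l ∈ L, z * l = l * z)
    (h : ∀ l ∈ L, e * l * e⁻¹ = l ∨ e * l * e⁻¹ = l * z) : ∀ l ∈ L, e * l = l * e := by
  have h1 : ⁅L, L⁆ ≤ centralizer {e} := by
    rw [Subgroup.commutator_le]
    intro x hx y hy
    rw [mem_centralizer_singleton_iff]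
    have hc : ∀ a b : G, (∀ l ∈ L, a * l = l * a) → (∀ l ∈ L, b * l = l * b) → a * b = b * a →
        ⁅x * a, y * b⁆ = ⁅x, y⁆ := by
      intro a b ha hb hab
      have e1 := ha x hx
      have e2 := ha y hy
      have e3 := hb x hx
      have e4 := hb y hy
      rw [commutatorElement_def, commutatorElement_def]
      calc x * a * (y * b) * (x * a)⁻¹ * (y * b)⁻¹
          = x * (a * y) * b * (a⁻¹ * x⁻¹) * (b⁻¹ * y⁻¹) := by group
        _ = x * (y * a) * b * (a⁻¹ * x⁻¹) * (b⁻¹ * y⁻¹) := by rw [e2]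
        _ = x * y * (a * b) * a⁻¹ * (x⁻¹ * b⁻¹) * y⁻¹ := by group
        _ = x * y * (b * a) * a⁻¹ * (b⁻¹ * x⁻¹) * y⁻¹ := by
            rw [hab]
            have : Commute x⁻¹ b⁻¹ := (show Commute x b from e3.symm).inv_inv
            rw [this.eq]
        _ = x * y * x⁻¹ * y⁻¹ := by group
    have he : e * ⁅x, y⁆ * e⁻¹ = ⁅e * x * e⁻¹, e * y * e⁻¹⁆ := by
      rw [commutatorElement_def, commutatorElement_def]; group
    have h2 : e * ⁅x, y⁆ * e⁻¹ = ⁅x, y⁆ := by
      rw [he]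
      rcases h x hx with hx' | hx' <;> rcases h y hy with hy' | hy' <;> rw [hx', hy']
      · have := hc 1 z (by intro l _; rw [one_mul, mul_one]) hz (by rw [one_mul, mul_one])
        rwa [mul_one] at this
      · have := hc z 1 hz (by intro l _; rw [one_mul, mul_one]) (by rw [one_mul, mul_one])
        rwa [mul_one] at this
      · exact hc z z hz hz rfl
    exact (mul_inv_eq_iff_eq_mul.1 h2).symm
  intro l hl
  rw [← hL] at hl
  exact (mem_centralizer_singleton_iff.1 (h1 hl)).symm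

namespace Loc

variable {F : Type*} [Field F] [Fintype F]
variable {ε : ℤ} {N k : ℕ} {z e g x0 a1 a2 : G} {L1 L2 : Subgroup G}
variable (H : Loc F ε N k z e g x0 a1 a2 L1 L2)
include H

theorem J_le_of_L1 {M : Subgroup G} (hL : L1 ≤ M) (hX : zpowers x0 ≤ M)
    (hn : ∀ j ∈ Jhat g x0 L1, ∀ m ∈ M, j * m * j⁻¹ ∈ M) : Jhat g x0 L1 ≤ M := by
  refine sup_le (sup_le hL ?_) hX
  rintro _ ⟨l, hl, rfl⟩
  exact hn g H.g_mem_J l (hL hl)

theorem M_inf {M : Subgroup G} (hL : ¬ L1 ≤ M) (hn : ∀ j ∈ Jhat g x0 L1, ∀ m ∈ M, j * m * j⁻¹ ∈ M) {x : G}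
    (hx : x ∈ M) (hx1 : x ∈ L1) : x = 1 ∨ x = z := by
  rcases H.S1.normal (M ⊓ L1) inf_le_right (fun l hl y hy =>
    mem_inf.2 ⟨hn l (L1_le_J hl) y (mem_inf.1 hy).1,
      L1.mul_mem (L1.mul_mem hl (mem_inf.1 hy).2) (L1.inv_mem hl)⟩) with h | h
  · exact h x (mem_inf.2 ⟨hx, hx1⟩)
  · exact absurd (h.trans inf_le_left) hL

theorem z_not_mem {M : Subgroup G} (hL : ¬ L1 ≤ M)
    (hn : ∀ j ∈ Jhat g x0 L1, ∀ m ∈ M, j * m * j⁻¹ ∈ M) : z ∉ M := by
  intro hz
  have he : e ∈ M := by rw [← H.g_z]; exact hn g H.g_mem_J z hz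
  apply H.S1.not_comm
  apply comm_of_perfect H.S1.perfect H.S1.z_comm
  intro l hl
  have h1 : e * l * e⁻¹ * l⁻¹ ∈ M := by
    have := mul_mem he (hn l (L1_le_J hl) e⁻¹ (inv_mem he))
    have e1 : e * (l * e⁻¹ * l⁻¹) = e * l * e⁻¹ * l⁻¹ := by group
    rwa [e1] at this
  have h2 : e * l * e⁻¹ * l⁻¹ ∈ L1 := mul_mem (Core.norm_mem1 H.e_norm1 hl) (inv_mem hl)
  rcases H.M_inf hL hn h1 h2 with h | h
  · left; rwa [mul_inv_eq_one] at h
  · right
    rw [← H.S1.z_comm l hl, ← h]; group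

theorem M_cent {M : Subgroup G} (hM : M ≤ Jhat g x0 L1) (hL : ¬ L1 ≤ M)
    (hn : ∀ j ∈ Jhat g x0 L1, ∀ m ∈ M, j * m * j⁻¹ ∈ M) {m : G} (hm : m ∈ M) (hmz : m * z = z * m) :
    ∀ l ∈ L1, m * l = l * m := by
  intro l hl
  have hno := H.norm_of_comm (H.J_x0 (hM hm)) hmz
  have h1 : m * l * m⁻¹ * l⁻¹ ∈ M := by
    have := mul_mem hm (hn l (L1_le_J hl) m⁻¹ (inv_mem hm))
    have e1 : m * (l * m⁻¹ * l⁻¹) = m * l * m⁻¹ * l⁻¹ := by group
    rwa [e1] at this
  have h2 : m * l * m⁻¹ * l⁻¹ ∈ L1 := mul_mem (Core.norm_mem1 hno.1 hl) (inv_mem hl)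
  rcases H.M_inf hL hn h1 h2 with h | h
  · rw [mul_inv_eq_one] at h
    exact mul_inv_eq_iff_eq_mul.1 h
  · rw [h] at h1
    exact absurd h1 (H.z_not_mem hL hn)

theorem M_odd [Finite G] {M : Subgroup G} (hM : M ≤ Jhat g x0 L1) (hL : ¬ L1 ≤ M)
    (hn : ∀ j ∈ Jhat g x0 L1, ∀ m ∈ M, j * m * j⁻¹ ∈ M) : Odd (Nat.card M) := by
  have hzz := H.zz
  have hzi : z⁻¹ = z := inv_eq_of_mul_eq_one_right hzz
  let σ : M → M := fun m => ⟨z * m * z⁻¹, hn z H.z_mem_J m m.2⟩
  apply odd_of_fixed σ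
  · intro m
    apply Subtype.ext
    change z * (z * m * z⁻¹) * z⁻¹ = m
    calc z * (z * m * z⁻¹) * z⁻¹ = (z * z) * m * (z⁻¹ * z⁻¹) := by group
      _ = m := by rw [hzi, hzz, one_mul, mul_one]
  · have hcard : Nat.card {x : M // σ x = x} = Nat.card (M ⊓ centralizer {z} : Subgroup G) := by
      apply Nat.card_congr
      refine
        { toFun := fun x => ⟨x.1.1, mem_inf.2 ⟨x.1.2, mem_centralizer_singleton_iff.2 ?_⟩⟩
          invFun := fun x => ⟨⟨x.1, (mem_inf.1 x.2).1⟩, ?_⟩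
          left_inv := fun x => rfl
          right_inv := fun x => rfl }
      · have h1 : z * (x.1 : G) * z⁻¹ = x.1 := congrArg Subtype.val x.2
        exact (mul_inv_eq_iff_eq_mul.1 h1).symm
      · apply Subtype.ext
        change z * (x.1 : G) * z⁻¹ = x.1
        have h1 := mem_centralizer_singleton_iff.1 (mem_inf.1 x.2).2
        rw [← h1, mul_inv_cancel_right]
    rw [hcard, ← Nat.not_even_iff_odd]
    intro heven
    have : Fact (Nat.Prime 2) := ⟨Nat.prime_two⟩
    obtain ⟨⟨y, hy⟩, hyord⟩ := exists_prime_orderOf_dvd_card' (G := (M ⊓ centralizer {z} : Subgroup G)) 2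
      heven.two_dvd
    obtain ⟨hyM, hyz⟩ := mem_inf.1 hy
    rw [mem_centralizer_singleton_iff] at hyz
    have hy1 := H.M_cent hM hL hn hyM hyz
    obtain ⟨t, ht, hte, x, hx, rfl⟩ := H.E_eq (H.J_x0 (hM hyM)) hy1
    have hord : t * x * (t * x) = 1 := by
      have h1 := pow_orderOf_eq_one (⟨t * x, hy⟩ : (M ⊓ centralizer {z} : Subgroup G))
      rw [hyord, pow_two] at h1
      exact congrArg Subtype.val h1
    have hne : t * x ≠ 1 := by
      intro h1
      have : (⟨t * x, hy⟩ : (M ⊓ centralizer {z} : Subgroup G)) = 1 := Subtype.ext h1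
      rw [this, orderOf_one] at hyord
      omega
    have htx := H.X_comm hx (H.T2_x0 ht hte)
    have h2 : t * t * (x * x) = 1 := by
      calc t * t * (x * x) = t * (t * x) * x := by group
        _ = t * (x * t) * x := by rw [htx]
        _ = 1 := by rw [← hord]; group
    have h3 : x * x ∈ L2 := by
      rw [← inv_eq_of_mul_eq_one_right h2]
      exact inv_mem (mul_mem ht ht)
    have h4 : x * x = 1 := H.zpow_T2X h3 (mul_mem hx hx)
    have h5 : x = 1 := eq_one_of_sq_of_pow h4 H.S1.odd (H.x0_odd hx)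
    rw [h4, mul_one] at h2
    rcases H.S2.invol t ht h2 with h6 | h6
    · exact hne (by rw [h6, h5, one_mul])
    · rw [h5, h6, mul_one] at hyM
      exact H.z_not_mem hL hn hyM

theorem normal_dich [Finite G] {M : Subgroup G} (hM : M ≤ Jhat g x0 L1) (hX : zpowers x0 ≤ M)
    (hn : ∀ j ∈ Jhat g x0 L1, ∀ m ∈ M, j * m * j⁻¹ ∈ M) : M = zpowers x0 ∨ M = Jhat g x0 L1 := by
  by_cases hL : L1 ≤ M
  · right; exact le_antisymm hM (H.J_le_of_L1 hL hX hn)
  left
  refine le_antisymm ?_ hX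
  have hodd := H.M_odd hM hL hn
  have hzz := H.zz
  have hzi : z⁻¹ = z := inv_eq_of_mul_eq_one_right hzz
  have hei : e⁻¹ = e := inv_eq_of_mul_eq_one_right H.ee
  -- fixed points
  have hfz : ∀ m ∈ M, m * z = z * m → m * e = e * m := fun m hm h =>
    H.E_e (H.J_x0 (hM hm)) (H.M_cent hM hL hn hm h)
  have hgi : ∀ m ∈ M, g⁻¹ * m * g ∈ M := by
    intro m hm
    have := hn g⁻¹ (inv_mem H.g_mem_J) m hm
    rwa [inv_inv] at this
  have hgg : ∀ m : G, g * (g⁻¹ * m * g) * g⁻¹ = m := by intro m; group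
  have hfe : ∀ m ∈ M, m * e = e * m → m * z = z * m := by
    intro m hm h
    have h1 := conj_comm' (g := g) h
    rw [H.g_inv_e] at h1
    have h2 := hfz _ (hgi m hm) h1
    have h3 := H.g_B h1 h2
    rw [hgg] at h3
    exact h3.1
  have hfze : ∀ m ∈ M, m * (z * e) = z * e * m → m * z = z * m := by
    intro m hm h
    have h1 := conj_comm' (g := g) h
    rw [H.g_inv_ze] at h1
    have h2 := hfe _ (hgi m hm) h1
    have h3 := H.g_B h2 h1
    rw [hgg] at h3
    exact h3.1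
  -- generation
  let cz : ∀ v : G, v ∈ Jhat g x0 L1 → (M →* M) := fun v hv =>
    { toFun := fun m => ⟨v * m * v⁻¹, hn v hv m m.2⟩
      map_one' := Subtype.ext (by
        change v * ((1 : M) : G) * v⁻¹ = ((1 : M) : G)
        rw [OneMemClass.coe_one]; group)
      map_mul' := fun x y => Subtype.ext (by
        change v * (x * y : G) * v⁻¹ = (v * x * v⁻¹) * (v * y * v⁻¹)
        group) }
  have hfix : ∀ (v : G) (hv : v ∈ Jhat g x0 L1) (m : M), cz v hv m = m → (m : G) * v = v * m := by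
    intro v hv m h
    have h1 : v * (m : G) * v⁻¹ = m := congrArg Subtype.val h
    exact (mul_inv_eq_iff_eq_mul.1 h1).symm
  have hinv : ∀ (v : G) (hv : v ∈ Jhat g x0 L1), v * v = 1 → ∀ m : M, cz v hv (cz v hv m) = m := by
    intro v hv hvv m
    apply Subtype.ext
    change v * (v * m * v⁻¹) * v⁻¹ = m
    have hvi : v⁻¹ = v := inv_eq_of_mul_eq_one_right hvv
    calc v * (v * m * v⁻¹) * v⁻¹ = (v * v) * m * (v⁻¹ * v⁻¹) := by group
      _ = m := by rw [hvi, hvv, one_mul, mul_one]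
  have htop := Cfsg.Agent.PermutationGroups.OddKlein.eq_top_of_fixed_le hodd (cz z H.z_mem_J) (cz e H.e_mem_J)
    (hinv z H.z_mem_J hzz) (hinv e H.e_mem_J H.ee) (by
      intro m
      apply Subtype.ext
      change z * (e * m * e⁻¹) * z⁻¹ = e * (z * m * z⁻¹) * e⁻¹
      calc z * (e * m * e⁻¹) * z⁻¹ = (z * e) * m * (z * e)⁻¹ := by group
        _ = (e * z) * m * (e * z)⁻¹ := by rw [H.ze]
        _ = _ := by group)
    ((centralizer {z}).subgroupOf M)
    (by
      intro m h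
      rw [mem_subgroupOf, mem_centralizer_singleton_iff]
      exact hfix z H.z_mem_J m h)
    (by
      intro m h
      rw [mem_subgroupOf, mem_centralizer_singleton_iff]
      exact hfe m m.2 (hfix e H.e_mem_J m h))
    (by
      intro m h
      rw [mem_subgroupOf, mem_centralizer_singleton_iff]
      apply hfze m m.2
      have h1 : z * (e * (m : G) * e⁻¹) * z⁻¹ = m := congrArg Subtype.val h
      have h2 : (z * e) * (m : G) * (z * e)⁻¹ = m := by
        calc (z * e) * (m : G) * (z * e)⁻¹ = z * (e * (m : G) * e⁻¹) * z⁻¹ := by group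
          _ = m := h1
      exact (mul_inv_eq_iff_eq_mul.1 h2).symm)
  have hall : ∀ m ∈ M, m * z = z * m := by
    intro m hm
    have h1 : (⟨m, hm⟩ : M) ∈ (centralizer {z}).subgroupOf M := by rw [htop]; trivial
    rw [mem_subgroupOf, mem_centralizer_singleton_iff] at h1
    exact h1
  intro m hm
  apply H.X_eq
  · exact H.M_cent hM hL hn hm (hall m hm)
  · rw [cent_cg_iff]
    exact H.M_cent hM hL hn (hgi m hm) (hall _ (hgi m hm))

theorem mem_center_J [Finite G] (j : Jhat g x0 L1) : j ∈ center (Jhat g x0 L1) ↔ (j : G) ∈ zpowers x0 := by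
  rw [mem_center_iff]
  constructor
  · intro h
    apply H.X_eq
    · intro l hl
      exact (congrArg Subtype.val (h ⟨l, L1_le_J hl⟩)).symm
    · intro l hl
      exact (congrArg Subtype.val (h ⟨l, cg_le_J hl⟩)).symm
  · intro h y
    exact Subtype.ext (H.X_comm h (H.J_x0 y.2)).symm

theorem mk_eq_one [Finite G] (j : Jhat g x0 L1) :
    (QuotientGroup.mk j : Jhat g x0 L1 ⧸ center (Jhat g x0 L1)) = 1 ↔ (j : G) ∈ zpowers x0 := by
  rw [QuotientGroup.eq_one_iff, H.mem_center_J]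

/-- the quotient is simple -/
theorem isSimple [Finite G] : IsSimpleGroup (Jhat g x0 L1 ⧸ center (Jhat g x0 L1)) := by
  have hz1 : z ∉ zpowers x0 := by
    intro h
    exact H.S1.z_ne (H.zpow_T2X H.S2.z_mem h)
  have hnt : Nontrivial (Jhat g x0 L1 ⧸ center (Jhat g x0 L1)) := by
    refine ⟨⟨QuotientGroup.mk ⟨z, H.z_mem_J⟩, 1, ?_⟩⟩
    intro h
    rw [H.mk_eq_one] at h
    exact hz1 h
  refine { eq_bot_or_eq_top_of_normal := ?_ }
  intro M hM
  set q := QuotientGroup.mk' (center (Jhat g x0 L1)) with hq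
  have hqs : Function.Surjective q := QuotientGroup.mk'_surjective _
  set M' := (M.comap q).map (Jhat g x0 L1).subtype with hM'
  have hmem : ∀ (j : G) (hj : j ∈ Jhat g x0 L1), j ∈ M' ↔ q ⟨j, hj⟩ ∈ M := by
    intro j hj
    rw [hM', mem_map]
    constructor
    · rintro ⟨y, hy, rfl⟩; exact hy
    · intro h; exact ⟨⟨j, hj⟩, h, rfl⟩
  have hle : M' ≤ Jhat g x0 L1 := by
    rintro _ ⟨y, -, rfl⟩; exact y.2
  have hXM : zpowers x0 ≤ M' := by
    intro x hx
    rw [hmem x (X_le_J hx)]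
    have : q ⟨x, X_le_J hx⟩ = 1 := (H.mk_eq_one _).2 hx
    rw [this]; exact one_mem _
  have hnor : ∀ j ∈ Jhat g x0 L1, ∀ m ∈ M', j * m * j⁻¹ ∈ M' := by
    intro j hj m hm
    have hmJ := hle hm
    rw [hmem m hmJ] at hm
    rw [hmem _ (mul_mem (mul_mem hj hmJ) (inv_mem hj))]
    exact hM.conj_mem _ hm (q ⟨j, hj⟩)
  rcases H.normal_dich hle hXM hnor with h | h
  · left
    rw [eq_bot_iff]
    intro y hy
    obtain ⟨j, rfl⟩ := hqs y
    have h1 : (j : G) ∈ M' := (hmem j j.2).2 hy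
    rw [h] at h1
    rw [mem_bot]
    exact (H.mk_eq_one _).2 h1
  · right
    rw [eq_top_iff]
    intro y _
    obtain ⟨j, rfl⟩ := hqs y
    exact (hmem j j.2).1 (by rw [h]; exact j.2)

end Loc

end Cfsg.Agent.LFourR
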