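import Mathlib
import Cfsg.Agent.LFourR.R2c
import Cfsg.Agent.LFourR.GlueDef

/-!
The centraliser of the involution in `Ĵ/X`: gluing data.
-/

set_option autoImplicit false

namespace Cfsg.Agent.LFourR

open Subgroup

variable {G : Type*} [Group G]

namespace Loc

variable {F : Type*} [Field F] [Fintype F]
variable {ε : ℤ} {N k : ℕ} {z e g x0 a1 a2 : G} {L1 L2 : Subgroup G}
variable (H : Loc F ε N k z e g x0 a1 a2 L1 L2)
include H

theorem z_not_X : z ∉ zpowers x0 := by
  intro h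
  exact H.S1.z_ne (H.zpow_T2X H.S2.z_mem h)

theorem e0_z (e0 : L1 ≃* Matrix.SpecialLinearGroup (Fin 2) F) : e0.symm (-1) = ⟨z, H.S1.z_mem⟩ := by
  have h2 : (2 : F) ≠ 0 := AutTorus.two_ne_zero' H.nums.qodd
  have h0 : e0.symm (-1) * e0.symm (-1) = 1 := by rw [← map_mul, neg_mul_neg, one_mul, map_one]
  rcases H.S1.invol _ (e0.symm (-1)).2 (congrArg Subtype.val h0) with h | h
  · exfalso
    have h1 : e0.symm (-1) = 1 := Subtype.ext h
    have h3 : (-1 : Matrix.SpecialLinearGroup (Fin 2) F) = 1 := by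
      have := congrArg e0 h1
      rwa [e0.apply_symm_apply, map_one] at this
    have h4 := congrArg (fun x : Matrix.SpecialLinearGroup (Fin 2) F => x.1 0 0) h3
    have h5 : ((-1 : Matrix.SpecialLinearGroup (Fin 2) F)).1 0 0 = -1 := by
      rw [AutTorus.val_neg, FieldPart.val_one]; simp
    have h6 : ((1 : Matrix.SpecialLinearGroup (Fin 2) F)).1 0 0 = 1 := by rw [FieldPart.val_one]; simp
    simp only [h5, h6] at h4
    exact h2 (by linear_combination -h4)
  · exact Subtype.ext h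

theorem L1_le_D : L1 ≤ Jhat g x0 L1 ⊓ centralizer {z} := by
  intro l hl
  exact mem_inf.2 ⟨L1_le_J hl, mem_centralizer_singleton_iff.2 (H.S1.z_comm l hl).symm⟩

/-- gluing data on any group isomorphic to the centraliser of `z` in `Ĵ` modulo `X` -/
theorem glue_of [Finite G] {C : Type*} [Group C] {D : Subgroup G} (hD : D = Jhat g x0 L1 ⊓ centralizer {z})
    (ψ : D →* C) (hψ : Function.Surjective ψ) (hker : ∀ y, ψ y = 1 ↔ (y : G) ∈ zpowers x0) :
    ∃ (ι : Matrix.SpecialLinearGroup (Fin 2) F →* C) (T : Subgroup C) (f : C)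
      (α : MulAut (Matrix.SpecialLinearGroup (Fin 2) F)) (a t1 : Matrix.SpecialLinearGroup (Fin 2) F) (u : C) (m : ℕ),
      GlueSL ε N k m ι T f α a t1 u := by
  obtain ⟨e0⟩ := H.iso1
  obtain ⟨f, t1, u, hfx, hfz, hfe, hfo, hfJ, ht1, hu, hue, huJ, hff, hcases⟩ := H.exists_f
  have hzJ := H.z_mem_J
  have memD : ∀ y : G, y ∈ Jhat g x0 L1 → y * z = z * y → y ∈ D := fun y h1 h2 => by
    rw [hD]; exact mem_inf.2 ⟨h1, mem_centralizer_singleton_iff.2 h2⟩
  have hL1D : L1 ≤ D := by rw [hD]; exact H.L1_le_D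
  have hfD : f ∈ D := memD f hfJ hfz
  have hL2z : ∀ y ∈ L2, y * z = z * y := fun y hy => (H.S2.z_comm y hy).symm
  have huD : u ∈ D := memD u huJ (hL2z u hu)
  -- equality modulo `X`
  have heq : ∀ y y' : D, ψ y = ψ y' → ∃ x ∈ zpowers x0, (y : G) = y' * x := by
    intro y y' h
    have h1 : ψ (y'⁻¹ * y) = 1 := by rw [map_mul, map_inv, h, inv_mul_cancel]
    rw [hker] at h1
    exact ⟨_, h1, by change (y : G) = y' * (y'⁻¹ * y : D); simp⟩
  have hXone : ∀ (x : G) (hx : x ∈ zpowers x0) (hxD : x ∈ D), ψ ⟨x, hxD⟩ = 1 := fun x hx hxD => (hker _).2 hx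
  have hXz : ∀ x ∈ zpowers x0, x * z = z * x := fun x hx => H.X_comm hx H.x0_comm_z.symm
  have hX1 : ∀ x ∈ zpowers x0, ∀ l ∈ L1, x * l = l * x := fun x hx l hl => H.X_comm hx (H.x0_1 l hl).symm
  have hXe : ∀ x ∈ zpowers x0, x * e = e * x := fun x hx => H.X_comm hx H.x0_comm_e.symm
  -- the maps
  let i1 : L1 →* D := inclusion hL1D
  let ι : Matrix.SpecialLinearGroup (Fin 2) F →* C := ψ.comp (i1.comp e0.symm.toMonoidHom)
  have hι : ∀ x, ι x = ψ ⟨e0.symm x, hL1D (e0.symm x).2⟩ := fun x => rfl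
  let T2 : Subgroup G := L2 ⊓ centralizer {e}
  have memT2 : ∀ y : G, y ∈ T2 ↔ y ∈ L2 ∧ y * e = e * y := by
    intro y
    rw [mem_inf, mem_centralizer_singleton_iff]
  let T : Subgroup C := (T2.subgroupOf D).map ψ
  have memT : ∀ c : C, c ∈ T ↔ ∃ (y : G) (hy : y ∈ D), y ∈ L2 ∧ y * e = e * y ∧ c = ψ ⟨y, hy⟩ := by
    intro c
    constructor
    · rintro ⟨y, hy, rfl⟩
      have := (memT2 _).1 hy
      exact ⟨y, y.2, this.1, this.2, rfl⟩
    · rintro ⟨y, hy, h1, h2, rfl⟩
      exact ⟨⟨y, hy⟩, (memT2 _).2 ⟨h1, h2⟩, rfl⟩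
  have hfn := H.norm_of_comm hfx hfz
  have hfN : f ∈ normalizer (L1 : Set G) := mem_normalizer_iff_cg.2 hfn.1
  let α : MulAut (Matrix.SpecialLinearGroup (Fin 2) F) := MulAut.congr e0 (nact L1 hfN)
  have hα : ∀ x, e0.symm (α x) = nact L1 hfN (e0.symm x) := by
    intro x
    change e0.symm (e0 (nact L1 hfN (e0.symm x))) = _
    rw [e0.symm_apply_apply]
  have hα' : ∀ x, ((e0.symm (α x) : L1) : G) = f * (e0.symm x : L1) * f⁻¹ := by
    intro x; rw [hα, coe_nact]
  have hez := H.e0_z e0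
  have hιz : ι (-1) = ψ ⟨z, hL1D H.S1.z_mem⟩ := by
    have h1 : ((e0.symm (-1) : L1) : G) = z := congrArg Subtype.val hez
    rw [hι]; congr 1; exact Subtype.ext h1
  have hfT : ∀ y : G, y ∈ L2 → y * e = e * y → f * y = y * f := fun y hy hye =>
    H.S2.fix_T f (mem_normalizer_iff_cg.2 hfn.2) (H.D_a2 hfx hfz) y hy hye
  -- the glue structure
  have hglue : Glue ι T (ψ ⟨f, hfD⟩) α (-1) (e0 ⟨t1, ht1⟩) (ψ ⟨u, huD⟩) := by
    refine
      { inj := ?_
        comm := ?_
        inter := ?_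
        f_T := ?_
        f_ι := ?_
        f_sq := ?_
        u_mem := (memT _).2 ⟨u, huD, hu, hue, rfl⟩
        cover := ?_
        f_not := ?_ }
    · rw [injective_iff_map_eq_one]
      intro x hx
      rw [hι, hker] at hx
      have h1 : ∀ l ∈ L1, ((e0.symm x : L1) : G) * l = l * (e0.symm x : L1) := hX1 _ hx
      rcases H.S1.center _ (e0.symm x).2 h1 with h | h
      · have : e0.symm x = 1 := Subtype.ext h
        apply e0.symm.injective
        rw [this, map_one]
      · change ((e0.symm x : L1) : G) ∈ zpowers x0 at hx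
        rw [h] at hx
        exact absurd hx H.z_not_X
    · intro x t ht
      obtain ⟨y, hy, hy1, hy2, rfl⟩ := (memT t).1 ht
      rw [hι, ← map_mul, ← map_mul]
      congr 1
      exact Subtype.ext (H.comm _ (e0.symm x).2 y hy1)
    · intro x
      constructor
      · intro hx
        obtain ⟨y, hy, hy1, hy2, hxy⟩ := (memT _).1 hx
        rw [hι] at hxy
        obtain ⟨x', hx', hxx⟩ := heq _ _ hxy
        change ((e0.symm x : L1) : G) = y * x' at hxx
        have h1 : ∀ l ∈ L1, ((e0.symm x : L1) : G) * l = l * (e0.symm x : L1) := by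
          intro l hl
          rw [hxx]
          exact ((show Commute y l from (H.comm l hl y hy1).symm).mul_left (show Commute x' l from hX1 x' hx' l hl)).eq
        rcases H.S1.center _ (e0.symm x).2 h1 with h | h
        · left
          have : e0.symm x = 1 := Subtype.ext h
          apply e0.symm.injective
          rw [this, map_one]
        · right
          apply e0.symm.injective
          rw [hez]
          exact Subtype.ext h
      · rintro (rfl | rfl)
        · rw [map_one]; exact one_mem _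
        · rw [hιz]
          exact (memT _).2 ⟨z, _, H.S2.z_mem, H.ze, rfl⟩
    · intro t ht
      obtain ⟨y, hy, hy1, hy2, rfl⟩ := (memT t).1 ht
      rw [← map_mul, ← map_mul]
      congr 1
      exact Subtype.ext (hfT y hy1 hy2)
    · intro x
      rw [hι, hι, ← map_mul, ← map_mul]
      congr 1
      apply Subtype.ext
      change f * ((e0.symm x : L1) : G) = ((e0.symm (α x) : L1) : G) * f
      rw [hα']; group
    · rw [hι, ← map_mul, ← map_mul]
      congr 1
      apply Subtype.ext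
      change f * f = ((e0.symm (e0 ⟨t1, ht1⟩) : L1) : G) * u
      rw [e0.symm_apply_apply]
      exact hff
    · intro c
      obtain ⟨⟨d, hd⟩, rfl⟩ := hψ c
      have hd' := hd
      rw [hD] at hd'
      obtain ⟨hdJ, hdz⟩ := mem_inf.1 hd'
      rw [mem_centralizer_singleton_iff] at hdz
      obtain ⟨l, hl, t, ht, hte, x, hx, hcase⟩ := H.D_cover hfx hfz hfe hfo (H.J_x0 hdJ) hdz
      have hxJ : x ∈ Jhat g x0 L1 := X_le_J hx
      have htJ : t ∈ Jhat g x0 L1 := by
        rcases hcase with h | h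
        · have : t = l⁻¹ * d * x⁻¹ := by rw [h]; group
          rw [this]; exact mul_mem (mul_mem (inv_mem (L1_le_J hl)) hdJ) (inv_mem hxJ)
        · have : t = l⁻¹ * d * f⁻¹ * x⁻¹ := by rw [h]; group
          rw [this]; exact mul_mem (mul_mem (mul_mem (inv_mem (L1_le_J hl)) hdJ) (inv_mem hfJ)) (inv_mem hxJ)
      have htD : t ∈ D := memD t htJ (hL2z t ht)
      have hxD : x ∈ D := memD x hxJ (hXz x hx)
      refine ⟨e0 ⟨l, hl⟩, ψ ⟨t, htD⟩, (memT _).2 ⟨t, htD, ht, hte, rfl⟩, ?_⟩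
      have hle : e0.symm (e0 ⟨l, hl⟩) = ⟨l, hl⟩ := e0.symm_apply_apply _
      have hιl : ι (e0 ⟨l, hl⟩) = ψ ⟨l, hL1D hl⟩ := by
        have h1 : ((e0.symm (e0 ⟨l, hl⟩) : L1) : G) = l := congrArg Subtype.val hle
        rw [hι]; congr 1; exact Subtype.ext h1
      rw [hιl]
      rcases hcase with h | h
      · left
        have e1 : (⟨d, hd⟩ : D) = ⟨l, hL1D hl⟩ * ⟨t, htD⟩ * ⟨x, hxD⟩ := Subtype.ext h
        rw [e1, map_mul, hXone x hx hxD, mul_one, map_mul]
      · right
        have e1 : (⟨d, hd⟩ : D) = ⟨l, hL1D hl⟩ * ⟨t, htD⟩ * ⟨x, hxD⟩ * ⟨f, hfD⟩ := Subtype.ext h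
        rw [e1, map_mul, map_mul, hXone x hx hxD, mul_one, map_mul]
    · intro x t ht h
      obtain ⟨y, hy, hy1, hy2, rfl⟩ := (memT t).1 ht
      rw [hι, ← map_mul] at h
      obtain ⟨x', hx', hxx⟩ := heq _ _ h
      change f = ((e0.symm x : L1) : G) * y * x' at hxx
      obtain ⟨l, hl⟩ : ∃ l : G, ((e0.symm x : L1) : G) = l := ⟨_, rfl⟩
      have hlm : l ∈ L1 := by rw [← hl]; exact (e0.symm x).2
      rw [hl] at hxx
      apply hfo
      refine ⟨l, hlm, ?_, ?_⟩
      · have : l = f * x'⁻¹ * y⁻¹ := by rw [hxx]; group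
        rw [this]
        exact (((show Commute f e from hfe).mul_left (show Commute x' e from hXe x' hx').inv_left).mul_left
          (show Commute y e from hy2).inv_left).eq
      · intro l' hl'
        have h1 : Commute y l' := (H.comm l' hl' y hy1).symm
        have h2 : Commute x' l' := hX1 x' hx' l' hl'
        have h3 : (y * x') * l' = l' * (y * x') := (h1.mul_left h2).eq
        calc f * l' * f⁻¹ = l * ((y * x') * l') * (y * x')⁻¹ * l⁻¹ := by rw [hxx]; group
          _ = l * l' * l⁻¹ := by rw [h3]; group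
  -- the subgroup `T2 ∩ D`
  have hT2cyc : IsCyclic T2 := H.S2.T_cyc
  have hT2card : Nat.card T2 = N * 2 ^ k := H.S2.T_card
  let S : Subgroup G := T2 ⊓ D
  have hScyc : IsCyclic S := by
    have hinj : Function.Injective (inclusion (inf_le_left : S ≤ T2)) := inclusion_injective _
    exact isCyclic_of_injective _ hinj
  let θ : S →* T :=
    { toFun := fun y => ⟨ψ ⟨y, (mem_inf.1 y.2).2⟩, (memT _).2 ⟨y, (mem_inf.1 y.2).2, ((memT2 _).1 (mem_inf.1 y.2).1).1,
        ((memT2 _).1 (mem_inf.1 y.2).1).2, rfl⟩⟩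
      map_one' := Subtype.ext (by
        change ψ ⟨((1 : S) : G), _⟩ = 1
        rw [hker]; exact one_mem _)
      map_mul' := fun x y => Subtype.ext (by
        change ψ ⟨((x * y : S) : G), _⟩ = ψ _ * ψ _
        rw [← map_mul]; rfl) }
  have hθs : Function.Surjective θ := by
    rintro ⟨t, ht⟩
    obtain ⟨y, hy, hy1, hy2, rfl⟩ := (memT t).1 ht
    exact ⟨⟨y, mem_inf.2 ⟨(memT2 _).2 ⟨hy1, hy2⟩, hy⟩⟩, rfl⟩
  have hθi : Function.Injective θ := by
    rw [injective_iff_map_eq_one]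
    intro y hy
    have h1 : ψ ⟨y, (mem_inf.1 y.2).2⟩ = 1 := congrArg Subtype.val hy
    rw [hker] at h1
    exact Subtype.ext (H.zpow_T2X ((memT2 _).1 (mem_inf.1 y.2).1).1 h1)
  have hTcard : Nat.card T = Nat.card S := (Nat.card_congr (Equiv.ofBijective θ ⟨hθi, hθs⟩)).symm
  have hSdvd : Nat.card S ∣ N * 2 ^ k := by
    rw [← hT2card]; exact card_dvd_of_le inf_le_left
  have hSk : 2 ^ k ∣ Nat.card S := by
    rcases hcases with ⟨hk, -, -⟩ | ⟨hk, -, huu⟩
    · have hzS : z ∈ S := mem_inf.2 ⟨(memT2 _).2 ⟨H.S2.z_mem, H.ze⟩, hL1D H.S1.z_mem⟩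
      have h1 : orderOf (⟨z, hzS⟩ : S) = 2 := by
        rw [Subgroup.orderOf_mk]
        exact orderOf_eq_prime (by rw [pow_two, H.zz]) H.S1.z_ne
      rw [hk, pow_one, ← h1]
      exact orderOf_dvd_natCard _
    · have huS : u ∈ S := mem_inf.2 ⟨(memT2 _).2 ⟨hu, hue⟩, huD⟩
      have h1 : orderOf (⟨u, huS⟩ : S) = 2 ^ 2 := by
        rw [Subgroup.orderOf_mk]
        apply orderOf_eq_prime_pow
        · rw [pow_one, pow_two, huu]; exact H.S1.z_ne
        · rw [show 2 ^ (1 + 1) = 2 * 2 by norm_num, pow_mul, pow_two u, huu, pow_two, H.zz]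
      rw [hk, ← h1]
      exact orderOf_dvd_natCard _
  obtain ⟨m, hm⟩ := hSk
  have hmN : m ∣ N := by
    rw [hm, mul_comm] at hSdvd
    exact Nat.dvd_of_mul_dvd_mul_right (by positivity) hSdvd
  refine ⟨ι, T, ψ ⟨f, hfD⟩, α, e0 ⟨a1, H.S1.a_mem⟩, e0 ⟨t1, ht1⟩, ψ ⟨u, huD⟩, m, ?_⟩
  refine
    { nums := H.nums
      glue := hglue
      ord := by rw [MulEquiv.orderOf_eq, Subgroup.orderOf_mk, H.S1.ord]
      fix := ?_
      ne := ?_
      cyc := isCyclic_of_surjective θ hθs
      card := by rw [hTcard, hm, mul_comm]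
      dvd := hmN
      cases := ?_ }
  · apply e0.symm.injective
    apply Subtype.ext
    rw [hα', e0.symm_apply_apply]
    change f * a1 * f⁻¹ = a1
    rw [H.B_a1 hfx hfz hfe, mul_inv_cancel_right]
  · intro h
    apply hfo
    refine ⟨1, one_mem _, by rw [one_mul, mul_one], ?_⟩
    intro l hl
    have h1 := hα' (e0 ⟨l, hl⟩)
    rw [h, MulAut.one_apply, e0.symm_apply_apply] at h1
    change l = f * l * f⁻¹ at h1
    rw [← h1]; group
  · rcases hcases with ⟨hk, h1, h2⟩ | ⟨hk, h1, h2⟩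
    · left
      refine ⟨hk, ?_, ?_⟩
      · have : (⟨t1, ht1⟩ : L1) = 1 := Subtype.ext h1
        rw [this, map_one]
      · rw [hker]
        change u ∈ zpowers x0
        rw [h2]; exact one_mem _
    · right
      refine ⟨hk, ?_, ?_⟩
      · apply e0.symm.injective
        rw [map_mul, e0.symm_apply_apply, hez]
        exact Subtype.ext h1
      · rw [hιz, ← map_mul]
        congr 1
        exact Subtype.ext h2

end Loc

end Cfsg.Agent.LFourR
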