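import Mathlib
import Cfsg.Agent.LFourR.R2d

/-!
The centraliser of the image of `z` in `Ĵ/X`; the homomorphism from `⟨L1, g L1 g⁻¹⟩` to a group isomorphic to `Ĵ/X`.
-/

set_option autoImplicit false

namespace Cfsg.Agent.LFourR

open Subgroup

variable {G : Type*} [Group G]

theorem commutator_eq_top_of {J : Subgroup G} (h : ⁅J, J⁆ = J) : commutator J = ⊤ := by
  have h1 : (commutator J).map J.subtype = J := by
    rw [_root_.commutator_def, Subgroup.map_commutator, ← MonoidHom.range_eq_map, J.range_subtype, h]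
  rw [eq_top_iff]
  intro x _
  have h2 : (x : G) ∈ (commutator J).map J.subtype := by rw [h1]; exact x.2
  obtain ⟨y, hy, hyx⟩ := h2
  have : y = x := Subtype.ext hyx
  exact this ▸ hy

theorem commutator_cg {g : G} {L : Subgroup G} (h : ⁅L, L⁆ = L) : ⁅cg g L, cg g L⁆ = cg g L := by
  rw [cg, ← Subgroup.map_commutator, h]

theorem commutator_sup {A B : Subgroup G} (hA : ⁅A, A⁆ = A) (hB : ⁅B, B⁆ = B) : ⁅A ⊔ B, A ⊔ B⁆ = A ⊔ B := by
  apply le_antisymm
  · rw [commutator_le]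
    intro x hx y hy
    exact mul_mem (mul_mem (mul_mem hx hy) (inv_mem hx)) (inv_mem hy)
  · apply sup_le
    · calc A = ⁅A, A⁆ := hA.symm
        _ ≤ _ := commutator_mono le_sup_left le_sup_left
    · calc B = ⁅B, B⁆ := hB.symm
        _ ≤ _ := commutator_mono le_sup_right le_sup_right

theorem mem_sup_of_comm {A B : Subgroup G} (h : ∀ x ∈ B, ∀ y ∈ A, x * y = y * x) {j : G} (hj : j ∈ A ⊔ B) :
    ∃ y ∈ A, ∃ x ∈ B, j = y * x := by
  let K : Subgroup G :=
    { carrier := {j | ∃ y ∈ A, ∃ x ∈ B, j = y * x}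
      one_mem' := ⟨1, one_mem _, 1, one_mem _, (one_mul 1).symm⟩
      mul_mem' := by
        rintro _ _ ⟨y, hy, x, hx, rfl⟩ ⟨y', hy', x', hx', rfl⟩
        refine ⟨y * y', mul_mem hy hy', x * x', mul_mem hx hx', ?_⟩
        calc y * x * (y' * x') = y * (x * y') * x' := by group
          _ = y * (y' * x) * x' := by rw [h x hx y' hy']
          _ = _ := by group
      inv_mem' := by
        rintro _ ⟨y, hy, x, hx, rfl⟩
        refine ⟨y⁻¹, inv_mem hy, x⁻¹, inv_mem hx, ?_⟩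
        rw [← h x hx y hy, _root_.mul_inv_rev] }
  have hK : A ⊔ B ≤ K := sup_le (fun y hy => ⟨y, hy, 1, one_mem _, (mul_one y).symm⟩)
    (fun x hx => ⟨1, one_mem _, x, hx, (one_mul x).symm⟩)
  exact hK hj

namespace Loc

variable {F : Type*} [Field F] [Fintype F]
variable {ε : ℤ} {N k : ℕ} {z e g x0 a1 a2 : G} {L1 L2 : Subgroup G}
variable (H : Loc F ε N k z e g x0 a1 a2 L1 L2)
include H

/-- the image of `z` -/
def zbar (H : Loc F ε N k z e g x0 a1 a2 L1 L2) : Jhat g x0 L1 ⧸ center (Jhat g x0 L1) :=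
  QuotientGroup.mk ⟨z, H.z_mem_J⟩

theorem orderOf_zbar [Finite G] : orderOf H.zbar = 2 := by
  apply orderOf_eq_prime
  · rw [pow_two, zbar, ← QuotientGroup.mk_mul]
    rw [H.mk_eq_one]
    change z * z ∈ zpowers x0
    rw [H.zz]; exact one_mem _
  · rw [zbar, ne_eq, H.mk_eq_one]
    exact H.z_not_X

/-- elements commuting with `z` modulo `X` commute with `z` -/
theorem comm_of_mod {j : G} (h : j * z * j⁻¹ * z⁻¹ ∈ zpowers x0) : j * z = z * j := by
  set x := j * z * j⁻¹ * z⁻¹ with hx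
  have h1 : x * z = j * z * j⁻¹ := by rw [hx]; group
  have h2 : x * z = z * x := H.X_comm h H.x0_comm_z.symm
  have h3 : (x * z) * (x * z) = 1 := by
    rw [h1]
    calc j * z * j⁻¹ * (j * z * j⁻¹) = j * (z * z) * j⁻¹ := by group
      _ = 1 := by rw [H.zz]; group
  have h4 : x * x = 1 := by
    calc x * x = x * x * (z * z) := by rw [H.zz, mul_one]
      _ = x * (x * z) * z := by group
      _ = x * (z * x) * z := by rw [h2]
      _ = 1 := by rw [← h3]; group
  have h5 : x = 1 := eq_one_of_sq_of_pow h4 H.S1.odd (H.x0_odd h)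
  rw [h5, one_mul] at h1
  exact (mul_inv_eq_iff_eq_mul.1 h1.symm)

/-- the homomorphism onto the centraliser of the image of `z` -/
theorem exists_psi [Finite G] : ∃ ψ : (Jhat g x0 L1 ⊓ centralizer {z} : Subgroup G) →* centralizer {H.zbar},
    Function.Surjective ψ ∧ ∀ y, ψ y = 1 ↔ (y : G) ∈ zpowers x0 := by
  set D : Subgroup G := Jhat g x0 L1 ⊓ centralizer {z} with hD
  have hJ : ∀ y : D, (y : G) ∈ Jhat g x0 L1 := fun y => (mem_inf.1 y.2).1
  have hz : ∀ y : D, (y : G) * z = z * y := fun y => mem_centralizer_singleton_iff.1 (mem_inf.1 y.2).2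
  let ψ : D →* centralizer {H.zbar} :=
    { toFun := fun y => ⟨QuotientGroup.mk ⟨y, hJ y⟩, by
        rw [mem_centralizer_singleton_iff, zbar, ← QuotientGroup.mk_mul, ← QuotientGroup.mk_mul]
        congr 1
        exact Subtype.ext (hz y)⟩
      map_one' := rfl
      map_mul' := fun x y => rfl }
  refine ⟨ψ, ?_, ?_⟩
  · rintro ⟨c, hc⟩
    obtain ⟨⟨j, hj⟩, rfl⟩ := QuotientGroup.mk_surjective c
    rw [mem_centralizer_singleton_iff, zbar, ← QuotientGroup.mk_mul, ← QuotientGroup.mk_mul] at hc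
    have h1 : j * z * j⁻¹ * z⁻¹ ∈ zpowers x0 := by
      have h2 := (H.mk_eq_one (⟨j, hj⟩ * ⟨z, H.z_mem_J⟩ * ⟨j, hj⟩⁻¹ * ⟨z, H.z_mem_J⟩⁻¹)).1 (by
        rw [QuotientGroup.mk_mul, QuotientGroup.mk_mul, hc, QuotientGroup.mk_mul, QuotientGroup.mk_inv,
          QuotientGroup.mk_inv]
        group)
      exact h2
    have h2 := H.comm_of_mod h1
    refine ⟨⟨j, mem_inf.2 ⟨hj, mem_centralizer_singleton_iff.2 h2⟩⟩, ?_⟩
    rfl
  · intro y
    rw [← H.mk_eq_one ⟨y, hJ y⟩]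
    constructor
    · intro h; exact congrArg Subtype.val h
    · intro h; exact Subtype.ext h

theorem exists_glueSL [Finite G] :
    ∃ (ι : Matrix.SpecialLinearGroup (Fin 2) F →* centralizer {H.zbar}) (T : Subgroup (centralizer {H.zbar}))
      (f : centralizer {H.zbar}) (α : MulAut (Matrix.SpecialLinearGroup (Fin 2) F))
      (a t1 : Matrix.SpecialLinearGroup (Fin 2) F) (u : centralizer {H.zbar}) (m : ℕ),
      GlueSL ε N k m ι T f α a t1 u := by
  obtain ⟨ψ, h1, h2⟩ := H.exists_psi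
  exact H.glue_of rfl ψ h1 h2

/-- the homomorphism from `⟨L1, g L1 g⁻¹⟩` -/
theorem exists_pi [Finite G] {P : Type*} [Group P] (E : (Jhat g x0 L1 ⧸ center (Jhat g x0 L1)) ≃* P) :
    ∃ π : (L1 ⊔ cg g L1 : Subgroup G) →* P, Function.Surjective π ∧ π.ker ≤ center _ ∧
      commutator (L1 ⊔ cg g L1 : Subgroup G) = ⊤ ∧ (∀ r : ℕ, r.Prime → r ∣ Nat.card π.ker → r ≠ 2 ∧ r ∣ N) := by
  have hle : L1 ⊔ cg g L1 ≤ Jhat g x0 L1 := le_sup_left
  let q := QuotientGroup.mk' (center (Jhat g x0 L1))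
  let π : (L1 ⊔ cg g L1 : Subgroup G) →* P := E.toMonoidHom.comp (q.comp (inclusion hle))
  have hker : ∀ y, y ∈ π.ker ↔ (y : G) ∈ zpowers x0 := by
    intro y
    rw [MonoidHom.mem_ker]
    have h1 : π y = E (QuotientGroup.mk (inclusion hle y)) := rfl
    rw [h1, map_eq_one_iff E E.injective, H.mk_eq_one]
    rfl
  have hXc : ∀ x ∈ zpowers x0, ∀ y ∈ (L1 ⊔ cg g L1 : Subgroup G), x * y = y * x :=
    fun x hx y hy => H.X_comm hx (H.J_x0 (hle hy))
  refine ⟨π, ?_, ?_, ?_, ?_⟩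
  · intro p
    obtain ⟨c, rfl⟩ := E.surjective p
    obtain ⟨⟨j, hj⟩, rfl⟩ := QuotientGroup.mk_surjective c
    -- `j = y x`
    have hsup : j ∈ (L1 ⊔ cg g L1) ⊔ zpowers x0 := hj
    obtain ⟨y, hy, x, hx, rfl⟩ := mem_sup_of_comm hXc hsup
    refine ⟨⟨y, hy⟩, ?_⟩
    change E (QuotientGroup.mk ⟨y, hle hy⟩) = _
    congr 1
    have hx1 : (QuotientGroup.mk (⟨x, X_le_J hx⟩ : Jhat g x0 L1) : Jhat g x0 L1 ⧸ center (Jhat g x0 L1)) = 1 :=
      (H.mk_eq_one _).2 hx
    have e1 : (⟨y * x, hj⟩ : Jhat g x0 L1) = ⟨y, hle hy⟩ * ⟨x, X_le_J hx⟩ := rfl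
    rw [e1, QuotientGroup.mk_mul, hx1, mul_one]
  · intro y hy
    rw [hker] at hy
    rw [mem_center_iff]
    intro y'
    exact Subtype.ext (hXc _ hy _ y'.2).symm
  · exact commutator_eq_top_of (commutator_sup H.S1.perfect (commutator_cg H.S1.perfect))
  · intro r hr hd
    have : Fact r.Prime := ⟨hr⟩
    obtain ⟨y, hy⟩ := exists_prime_orderOf_dvd_card' (G := π.ker) r hd
    have h1 : ((y : (L1 ⊔ cg g L1 : Subgroup G)) : G) ∈ zpowers x0 := (hker _).1 y.2
    have h2 := H.x0_odd h1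
    have h3 : y ^ N = 1 := Subtype.ext (Subtype.ext h2)
    have h4 : r ∣ N := by rw [← hy]; exact orderOf_dvd_of_pow_eq_one h3
    refine ⟨?_, h4⟩
    rintro rfl
    exact (Nat.not_even_iff_odd.2 H.S1.odd) (even_iff_two_dvd.2 h4)

end Loc

end Cfsg.Agent.LFourR
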