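import Mathlib
import Cfsg.Prelude.Def_Sporadic
import Cfsg.Prelude.Def_LieClassical
import Cfsg.Agent.LFourR.R2e
import Cfsg.Agent.LFourR.GlueEnd
import Cfsg.Agent.SmallSimple.Embed
import Cfsg.Agent.ClassicalGeometry.PSL2Basic

/-!
The identification of `Ĵ/X` with `PSL(3, q)` or `PSU(3, q)`.
-/

set_option autoImplicit false

namespace Cfsg.Agent.LFourR

open Subgroup

universe u v w

/-- the statement `S0484` for a field `F` -/
def St484 (F : Type v) [Field F] [Fintype F] : Prop :=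
  ∀ (P : Type u) [Group P] [Finite P] [IsSimpleGroup P] (_ : Odd (Fintype.card F)) (Z : Subgroup (GL (Fin 2) F))
    [Z.Normal] (_ : Z ≤ Subgroup.center (GL (Fin 2) F)) (_ : Odd (Nat.card Z)) (t : P) (_ : orderOf t = 2)
    (_ : Nonempty (Subgroup.centralizer ({t} : Set P) ≃* (GL (Fin 2) F ⧸ Z))),
    Nonempty (P ≃* Matrix.ProjectiveSpecialLinearGroup (Fin 3) F) ∨ Cfsg.IsM11 P

/-- the statement `S0485` for a field `K` of order `q ^ 2` -/
def St485 (K : Type v) [Field K] [Fintype K] (q : ℕ) : Prop :=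
  ∀ (P : Type u) [Group P] [Finite P] [IsSimpleGroup P] (_ : Odd q) (_ : Fintype.card K = q ^ 2)
    (Z : Subgroup (Cfsg.GU 2 K q)) [Z.Normal] (_ : Z ≤ Subgroup.center (Cfsg.GU 2 K q)) (_ : Odd (Nat.card Z))
    (t : P) (_ : orderOf t = 2) (_ : Nonempty (Subgroup.centralizer ({t} : Set P) ≃* (Cfsg.GU 2 K q ⧸ Z))),
    Nonempty (P ≃* Cfsg.PSU 3 K q)

theorem not_m11 {P : Type*} [Group P] [Finite P] [IsSimpleGroup P] (hM : Cfsg.IsM11 P) {F : Type*} [Field F]
    [Fintype F] {N k : ℕ} (hn : Nums F 1 N k) {t : P} {Z : Subgroup (GL (Fin 2) F)} [Z.Normal]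
    (hZo : Odd (Nat.card Z))
    (ι : Matrix.SpecialLinearGroup (Fin 2) F →* Subgroup.centralizer ({t} : Set P)) (hι : Function.Injective ι)
    (hC : Nonempty (Subgroup.centralizer ({t} : Set P) ≃* (GL (Fin 2) F ⧸ Z))) : False := by
  obtain ⟨E⟩ := hC
  have h7920 : Nat.card P = 7920 := hM.2
  set q := Fintype.card F with hq
  have h1 : Nat.card (Subgroup.centralizer ({t} : Set P)) * Nat.card Z = (q ^ 2 - 1) * (q ^ 2 - q) := by
    rw [Nat.card_congr E.toEquiv, ← Subgroup.card_eq_card_quotient_mul_card_subgroup, Matrix.card_GL_field,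
      Fin.prod_univ_two, ← hq]
    simp
  have h2 : Nat.card (Matrix.SpecialLinearGroup (Fin 2) F) ∣ Nat.card (Subgroup.centralizer ({t} : Set P)) :=
    Subgroup.card_dvd_of_injective ι hι
  have h3 : Nat.card (Subgroup.centralizer ({t} : Set P)) ∣ 7920 := by
    rw [← h7920]; exact Subgroup.card_subgroup_dvd_card _
  rw [Cfsg.Agent.ClassicalGeometry.PSL2Basic.card_SL2, ← hq] at h2
  have h5 : q * (q ^ 2 - 1) ∣ 7920 := h2.trans h3
  have hq3 := hn.q3
  have hqo := hn.qodd
  have hns := hn.ns rfl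
  have hNq := hn.q_eq
  have hN := hn.odd
  have hN1 := hn.one_lt
  rw [← hq] at hq3 hqo hns hNq
  have h6 : q < 20 := by
    by_contra hlt
    push Not at hlt
    have h7 : 20 * (20 ^ 2 - 1) ≤ q * (q ^ 2 - 1) := by
      have : 20 ^ 2 ≤ q ^ 2 := Nat.pow_le_pow_left hlt 2
      apply Nat.mul_le_mul hlt
      omega
    have h8 := Nat.le_of_dvd (by norm_num) h5
    omega
  have hcases : q = 5 ∨ q = 9 ∨ q = 11 := by
    clear_value q
    interval_cases q <;> revert h5 hqo <;> decide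
  rcases hcases with h | h | h
  · -- `q = 5`: `4 = N * 2 ^ k`
    rw [h] at hNq
    have h7 : N * 2 ^ k = 4 := by
      have : ((N * 2 ^ k : ℕ) : ℤ) = 4 := by
        push_cast at hNq ⊢
        linarith
      exact_mod_cast this
    have h8 : N ∣ 4 := ⟨2 ^ k, h7.symm⟩
    have h9 := Nat.le_of_dvd (by norm_num) h8
    interval_cases N <;> revert hN h8 <;> decide
  · apply hns
    rw [h]
    exact ⟨3, rfl⟩
  · rw [h] at h1 h2
    set c := Nat.card (Subgroup.centralizer ({t} : Set P)) with hc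
    set w := Nat.card Z with hw
    obtain ⟨c', hc'⟩ := h2
    norm_num at h1 hc'
    have h7 : c' * w = 10 := by
      have : 1320 * (c' * w) = 1320 * 10 := by rw [← mul_assoc, ← hc', h1]
      exact Nat.eq_of_mul_eq_mul_left (by norm_num) this
    have h8 : w ∣ 10 := ⟨c', by rw [← h7, mul_comm]⟩
    have h9 := Nat.le_of_dvd (by norm_num) h8
    have h10 : w = 1 ∨ w = 5 := by
      clear_value w
      interval_cases w <;> revert hZo h8 <;> decide
    have h11 : c = 2640 := by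
      rcases h10 with h10 | h10
      · exfalso
        rw [h10, mul_one] at h7
        rw [hc', h7] at h3
        revert h3; decide
      · rw [h10] at h7
        have : c' = 2 := by omega
        rw [hc', this]
    have hidx : (Subgroup.centralizer ({t} : Set P)).index = 3 := by
      have := Subgroup.card_mul_index (Subgroup.centralizer ({t} : Set P))
      rw [← hc, h11, h7920] at this
      omega
    have hnc : ¬ IsMulCommutative P := by
      apply Cfsg.Agent.SmallSimple.Embed.not_comm_of_card_not_prime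
      rw [h7920]; norm_num
    have hne : Subgroup.centralizer ({t} : Set P) ≠ ⊤ := by
      intro h
      rw [h, Subgroup.index_top] at hidx
      omega
    have := Cfsg.Agent.SmallSimple.Embed.five_le_index hnc _ hne
    omega

namespace Loc

variable {G : Type u} [Group G] {F : Type v} [Field F] [Fintype F]
variable {N k : ℕ} {z e g x0 a1 a2 : G} {L1 L2 : Subgroup G}

/-- `ε = 1` -/
theorem exists_pi_plus [Finite G] (H : Loc F 1 N k z e g x0 a1 a2 L1 L2) (h484 : St484.{u, v} F) :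
    ∃ π : (L1 ⊔ cg g L1 : Subgroup G) →* Matrix.ProjectiveSpecialLinearGroup (Fin 3) F, Function.Surjective π ∧
      π.ker ≤ center _ ∧ commutator (L1 ⊔ cg g L1 : Subgroup G) = ⊤ ∧
      (∀ r : ℕ, r.Prime → r ∣ Nat.card π.ker → r ≠ 2 ∧ r ∣ Fintype.card F - 1) := by
  have := H.isSimple
  obtain ⟨ι, T, f, α, a, t1, u, m, hS⟩ := H.exists_glueSL
  obtain ⟨Z, hZn, hZc, hZo, hE⟩ := GlueEnd.quotGL hS
  have hiso : Nonempty ((Jhat g x0 L1 ⧸ center (Jhat g x0 L1)) ≃* Matrix.ProjectiveSpecialLinearGroup (Fin 3) F) := by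
    rcases h484 _ H.nums.qodd Z hZc hZo H.zbar H.orderOf_zbar hE with h | h
    · exact h
    · exact (not_m11 h H.nums hZo ι hS.glue.inj hE).elim
  obtain ⟨E⟩ := hiso
  obtain ⟨π, h1, h2, h3, h4⟩ := H.exists_pi E
  refine ⟨π, h1, h2, h3, fun r hr hd => ⟨(h4 r hr hd).1, (h4 r hr hd).2.trans ?_⟩⟩
  have hq := H.nums.q_eq
  have : Fintype.card F - 1 = N * 2 ^ k := by
    have h5 := H.nums.q3
    have h6 : ((Fintype.card F - 1 : ℕ) : ℤ) = ((N * 2 ^ k : ℕ) : ℤ) := by
      push_cast [Nat.cast_sub (show 1 ≤ Fintype.card F by omega)]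
      linarith
    exact_mod_cast h6
  rw [this]
  exact dvd_mul_right _ _

/-- `ε = -1` -/
theorem exists_pi_minus [Finite G] (H : Loc F (-1) N k z e g x0 a1 a2 L1 L2) {K : Type w} [Field K] [Fintype K]
    {q : ℕ} (hF : Fintype.card F = q) (hK : Fintype.card K = q ^ 2) (h485 : St485.{u, w} K q) :
    ∃ π : (L1 ⊔ cg g L1 : Subgroup G) →* Cfsg.PSU 3 K q, Function.Surjective π ∧
      π.ker ≤ center _ ∧ commutator (L1 ⊔ cg g L1 : Subgroup G) = ⊤ ∧
      (∀ r : ℕ, r.Prime → r ∣ Nat.card π.ker → r ≠ 2 ∧ r ∣ q + 1) := by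
  have := H.isSimple
  obtain ⟨ι, T, f, α, a, t1, u, m, hS⟩ := H.exists_glueSL
  obtain ⟨Z, hZn, hZc, hZo, hE⟩ := GlueEnd.quotGU hF hK hS
  obtain ⟨E⟩ := h485 _ (by rw [← hF]; exact H.nums.qodd) hK Z hZc hZo H.zbar H.orderOf_zbar hE
  obtain ⟨π, h1, h2, h3, h4⟩ := H.exists_pi E
  refine ⟨π, h1, h2, h3, fun r hr hd => ⟨(h4 r hr hd).1, (h4 r hr hd).2.trans ?_⟩⟩
  have hq := H.nums.q_eq
  have : q + 1 = N * 2 ^ k := by
    have h6 : ((q + 1 : ℕ) : ℤ) = ((N * 2 ^ k : ℕ) : ℤ) := by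
      rw [hF] at hq
      push_cast
      linarith
    exact_mod_cast h6
  rw [this]
  exact dvd_mul_right _ _

end Loc

end Cfsg.Agent.LFourR
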